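import Groth.Agent.GrLC.Basic
import Groth.Agent.VarDim.Algebra
import Groth.Agent.Depth.CM
import Groth.Agent.Dim.Localized
import Mathlib.RingTheory.GradedAlgebra.Radical
import Mathlib.RingTheory.Ideal.MinimalPrime.Noetherian
import Mathlib.RingTheory.Ideal.MinimalPrime.Colon
import Mathlib.RingTheory.Ideal.AssociatedPrime.Localization
import Mathlib.RingTheory.KrullDimension.NonZeroDivisors
import Mathlib.RingTheory.KrullDimension.Polynomial

/-!
# Homogeneous systems of parameters of graded modules over graded algebras over a field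
-/

set_option autoImplicit false
set_option linter.unusedSectionVars false
set_option linter.style.haveILetI false
universe u

open DirectSum MvPolynomial
open Groth.Agent.GrLC

namespace Groth.Agent.GrSegre

variable {k : Type u} [Field k] {R : Type u} [CommRing R] [Algebra k R]
  (𝒜 : ℤ → Submodule k R) [GradedAlgebra 𝒜]

/-- `P` contains all homogeneous elements of positive degree. -/
def Irr (P : Ideal R) : Prop := ∀ n : ℤ, 0 < n → ∀ x ∈ 𝒜 n, x ∈ P

variable (hpos : ∀ n : ℤ, n < 0 → 𝒜 n = ⊥) (h0 : 𝒜 0 = Submodule.span k {(1 : R)})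

include hpos in
theorem eq_zero_of_neg {n : ℤ} (hn : n < 0) {x : R} (hx : x ∈ 𝒜 n) : x = 0 := by
  rw [hpos n hn] at hx
  exact (Submodule.mem_bot k).1 hx

include hpos h0 in
theorem exists_eq_algebraMap {x : R} (hx : x ∈ 𝒜 0) : ∃ c, algebraMap k R c = x := by
  rw [h0, Submodule.mem_span_singleton] at hx
  obtain ⟨c, rfl⟩ := hx
  exact ⟨c, Algebra.algebraMap_eq_smul_one c⟩

include hpos h0 in
theorem isMaximal_of_irr {P : Ideal R} (hP : P ≠ ⊤) (h : Irr 𝒜 P) : P.IsMaximal := by
  have hs : Function.Surjective (algebraMap k (R ⧸ P)) := by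
    intro y
    obtain ⟨x, rfl⟩ := Ideal.Quotient.mk_surjective y
    induction x using homogeneous_induction 𝒜 with
    | zero => exact ⟨0, by simp⟩
    | add a b ha hb =>
      obtain ⟨c, hc⟩ := ha
      obtain ⟨d, hd⟩ := hb
      exact ⟨c + d, by rw [map_add, hc, hd, map_add]⟩
    | hom g x hx =>
      rcases lt_trichotomy g 0 with hg | rfl | hg
      · exact ⟨0, by rw [eq_zero_of_neg 𝒜 hpos hg hx]; simp⟩
      · obtain ⟨c, rfl⟩ := exists_eq_algebraMap 𝒜 hpos h0 hx
        exact ⟨c, rfl⟩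
      · exact ⟨0, by rw [map_zero, eq_comm, Ideal.Quotient.eq_zero_iff_mem]; exact h g hg x hx⟩
  haveI : Nontrivial (R ⧸ P) := Ideal.Quotient.nontrivial_iff.2 hP
  refine Ideal.Quotient.maximal_of_isField P ?_
  exact (MulEquiv.isField (Field.toIsField k)
    (RingEquiv.ofBijective _ ⟨(algebraMap k (R ⧸ P)).injective, hs⟩).symm.toMulEquiv)

/-- The irrelevant ideal. -/
def irrI : Ideal R := Ideal.span (⋃ n ∈ Set.Ioi (0 : ℤ), (𝒜 n : Set R))

theorem irr_irrI : Irr 𝒜 (irrI 𝒜) := fun n hn x hx =>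
  Ideal.subset_span (Set.mem_biUnion (Set.mem_Ioi.2 hn) hx)

include hpos h0 in
theorem cpt_zero_of_mem_irrI {x : R} (hx : x ∈ irrI 𝒜) : cpt 𝒜 0 x = 0 := by
  induction hx using Submodule.span_induction with
  | mem y hy =>
    obtain ⟨n, hn, hyn⟩ := Set.mem_iUnion₂.1 hy
    exact cpt_of_mem_ne 𝒜 hyn (ne_of_gt (Set.mem_Ioi.1 hn))
  | zero => simp
  | add a b _ _ ha hb => rw [map_add, ha, hb, add_zero]
  | smul a b _ hb =>
    induction a using homogeneous_induction 𝒜 with
    | zero => simp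
    | add a a' ha ha' => rw [add_smul, map_add, ha, ha', add_zero]
    | hom g a ha =>
      rw [smul_eq_mul, ← smul_eq_mul, cpt_smul_left' (𝒜 := 𝒜) 𝒜 ha b 0, zero_sub]
      rcases lt_trichotomy g 0 with hg | rfl | hg
      · rw [eq_zero_of_neg 𝒜 hpos hg ha, zero_smul]
      · rw [neg_zero, hb, smul_zero]
      · rw [eq_zero_of_neg 𝒜 hpos (by omega) (cpt_mem 𝒜 (-g) b), smul_zero]

include hpos h0 in
theorem irrI_isMaximal [Nontrivial R] : (irrI 𝒜).IsMaximal := by
  refine isMaximal_of_irr 𝒜 hpos h0 (fun h => ?_) (irr_irrI 𝒜)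
  have := cpt_zero_of_mem_irrI 𝒜 hpos h0 (h ▸ Submodule.mem_top : (1 : R) ∈ irrI 𝒜)
  rw [cpt_of_mem 𝒜 SetLike.GradedOne.one_mem] at this
  exact one_ne_zero this

include hpos h0 in
theorem le_irrI {P : Ideal R} (hP : P.IsHomogeneous 𝒜) (hne : P ≠ ⊤) : P ≤ irrI 𝒜 := by
  intro x hx
  rw [← sum_cpt 𝒜 x]
  refine sum_mem fun g _ => ?_
  have hg : cpt 𝒜 g x ∈ P := hP g hx
  rcases lt_trichotomy g 0 with h | rfl | h
  · rw [eq_zero_of_neg 𝒜 hpos h (cpt_mem 𝒜 g x)]; exact zero_mem _
  · obtain ⟨c, hc⟩ := exists_eq_algebraMap 𝒜 hpos h0 (cpt_mem 𝒜 0 x)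
    by_cases h : c = 0
    · rw [← hc, h, map_zero]; exact zero_mem _
    · exact absurd (Ideal.eq_top_of_isUnit_mem P hg (hc ▸ (IsUnit.mk0 c h).map _)) hne
  · exact irr_irrI 𝒜 g h _ (cpt_mem 𝒜 g x)

theorem isHomogeneous_of_mem_minimalPrimes {J P : Ideal R} (hJ : J.IsHomogeneous 𝒜)
    (hP : P ∈ J.minimalPrimes) : P.IsHomogeneous 𝒜 := by
  have hp : P.IsPrime := hP.1.1
  have hcore := Ideal.IsPrime.homogeneousCore (𝒜 := 𝒜) hp
  have hle : J ≤ (P.homogeneousCore 𝒜).toIdeal := by
    intro x hx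
    rw [← sum_cpt 𝒜 x]
    exact sum_mem fun g _ => Ideal.mem_homogeneousCore_of_homogeneous_of_mem
      ⟨g, cpt_mem 𝒜 g x⟩ (hP.1.2 (hJ g hx))
  have : (P.homogeneousCore 𝒜).toIdeal = P :=
    le_antisymm (Ideal.toIdeal_homogeneousCore_le 𝒜 P)
      (hP.2 ⟨hcore, hle⟩ (Ideal.toIdeal_homogeneousCore_le 𝒜 P))
  rw [← this]
  exact (P.homogeneousCore 𝒜).isHomogeneous

include hpos in
/-- Homogeneous prime avoidance. -/
theorem exists_homogeneous_avoid (S : Finset (Ideal R)) (hprime : ∀ P ∈ S, P.IsPrime)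
    (hhom : ∀ P ∈ S, P.IsHomogeneous 𝒜) (hinc : ∀ P ∈ S, ∀ Q ∈ S, Q ≤ P → Q = P)
    (hirr : ∀ P ∈ S, ¬ Irr 𝒜 P) :
    ∃ (n : ℕ) (f : R), 0 < n ∧ f ∈ 𝒜 (n : ℤ) ∧ ∀ P ∈ S, f ∉ P := by
  classical
  have hsep : ∀ P ∈ S, ∀ U : Finset (Ideal R), U ⊆ S.erase P →
      ∃ (n : ℕ) (a : R), 0 < n ∧ a ∈ 𝒜 (n : ℤ) ∧ a ∉ P ∧ ∀ Q ∈ U, a ∈ Q := by
    intro P hP U hU
    induction U using Finset.induction_on with
    | empty =>
      obtain ⟨n, hn, x, hx, hxP⟩ : ∃ n : ℤ, 0 < n ∧ ∃ x ∈ 𝒜 n, x ∉ P := by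
        simpa [Irr, not_forall] using hirr P hP
      exact ⟨n.toNat, x, by omega, by rwa [Int.toNat_of_nonneg hn.le], hxP, by simp⟩
    | insert Q U hQU ih =>
      obtain ⟨n, a, hn, ha, haP, haU⟩ := ih ((Finset.subset_insert _ _).trans hU)
      have hQ : Q ∈ S.erase P := hU (Finset.mem_insert_self _ _)
      obtain ⟨x, hxQ, hxP⟩ : ∃ x ∈ Q, x ∉ P := SetLike.not_le_iff_exists.1 fun h =>
        (Finset.ne_of_mem_erase hQ) (hinc P hP Q (Finset.mem_of_mem_erase hQ) h)
      obtain ⟨g, hg⟩ : ∃ g, cpt 𝒜 g x ∉ P := by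
        by_contra h
        push Not at h
        exact hxP (by rw [← sum_cpt 𝒜 x]; exact sum_mem fun g _ => h g)
      have hg0 : 0 ≤ g := by
        by_contra h
        exact hg (by rw [eq_zero_of_neg 𝒜 hpos (by omega) (cpt_mem 𝒜 g x)]; exact zero_mem _)
      refine ⟨n + g.toNat, a * cpt 𝒜 g x, by omega, ?_, fun h => ?_, fun Q' hQ' => ?_⟩
      · have := SetLike.mul_mem_graded ha (cpt_mem 𝒜 g x)
        convert this using 2
        omega
      · rcases (hprime P hP).mem_or_mem h with h | h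
        exacts [haP h, hg h]
      · rcases Finset.mem_insert.1 hQ' with rfl | h
        · exact Ideal.mul_mem_left _ _ (hhom Q' (Finset.mem_of_mem_erase hQ) g hxQ)
        · exact Ideal.mul_mem_right _ _ (haU Q' h)
  choose! e a he ha haP haU using fun P (hP : P ∈ S) => hsep P hP (S.erase P) subset_rfl
  let D := ∏ P ∈ S, e P
  have hD : 0 < D := Finset.prod_pos he
  have hdvd : ∀ P ∈ S, e P ∣ D := fun P hP => Finset.dvd_prod_of_mem e hP
  refine ⟨D, ∑ P ∈ S, a P ^ (D / e P), hD, sum_mem fun P hP => ?_, fun P hP h => ?_⟩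
  · have := SetLike.pow_mem_graded (D / e P) (ha P hP)
    convert this using 2
    rw [nsmul_eq_mul]
    exact_mod_cast (Nat.div_mul_cancel (hdvd P hP)).symm
  · rw [← Finset.add_sum_erase S _ hP] at h
    have h2 : ∑ Q ∈ S.erase P, a Q ^ (D / e Q) ∈ P := sum_mem fun Q hQ =>
      Ideal.pow_mem_of_mem _ (haU Q (Finset.mem_of_mem_erase hQ) P
        (Finset.mem_erase.2 ⟨(Finset.ne_of_mem_erase hQ).symm, hP⟩)) _
        (Nat.div_pos (Nat.le_of_dvd hD (hdvd Q (Finset.mem_of_mem_erase hQ)))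
          (he Q (Finset.mem_of_mem_erase hQ)))
    exact haP P hP ((hprime P hP).mem_of_pow_mem _ ((Ideal.add_mem_iff_left _ h2).1 h))

include hpos h0 in
/-- A homogeneous ideal of dimension at most `t` becomes irrelevant after adding `t` forms. -/
theorem exists_params [IsNoetherianRing R] : ∀ (t : ℕ) (J : Ideal R), J.IsHomogeneous 𝒜 →
    ringKrullDim (R ⧸ J) ≤ t → ∃ (f : Fin t → R) (e : Fin t → ℕ), (∀ i, 0 < e i) ∧
      (∀ i, f i ∈ 𝒜 (e i : ℤ)) ∧
      ∀ P : Ideal R, P.IsPrime → J ≤ P → (∀ i, f i ∈ P) → Irr 𝒜 P := by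
  intro t
  induction t with
  | zero =>
    intro J hJ hd
    refine ⟨Fin.elim0, Fin.elim0, fun i => i.elim0, fun i => i.elim0, fun P hP hJP _ => ?_⟩
    obtain ⟨q, hq, hqP⟩ := Ideal.exists_minimalPrimes_le hJP
    haveI := hq.1.1
    have hhom := isHomogeneous_of_mem_minimalPrimes 𝒜 hJ hq
    haveI : Nontrivial R := nontrivial_of_ne (0 : R) 1 fun h => hP.ne_top
      (Ideal.eq_top_of_isUnit_mem P (h ▸ P.zero_mem) isUnit_one)
    have hm := irrI_isMaximal 𝒜 hpos h0
    have hle : q ≤ irrI 𝒜 := le_irrI 𝒜 hpos h0 hhom hq.1.1.ne_top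
    have : q = irrI 𝒜 := by
      by_contra hne
      let a : PrimeSpectrum.zeroLocus (R := R) J := ⟨⟨q, hq.1.1⟩, hq.1.2⟩
      let b : PrimeSpectrum.zeroLocus (R := R) J := ⟨⟨irrI 𝒜, hm.isPrime⟩, hq.1.2.trans hle⟩
      let l : LTSeries (PrimeSpectrum.zeroLocus (R := R) J) :=
        (RelSeries.singleton _ b).cons a (show a < b from lt_of_le_of_ne hle
          fun h => hne (congrArg (fun x => x.1.asIdeal) h))
      have := Order.LTSeries.length_le_krullDim l
      rw [← ringKrullDim_quotient] at this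
      have := this.trans hd
      have h1 : l.length = 1 := rfl
      rw [h1] at this
      norm_cast at this
    intro n hn x hx
    exact hqP (this ▸ irr_irrI 𝒜 n hn x hx)
  | succ t ih =>
    intro J hJ hd
    classical
    have hfin := J.finite_minimalPrimes_of_isNoetherianRing R
    let S := hfin.toFinset.filter fun P => ¬ Irr 𝒜 P
    have hS : ∀ P ∈ S, P ∈ J.minimalPrimes ∧ ¬ Irr 𝒜 P := fun P hP => by
      simpa [S] using hP
    obtain ⟨n, g, hn, hg, hgS⟩ := exists_homogeneous_avoid 𝒜 hpos S (fun P hP => (hS P hP).1.1.1)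
      (fun P hP => isHomogeneous_of_mem_minimalPrimes 𝒜 hJ (hS P hP).1)
      (fun P hP Q hQ h => le_antisymm h ((hS P hP).1.2 (hS Q hQ).1.1 h)) (fun P hP => (hS P hP).2)
    let J' := J ⊔ Ideal.span {g}
    have hJ' : J'.IsHomogeneous 𝒜 := hJ.sup (Ideal.homogeneous_span 𝒜 _ fun x hx => by
      rw [Set.mem_singleton_iff.1 hx]; exact ⟨_, hg⟩)
    have hd' : ringKrullDim (R ⧸ J') ≤ (t : WithBot ℕ∞) := by
      rw [ringKrullDim_quotient]
      refine iSup_le fun l => ?_
      have hJh : J ≤ l.head.1.asIdeal := le_sup_left.trans l.head.2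
      obtain ⟨q, hq, hqP⟩ := Ideal.exists_minimalPrimes_le hJh
      by_cases hirr : Irr 𝒜 q
      · have hmax := isMaximal_of_irr 𝒜 hpos h0 hq.1.1.ne_top hirr
        have hl : l.length = 0 := by
          by_contra h
          have h1 : l.head < l.last := l.strictMono (Fin.lt_def.2 (Nat.pos_of_ne_zero h))
          have := hmax.eq_of_le l.head.1.2.ne_top hqP
          rw [this] at hmax
          exact absurd (hmax.eq_of_le l.last.1.2.ne_top h1.le)
            (fun e => h1.ne (Subtype.ext (PrimeSpectrum.ext e)))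
        rw [hl]; simp
      · have hgq : g ∉ q := hgS q (Finset.mem_filter.2 ⟨hfin.mem_toFinset.2 hq, hirr⟩)
        let incl : PrimeSpectrum.zeroLocus (R := R) J' → PrimeSpectrum.zeroLocus (R := R) J :=
          fun x => ⟨x.1, show J ≤ x.1.asIdeal from le_sup_left.trans x.2⟩
        have hincl : StrictMono incl := fun x y h => h
        let a : PrimeSpectrum.zeroLocus (R := R) J := ⟨⟨q, hq.1.1⟩, hq.1.2⟩
        have hlt : a < (l.map incl hincl).head := by
          rw [LTSeries.head_map]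
          refine lt_of_le_of_ne hqP fun e => hgq ?_
          have : q = l.head.1.asIdeal := congrArg (fun x => x.1.asIdeal) e
          rw [this]
          exact l.head.2 (le_sup_right (a := J) (Ideal.mem_span_singleton_self g))
        have h1 := Order.LTSeries.length_le_krullDim ((l.map incl hincl).cons a hlt)
        rw [← ringKrullDim_quotient] at h1
        have h2 := h1.trans hd
        simp only [RelSeries.cons_length, LTSeries.map_length] at h2
        have h3 : l.length + 1 ≤ t + 1 := by exact_mod_cast h2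
        exact_mod_cast Nat.le_of_succ_le_succ h3
    obtain ⟨f, e, he, hf, hP⟩ := ih J' hJ' hd'
    refine ⟨Fin.cons g f, Fin.cons n e, Fin.cases hn he, Fin.cases (by simpa using hg)
      (by simpa using hf), fun P hPp hJP hfP => hP P hPp ?_ fun i => by simpa using hfP i.succ⟩
    exact sup_le hJP ((Ideal.span_singleton_le_iff_mem _).2 (by simpa using hfP 0))

variable {M : Type u} [AddCommGroup M] [Module R M] [Module k M] [IsScalarTower k R M]
  {τ : Type u} [SetLike τ M] [AddSubgroupClass τ M]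
  (ℳ : ℤ → τ) [DirectSum.Decomposition ℳ] [SetLike.GradedSMul 𝒜 ℳ]

include ℳ in
theorem annihilator_isHomogeneous : (Module.annihilator R M).IsHomogeneous 𝒜 := by
  intro g x hx
  change cpt 𝒜 g x ∈ _
  rw [Module.mem_annihilator] at hx ⊢
  intro m
  induction m using homogeneous_induction ℳ with
  | zero => simp
  | add a b ha hb => rw [smul_add, ha, hb, add_zero]
  | hom i m hm => rw [← cpt_smul_right (𝒜 := 𝒜) ℳ hm x g, hx, map_zero]

include hpos h0 ℳ in
/-- Finiteness over parameters of a common degree. -/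
theorem finite_of_params [Algebra.FiniteType k R] [Module.Finite R M] {r : ℕ} (D : ℕ) (hD : 0 < D)
    (f : Fin r → R) (hf : ∀ i, f i ∈ 𝒜 (D : ℤ))
    (hP : ∀ P : Ideal R, P.IsPrime → Module.annihilator R M ≤ P → (∀ i, f i ∈ P) → Irr 𝒜 P) :
    @Module.Finite (MvPolynomial (Fin r) k) M _ _
      (Module.compHom M (aeval f : MvPolynomial (Fin r) k →ₐ[k] R).toRingHom) := by
  classical
  letI := Module.compHom M (aeval f : MvPolynomial (Fin r) k →ₐ[k] R).toRingHom
  have hsm : ∀ (p : MvPolynomial (Fin r) k) (x : M), p • x = (aeval f p : R) • x := fun p x => rfl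
  let K : Ideal R := Module.annihilator R M ⊔ Ideal.span (Set.range f)
  haveI : Module.Finite k (R ⧸ K) := by
    haveI : Algebra.IsIntegral k (R ⧸ K) := ⟨fun y => by
      obtain ⟨x, rfl⟩ := Ideal.Quotient.mk_surjective y
      induction x using homogeneous_induction 𝒜 with
      | zero => rw [map_zero]; exact isIntegral_zero
      | add a b ha hb => rw [map_add]; exact ha.add hb
      | hom g x hx =>
        rcases lt_trichotomy g 0 with hg | rfl | hg
        · rw [eq_zero_of_neg 𝒜 hpos hg hx, map_zero]; exact isIntegral_zero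
        · obtain ⟨c, rfl⟩ := exists_eq_algebraMap 𝒜 hpos h0 hx
          exact isIntegral_algebraMap
        · have : x ∈ K.radical := by
            rw [Ideal.radical_eq_sInf, Submodule.mem_sInf]
            rintro P ⟨hKP, hPp⟩
            exact hP P hPp (le_sup_left.trans hKP)
              (fun i => hKP (le_sup_right (a := Module.annihilator R M)
                (Ideal.subset_span (Set.mem_range_self i)))) g hg x hx
          obtain ⟨N, hN⟩ := this
          refine ⟨Polynomial.X ^ N, Polynomial.monic_X_pow N, ?_⟩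
          rw [Polynomial.eval₂_X_pow, ← map_pow, Ideal.Quotient.eq_zero_iff_mem]
          exact hN⟩
    exact Algebra.IsIntegral.finite
  obtain ⟨G, hG⟩ := Module.Finite.fg_top (R := R) (M := M)
  obtain ⟨W, hW⟩ := Module.Finite.fg_top (R := k) (M := R ⧸ K)
  choose w hw using fun y : R ⧸ K => Ideal.Quotient.mk_surjective y
  let V : Finset M := (W ×ˢ G).biUnion fun p => (degs ℳ (w p.1 • p.2)).image fun n => cpt ℳ n (w p.1 • p.2)
  let Q : Submodule (MvPolynomial (Fin r) k) M := Submodule.span _ (V : Set M)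
  have hCk : ∀ (c : k) (x : M), (MvPolynomial.C c) • x = c • x := fun c x => by
    rw [hsm, aeval_C, algebraMap_smul]
  have hV : ∀ y ∈ W, ∀ z ∈ G, ∀ n, cpt ℳ n (w y • z) ∈ Q := by
    intro y hy z hz n
    by_cases h : cpt ℳ n (w y • z) = 0
    · rw [h]; exact zero_mem _
    · exact Submodule.subset_span (Finset.mem_coe.2 (Finset.mem_biUnion.2 ⟨(y, z),
        Finset.mem_product.2 ⟨hy, hz⟩, Finset.mem_image.2 ⟨n, mem_degs ℳ |>.2 h, rfl⟩⟩))
  -- decomposition of `R` modulo `K`
  have hdecomp : ∀ a : R, ∃ (c : R ⧸ K → k), a - ∑ y ∈ W, c y • w y ∈ K := by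
    intro a
    have : Ideal.Quotient.mk K a ∈ Submodule.span k (W : Set (R ⧸ K)) := by rw [hW]; trivial
    obtain ⟨c, -, hc⟩ := Submodule.mem_span_finset.1 this
    refine ⟨c, ?_⟩
    rw [← Ideal.Quotient.eq_zero_iff_mem, map_sub, map_sum, ← hc, sub_eq_zero]
    exact Finset.sum_congr rfl fun y _ => by
      rw [← Ideal.Quotient.mkₐ_eq_mk k, map_smul, Ideal.Quotient.mkₐ_eq_mk, hw]
  -- lower bound
  have hspan : ∀ x : M, x ∈ Submodule.span R (G : Set M) := fun x => by rw [hG]; trivial
  have hlow : ∃ lo : ℤ, ∀ (n : ℤ), n < lo → ∀ x : M, cpt ℳ n x = 0 := by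
    let S : Finset ℤ := insert 0 (G.biUnion fun z => degs ℳ z)
    refine ⟨S.min' ⟨0, Finset.mem_insert_self _ _⟩, fun n hn x => ?_⟩
    have key : ∀ z ∈ G, ∀ a : R, cpt ℳ n (a • z) = 0 := by
      intro z hz a
      induction a using homogeneous_induction 𝒜 with
      | zero => simp
      | add a b ha hb => rw [add_smul, map_add, ha, hb, add_zero]
      | hom g a ha =>
        rw [cpt_smul_left' (𝒜 := 𝒜) ℳ ha z n]
        rcases lt_or_ge g 0 with hg | hg
        · rw [eq_zero_of_neg 𝒜 hpos hg ha, zero_smul]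
        · by_contra h
          have hz' : cpt ℳ (n - g) z ≠ 0 := fun h' => h (by rw [h', smul_zero])
          have := Finset.min'_le S (n - g) (Finset.mem_insert_of_mem
            (Finset.mem_biUnion.2 ⟨z, hz, (mem_degs ℳ).2 hz'⟩))
          omega
    obtain ⟨c, -, hc⟩ := Submodule.mem_span_finset.1 (hspan x)
    rw [← hc, map_sum]
    exact Finset.sum_eq_zero fun z hz => key z hz (c z)
  obtain ⟨lo, hlo⟩ := hlow
  have main : ∀ (j : ℕ) (n : ℤ), n < lo + j → ∀ x : M, cpt ℳ n x ∈ Q := by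
    intro j
    induction j with
    | zero => intro n hn x; rw [hlo n (by simpa using hn)]; exact zero_mem _
    | succ j ih =>
      intro n hn x
      obtain ⟨c, -, hc⟩ := Submodule.mem_span_finset.1 (hspan x)
      rw [← hc, map_sum]
      refine sum_mem fun z hz => ?_
      obtain ⟨d, hd⟩ := hdecomp (c z)
      obtain ⟨q, hq, e, he, hqe⟩ := Submodule.mem_sup.1 hd
      obtain ⟨ρ, hρ⟩ := Ideal.mem_span_range_iff_exists_fun.1 he
      have hrepr : c z • z = (∑ y ∈ W, d y • (w y • z)) + ∑ i, f i • (ρ i • z) := by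
        have : c z = (∑ y ∈ W, d y • w y) + (q + ∑ i, ρ i * f i) := by rw [hρ, hqe]; abel
        rw [this, add_smul, add_smul, Module.mem_annihilator.1 hq z, zero_add, Finset.sum_smul,
          Finset.sum_smul]
        congr 1
        · exact Finset.sum_congr rfl fun y _ => smul_assoc _ _ _
        · exact Finset.sum_congr rfl fun i _ => by rw [mul_comm, mul_smul]
      rw [hrepr, map_add, map_sum, map_sum]
      refine add_mem (sum_mem fun y hy => ?_) (sum_mem fun i _ => ?_)
      · rw [← algebraMap_smul R (d y), cpt_smul_left' (𝒜 := 𝒜) ℳ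
          (SetLike.algebraMap_mem_graded 𝒜 (d y)), sub_zero, algebraMap_smul, ← hCk]
        exact Submodule.smul_mem _ _ (hV y hy z hz n)
      · have e1 : f i = (aeval f (MvPolynomial.X i : MvPolynomial (Fin r) k) : R) := (aeval_X f i).symm
        rw [cpt_smul_left' (𝒜 := 𝒜) ℳ (hf i), e1, ← hsm]
        exact Submodule.smul_mem _ _ (ih (n - D) (by push_cast at hn ⊢; omega) _)
  refine ⟨⟨V, eq_top_iff.2 fun x _ => ?_⟩⟩
  rw [← sum_cpt ℳ x]
  exact sum_mem fun n _ => main ((n - lo).toNat + 1) n (by omega) x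

/-- The dimension of a module finite over `X` via a `T`-action. -/
theorem supportDim_eq_of_finite {X T P : Type u} [CommRing X] [IsNoetherianRing X] [CommRing T]
    [Algebra X T] [AddCommGroup P] [Module T P] [Module X P] [IsScalarTower X T P]
    [Module.Finite X P] :
    Module.supportDim T P = ringKrullDim (X ⧸ Module.annihilator X P) := by
  classical
  haveI : Module.Finite T P := Module.Finite.of_restrictScalars_finite X T P
  rw [Module.supportDim_eq_ringKrullDim_quotient_annihilator]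
  let A := Module.annihilator T P
  have hA : Module.annihilator X P = A.comap (algebraMap X T) := by
    ext x
    simp [A, Module.mem_annihilator, algebraMap_smul]
  letI : Algebra (X ⧸ Module.annihilator X P) (T ⧸ A) :=
    (Ideal.quotientMap A (algebraMap X T) hA.le).toAlgebra
  haveI : IsScalarTower X (X ⧸ Module.annihilator X P) (T ⧸ A) :=
    IsScalarTower.of_algebraMap_eq fun x => rfl
  obtain ⟨G, hG⟩ := Module.Finite.fg_top (R := X) (M := P)
  let L : T →ₗ[X] (G → P) :=
    { toFun := fun t g => t • (g : P)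
      map_add' := fun s t => funext fun g => add_smul s t _
      map_smul' := fun x t => funext fun g => smul_assoc x t _ }
  have hL : ∀ t, L t = 0 ↔ t ∈ A := fun t => by
    refine ⟨fun h => Module.mem_annihilator.2 fun p => ?_, fun h => funext fun g =>
      Module.mem_annihilator.1 h _⟩
    have hp : p ∈ Submodule.span X (G : Set P) := by rw [hG]; trivial
    induction hp using Submodule.span_induction with
    | mem g hg => exact congrFun h ⟨g, hg⟩
    | zero => simp
    | add a b _ _ ha hb => rw [smul_add, ha, hb, add_zero]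
    | smul c a _ ha => rw [smul_comm, ha, smul_zero]
  let L' : (T ⧸ A) →ₗ[X] (G → P) :=
    (Submodule.liftQ (A.restrictScalars X) L fun t ht => (hL t).2 ht) ∘ₗ
      (Submodule.Quotient.restrictScalarsEquiv X A).symm.toLinearMap
  have hL' : Function.Injective L' := by
    rw [← LinearMap.ker_eq_bot, LinearMap.ker_eq_bot']
    intro y hy
    obtain ⟨t, rfl⟩ := Submodule.Quotient.mk_surjective A y
    exact (Submodule.Quotient.mk_eq_zero A).2 ((hL t).1 hy)
  haveI : Module.Finite X (T ⧸ A) := Module.Finite.of_injective L' hL'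
  haveI : Module.Finite (X ⧸ Module.annihilator X P) (T ⧸ A) :=
    Module.Finite.of_restrictScalars_finite X _ _
  haveI : FaithfulSMul (X ⧸ Module.annihilator X P) (T ⧸ A) :=
    (faithfulSMul_iff_algebraMap_injective _ _).2
      (Ideal.quotientMap_injective' (h := hA.ge))
  exact VarDim.ringKrullDim_eq_of_isIntegral

include hpos h0 ℳ in
/-- A homogeneous system of parameters of every sufficiently divisible degree. -/
theorem exists_sop [Algebra.FiniteType k R] [Module.Finite R M] {r : ℕ}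
    (hr : Module.supportDim R M = r) : ∃ d : ℕ, 0 < d ∧ ∀ e : ℕ, 0 < e → ∃ f : Fin r → R,
      (∀ i, f i ∈ 𝒜 ((d * e : ℕ) : ℤ)) ∧
      @Module.Finite (MvPolynomial (Fin r) k) M _ _
        (Module.compHom M (aeval f : MvPolynomial (Fin r) k →ₐ[k] R).toRingHom) ∧
      ∀ p : MvPolynomial (Fin r) k, (∀ x : M, (aeval f p : R) • x = 0) → p = 0 := by
  classical
  haveI := Algebra.FiniteType.isNoetherianRing k R
  have hdim : ringKrullDim (R ⧸ Module.annihilator R M) = r := by
    rw [← Module.supportDim_eq_ringKrullDim_quotient_annihilator, hr]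
  obtain ⟨g, e0, he0, hg, hP⟩ := exists_params 𝒜 hpos h0 r _ (annihilator_isHomogeneous 𝒜 ℳ) hdim.le
  refine ⟨∏ i, e0 i, Finset.prod_pos fun i _ => he0 i, fun e he => ?_⟩
  let D := (∏ i, e0 i) * e
  have hD : 0 < D := Nat.mul_pos (Finset.prod_pos fun i _ => he0 i) he
  have hdvd : ∀ i, e0 i ∣ D := fun i => (Finset.dvd_prod_of_mem e0 (Finset.mem_univ i)).mul_right e
  let f : Fin r → R := fun i => g i ^ (D / e0 i)
  have hf : ∀ i, f i ∈ 𝒜 (D : ℤ) := fun i => by
    have := SetLike.pow_mem_graded (D / e0 i) (hg i)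
    convert this using 2
    rw [nsmul_eq_mul]
    exact_mod_cast (Nat.div_mul_cancel (hdvd i)).symm
  have hP' : ∀ P : Ideal R, P.IsPrime → Module.annihilator R M ≤ P → (∀ i, f i ∈ P) → Irr 𝒜 P :=
    fun P hPp hA hfP => hP P hPp hA fun i => hPp.mem_of_pow_mem _ (hfP i)
  have hfin := finite_of_params 𝒜 hpos h0 ℳ D hD f hf hP'
  refine ⟨f, hf, hfin, fun p hp => ?_⟩
  by_contra hne
  letI := Module.compHom M (aeval f : MvPolynomial (Fin r) k →ₐ[k] R).toRingHom
  letI : Algebra (MvPolynomial (Fin r) k) R :=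
    (aeval f : MvPolynomial (Fin r) k →ₐ[k] R).toRingHom.toAlgebra
  haveI : IsScalarTower (MvPolynomial (Fin r) k) R M :=
    IsScalarTower.of_algebraMap_smul fun _ _ => rfl
  haveI := hfin
  have h1 := supportDim_eq_of_finite (X := MvPolynomial (Fin r) k) (T := R) (P := M)
  have h2 : Ideal.span {p} ≤ Module.annihilator (MvPolynomial (Fin r) k) M :=
    (Ideal.span_singleton_le_iff_mem _).2 (Module.mem_annihilator.2 hp)
  have h3 := ringKrullDim_le_of_surjective (Ideal.Quotient.factor h2)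
    (Ideal.Quotient.factor_surjective h2)
  have h4 := ringKrullDim_quotient_succ_le_of_nonZeroDivisor
    (mem_nonZeroDivisors_of_ne_zero hne)
  rw [← h1, hr] at h3
  have h5 := (add_le_add h3 le_rfl).trans h4
  rw [MvPolynomial.ringKrullDim_of_isNoetherianRing, ringKrullDim_eq_zero_of_field] at h5
  simp only [zero_add, Nat.card_fin] at h5
  have h6 : r + 1 ≤ r := by exact_mod_cast h5
  omega

include hpos h0 ℳ in
/-- Homogeneous elements of a Cohen–Macaulay module are torsion free over parameters. -/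
theorem torsionFree_of_cm [Algebra.FiniteType k R] [Module.Finite R M] {r : ℕ}
    (hr : Module.supportDim R M = r)
    (hcm : ∀ (q : Ideal R) [q.IsPrime], Subsingleton (LocalizedModule q.primeCompl M) ∨
      LocCoh.IsCohenMacaulayModule (Localization.AtPrime q) (LocalizedModule q.primeCompl M))
    (f : Fin r → R)
    (hfin : @Module.Finite (MvPolynomial (Fin r) k) M _ _
      (Module.compHom M (aeval f : MvPolynomial (Fin r) k →ₐ[k] R).toRingHom))
    {i : ℤ} {m : M} (hm : m ∈ ℳ i) (hm0 : m ≠ 0) (p : MvPolynomial (Fin r) k)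
    (hp : (aeval f p : R) • m = 0) : p = 0 := by
  classical
  by_contra hne
  haveI := Algebra.FiniteType.isNoetherianRing k R
  let I : Ideal R := (⊥ : Submodule R M).colon {m}
  have hmemI : ∀ x, x ∈ I ↔ x • m = 0 := fun x => by
    rw [Submodule.mem_colon_singleton, Submodule.mem_bot]
  have hIhom : I.IsHomogeneous 𝒜 := by
    intro g x hx
    change cpt 𝒜 g x ∈ I
    rw [hmemI] at hx ⊢
    rw [← cpt_smul_right (𝒜 := 𝒜) ℳ hm x g, hx, map_zero]
  have hItop : I ≠ ⊤ := fun h => hm0 (by simpa using (hmemI 1).1 (h ▸ Submodule.mem_top))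
  obtain ⟨M0, hM0, hIM0⟩ := Ideal.exists_le_maximal I hItop
  haveI := hM0
  obtain ⟨Q, hQ, -⟩ := Ideal.exists_minimalPrimes_le hIM0
  haveI := hQ.1.1
  have hQhom := isHomogeneous_of_mem_minimalPrimes 𝒜 hIhom hQ
  have hQass : Q ∈ associatedPrimes R M := by
    obtain ⟨x', hx'⟩ := Submodule.exists_eq_colon_of_mem_minimalPrimes hQ
    exact ⟨hQ.1.1, x', by rw [← hx', hQ.1.1.radical]⟩
  haveI : Nontrivial R := nontrivial_of_ne (0 : R) 1 fun h => hQ.1.1.ne_top
    (Ideal.eq_top_of_isUnit_mem Q (h ▸ Q.zero_mem) isUnit_one)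
  haveI hm' := irrI_isMaximal 𝒜 hpos h0
  have hQm : Q ≤ irrI 𝒜 := le_irrI 𝒜 hpos h0 hQhom hQ.1.1.ne_top
  let A := Localization.AtPrime (irrI 𝒜)
  let ML := LocalizedModule (irrI 𝒜).primeCompl M
  let QA : Ideal A := Q.map (algebraMap R A)
  have hdisj : Disjoint ((irrI 𝒜).primeCompl : Set R) (Q : Set R) :=
    Set.disjoint_left.2 fun x hx hxQ => hx (hQm hxQ)
  have hcomap : QA.comap (algebraMap R A) = Q :=
    IsLocalization.comap_map_of_isPrime_disjoint (irrI 𝒜).primeCompl A hQ.1.1 hdisj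
  haveI hQA : QA.IsPrime :=
    IsLocalization.isPrime_of_isPrime_disjoint (irrI 𝒜).primeCompl A Q hQ.1.1 hdisj
  have hQAass : QA ∈ associatedPrimes A ML :=
    Module.associatedPrimes.mem_associatedPrimes_of_comap_mem_associatedPrimes_of_isLocalizedModule
      (irrI 𝒜).primeCompl (LocalizedModule.mkLinearMap (irrI 𝒜).primeCompl M) QA (hcomap ▸ hQass)
  have hMLcm : LocCoh.IsCohenMacaulayModule A ML := by
    refine (hcm (irrI 𝒜)).resolve_left fun h => ?_
    obtain ⟨hp', x, hx⟩ := hQAass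
    refine hp'.ne_top ?_
    rw [hx, Subsingleton.elim x 0, Ideal.radical_eq_top, Submodule.colon_eq_top_iff_subset]
    simp
  have h1 : ringKrullDim (A ⧸ QA) = Module.supportDim A ML :=
    Depth.ringKrullDim_quotient_associatedPrime hMLcm hQAass
  have h2 : ringKrullDim (A ⧸ QA) ≤ ringKrullDim (R ⧸ Q) := by
    rw [ringKrullDim_quotient, ringKrullDim_quotient]
    refine Order.krullDim_le_of_strictMono
      (fun x => ⟨PrimeSpectrum.comap (algebraMap R A) x.1,
        show Q ≤ _ from hcomap.ge.trans (Ideal.comap_mono x.2)⟩) fun x y h => ?_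
    refine lt_of_le_of_ne (Ideal.comap_mono h.le) fun e => h.ne (Subtype.ext ?_)
    exact PrimeSpectrum.localization_comap_injective A (irrI 𝒜).primeCompl (congrArg Subtype.val e)
  have h3 : (r : WithBot ℕ∞) ≤ Module.supportDim A ML := by
    rw [Dim.supportDim_atPrime]
    have hdim : ringKrullDim (R ⧸ Module.annihilator R M) = r := by
      rw [← Module.supportDim_eq_ringKrullDim_quotient_annihilator, hr]
    rw [ringKrullDim_quotient] at hdim
    obtain ⟨l, hl⟩ := Order.le_krullDim_iff.1 hdim.ge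
    obtain ⟨q, hq, hqP⟩ := Ideal.exists_minimalPrimes_le
      (show Module.annihilator R M ≤ l.head.1.asIdeal from l.head.2)
    haveI := hq.1.1
    have hqhom := isHomogeneous_of_mem_minimalPrimes 𝒜 (annihilator_isHomogeneous 𝒜 ℳ) hq
    have hqm : q ≤ irrI 𝒜 := le_irrI 𝒜 hpos h0 hqhom hq.1.1.ne_top
    have hr' : (r : WithBot ℕ∞) ≤ ringKrullDim (R ⧸ q) := by
      rw [ringKrullDim_quotient, Order.le_krullDim_iff]
      refine ⟨LTSeries.mk l.length (fun j => ⟨(l j).1, show q ≤ (l j).1.asIdeal from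
        hqP.trans (show l.head ≤ l j from l.monotone (Fin.zero_le _))⟩) fun a b h => l.strictMono h, hl⟩
    let mq : Ideal (R ⧸ q) := (irrI 𝒜).map (Ideal.Quotient.mk q)
    haveI : mq.IsMaximal := by
      refine Ideal.IsMaximal.map_of_surjective_of_ker_le Ideal.Quotient.mk_surjective ?_
      rwa [Ideal.mk_ker]
    haveI := VarDim.finiteType_quotient k R q
    rw [← VarDim.height_eq_ringKrullDim_of_isMaximal k (R ⧸ q) mq] at hr'
    rw [PrimeSpectrum.height_eq_orderHeight (⟨mq, inferInstance⟩ : PrimeSpectrum (R ⧸ q))] at hr'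
    obtain ⟨s, hs, hsl⟩ := Order.exists_series_of_le_height
      (⟨mq, inferInstance⟩ : PrimeSpectrum (R ⧸ q)) (n := r) (by exact_mod_cast hr')
    refine Order.le_krullDim_iff.2 ⟨LTSeries.mk s.length (fun j =>
      ⟨PrimeSpectrum.comap (Ideal.Quotient.mk q) (s j), ?_, ?_⟩) fun a b h => ?_, hsl⟩
    · rw [Module.mem_support_iff_of_finite]
      refine hq.1.2.trans fun x hx => ?_
      rw [PrimeSpectrum.comap_asIdeal, Ideal.mem_comap, Ideal.Quotient.eq_zero_iff_mem.2 hx]
      exact zero_mem _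
    · have : (s j).asIdeal ≤ mq := by
        have := s.monotone (Fin.le_last j)
        rw [← RelSeries.last, hs] at this
        exact this
      refine (Ideal.comap_mono this).trans_eq ?_
      rw [Ideal.comap_map_of_surjective _ Ideal.Quotient.mk_surjective, ← RingHom.ker_eq_comap_bot,
        Ideal.mk_ker, sup_eq_left.2 hqm]
    · exact lt_of_le_of_ne (Ideal.comap_mono (s.strictMono h).le) fun e => (s.strictMono h).ne
        (PrimeSpectrum.comap_injective_of_surjective _ Ideal.Quotient.mk_surjective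
          (congrArg Subtype.val e))
  -- polynomial parameters
  letI := Module.compHom M (aeval f : MvPolynomial (Fin r) k →ₐ[k] R).toRingHom
  letI : Algebra (MvPolynomial (Fin r) k) R :=
    (aeval f : MvPolynomial (Fin r) k →ₐ[k] R).toRingHom.toAlgebra
  haveI : IsScalarTower (MvPolynomial (Fin r) k) R M :=
    IsScalarTower.of_algebraMap_smul fun _ _ => rfl
  have hpQ : (aeval f p : R) ∈ Q := hQ.1.2 ((hmemI _).2 hp)
  have hQA' : Module.annihilator R M ≤ Q := fun x hx =>
    hQ.1.2 ((hmemI x).2 (Module.mem_annihilator.1 hx m))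
  -- `R ⧸ Q` is finite over `k[X]/(p)`
  haveI := hfin
  let π : MvPolynomial (Fin r) k →+* R ⧸ Q := (Ideal.Quotient.mk Q).comp (algebraMap _ R)
  have hπ : π.IsIntegral := by
    obtain ⟨G, hG⟩ := Module.Finite.fg_top (R := MvPolynomial (Fin r) k) (M := M)
    intro y
    obtain ⟨a, rfl⟩ := Ideal.Quotient.mk_surjective y
    obtain ⟨P, hPmon, hPann⟩ := LinearMap.exists_monic_and_aeval_eq_zero (MvPolynomial (Fin r) k)
      (Algebra.lsmul (MvPolynomial (Fin r) k) (MvPolynomial (Fin r) k) M a)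
    refine ⟨P, hPmon, ?_⟩
    rw [← Polynomial.hom_eval₂]
    refine Ideal.Quotient.eq_zero_iff_mem.2 (hQA' (Module.mem_annihilator.2 fun x => ?_))
    have := DFunLike.congr_fun hPann x
    rw [Polynomial.aeval_algHom_apply, LinearMap.zero_apply] at this
    exact this
  have hker : Ideal.span {p} ≤ RingHom.ker π := by
    rw [Ideal.span_singleton_le_iff_mem, RingHom.mem_ker]
    exact Ideal.Quotient.eq_zero_iff_mem.2 hpQ
  letI : Algebra (MvPolynomial (Fin r) k ⧸ RingHom.ker π) (R ⧸ Q) := (RingHom.kerLift π).toAlgebra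
  haveI : Algebra.IsIntegral (MvPolynomial (Fin r) k ⧸ RingHom.ker π) (R ⧸ Q) := ⟨fun y => by
    obtain ⟨P, hPm, hPe⟩ := hπ y
    refine ⟨P.map (Ideal.Quotient.mk _), hPm.map _, ?_⟩
    rw [Polynomial.eval₂_map]
    exact hPe⟩
  haveI : FaithfulSMul (MvPolynomial (Fin r) k ⧸ RingHom.ker π) (R ⧸ Q) :=
    (faithfulSMul_iff_algebraMap_injective _ _).2 (RingHom.kerLift_injective π)
  have h4 : ringKrullDim (R ⧸ Q) = ringKrullDim (MvPolynomial (Fin r) k ⧸ RingHom.ker π) :=
    VarDim.ringKrullDim_eq_of_isIntegral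
  have h5 := ringKrullDim_le_of_surjective (Ideal.Quotient.factor hker)
    (Ideal.Quotient.factor_surjective hker)
  have h6 := ringKrullDim_quotient_succ_le_of_nonZeroDivisor
    (mem_nonZeroDivisors_of_ne_zero hne)
  have h7 : (r : WithBot ℕ∞) ≤ ringKrullDim (MvPolynomial (Fin r) k ⧸ Ideal.span {p}) :=
    ((h3.trans (h1 ▸ h2)).trans h4.le).trans h5
  have h8 := (add_le_add h7 le_rfl).trans h6
  rw [MvPolynomial.ringKrullDim_of_isNoetherianRing, ringKrullDim_eq_zero_of_field] at h8
  simp only [zero_add, Nat.card_fin] at h8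
  have h9 : r + 1 ≤ r := by exact_mod_cast h8
  omega

end Groth.Agent.GrSegre
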