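import Groth.Agent.GrSegre.Proj
import Groth.Agent.GrSegre.Sop
import Groth.Agent.GrTransfer.Main
import Groth.Agent.GrLC.RadCongr
import Groth.Agent.GrLC.Pieces
import Mathlib.RingTheory.FiniteType
import Mathlib.LinearAlgebra.Basis.VectorSpace

/-!
# `M ⊗ N` as a bigraded module over `R ⊗ S` and the local cohomology at `R₊ ⊗ S`

`gr_bigr_left_iff`: the piece `(u, v)` of `H^i_{R₊ ⊗ S}(M ⊗ N)` vanishes iff `N_v = 0` or `H^i_{R₊}(M)_u = 0`.
-/

set_option autoImplicit false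
set_option linter.unusedSectionVars false
set_option linter.style.haveILetI false
universe u

open DirectSum TensorProduct CategoryTheory
open Groth.Agent.GrLC

namespace Groth.Agent.GrSegre

section MapAdd

variable {R : Type u} [CommRing R] (I : Ideal R) (i : ℕ) {M N : Type u} [AddCommGroup M] [Module R M]
  [AddCommGroup N] [Module R N]

theorem H_map_add (f g : M →ₗ[R] N) (x : LocCoh.H I i M) :
    LocCohElt.map I i (f + g) x = LocCohElt.map I i f x + LocCohElt.map I i g x := by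
  obtain ⟨n, e, rfl⟩ := LocCohElt.exists_mk I i M x
  rw [LocCohElt.map_mk, LocCohElt.map_mk, LocCohElt.map_mk, ← map_add, ← Abelian.Ext.comp_add,
    ← Abelian.Ext.mk₀_add]
  rfl

theorem H_map_zero (x : LocCoh.H I i M) : LocCohElt.map I i (0 : M →ₗ[R] N) x = 0 := by
  have h := H_map_add I i (0 : M →ₗ[R] N) 0 x
  rw [add_zero] at h
  simpa using h

theorem H_map_sum {κ : Type*} (s : Finset κ) (f : κ → M →ₗ[R] N) (x : LocCoh.H I i M) :
    LocCohElt.map I i (∑ a ∈ s, f a) x = ∑ a ∈ s, LocCohElt.map I i (f a) x := by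
  classical
  induction s using Finset.induction_on with
  | empty => simpa using H_map_zero I i x
  | insert a s ha ih => rw [Finset.sum_insert ha, Finset.sum_insert ha, H_map_add, ih]

end MapAdd

/-- A piece of a module which is a finite sum of copies of `M` through homogeneous maps vanishes
as soon as the piece of `M` does; conversely when `M` is a homogeneous retract. -/
theorem gr_eq_bot_iff_of_retracts {ι : Type} [AddCommGroup ι] [DecidableEq ι] {R : Type u} [CommRing R]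
    [IsNoetherianRing R] {σ : Type u} [SetLike σ R] [AddSubgroupClass σ R] {𝒜 : ι → σ} [GradedRing 𝒜]
    (a : HomogeneousIdeal 𝒜) {M X : Type u} [AddCommGroup M] [Module R M] [AddCommGroup X] [Module R X]
    {τ τ' : Type u} [SetLike τ M] [AddSubgroupClass τ M] [SetLike τ' X] [AddSubgroupClass τ' X]
    (ℳ : ι → τ) [DirectSum.Decomposition ℳ] [SetLike.GradedSMul 𝒜 ℳ]
    (𝒳 : ι → τ') [DirectSum.Decomposition 𝒳] [SetLike.GradedSMul 𝒜 𝒳]
    {m : ℕ} (inc : Fin m → M →ₗ[R] X) (prj : Fin m → X →ₗ[R] M)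
    (hinc : ∀ a, _root_.GrLC.IsGrHom ℳ 𝒳 (inc a)) (hprj : ∀ a, _root_.GrLC.IsGrHom 𝒳 ℳ (prj a))
    (hid : ∑ a, inc a ∘ₗ prj a = LinearMap.id)
    (hret : ∀ a, prj a ∘ₗ inc a = LinearMap.id) (i : ℕ) (g : ι) :
    LC.gr 𝒳 a i g = ⊥ ↔ m = 0 ∨ LC.gr ℳ a i g = ⊥ := by
  rw [AddSubgroup.eq_bot_iff_forall, AddSubgroup.eq_bot_iff_forall]
  constructor
  · intro h
    rcases Nat.eq_zero_or_pos m with hm | hm
    · exact Or.inl hm
    · refine Or.inr fun x hx => ?_
      have h0 := h _ (LC.map_mem_gr a i (hinc ⟨0, hm⟩) hx)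
      rw [← LocCohElt.map_id a.toIdeal i x, ← hret ⟨0, hm⟩, ← LocCohElt.map_comp, h0, map_zero]
  · intro h x hx
    rw [← LocCohElt.map_id a.toIdeal i x, ← hid, H_map_sum]
    refine Finset.sum_eq_zero fun b _ => ?_
    rcases h with rfl | h
    · exact b.elim0
    · rw [← LocCohElt.map_comp, h _ (LC.map_mem_gr a i (hprj b) hx), map_zero]

variable {k : Type u} [Field k]
variable {R S : Type u} [CommRing R] [CommRing S] [Algebra k R] [Algebra k S]
  (𝒜 : ℤ → Submodule k R) [GradedAlgebra 𝒜] (ℬ : ℤ → Submodule k S) [GradedAlgebra ℬ]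
variable {M N : Type u} [AddCommGroup M] [Module R M] [Module k M] [IsScalarTower k R M]
  [AddCommGroup N] [Module S N] [Module k N] [IsScalarTower k S N]
  {τ τ' : Type u} [SetLike τ M] [AddSubgroupClass τ M] [SetLike τ' N] [AddSubgroupClass τ' N]
  (ℳ : ℤ → τ) [DirectSum.Decomposition ℳ] [SetLike.GradedSMul 𝒜 ℳ]
  (𝒩 : ℤ → τ') [DirectSum.Decomposition 𝒩] [SetLike.GradedSMul ℬ 𝒩]

variable (k) in
/-- The piece `M_u ⊗ N_v`. -/
def biPiece (d : ℤ × ℤ) : AddSubgroup (M ⊗[k] N) :=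
  (Submodule.span k {x : M ⊗[k] N | ∃ a ∈ ℳ d.1, ∃ b ∈ 𝒩 d.2, x = a ⊗ₜ[k] b}).toAddSubgroup

theorem tmul_mem_biPiece {u v : ℤ} {a : M} (ha : a ∈ ℳ u) {b : N} (hb : b ∈ 𝒩 v) :
    a ⊗ₜ[k] b ∈ biPiece k ℳ 𝒩 (u, v) :=
  Submodule.subset_span ⟨a, ha, b, hb, rfl⟩

theorem biPiece_induction {d : ℤ × ℤ} {p : (x : M ⊗[k] N) → x ∈ biPiece k ℳ 𝒩 d → Prop}
    (zero : p 0 (zero_mem _))
    (tmul : ∀ a (ha : a ∈ ℳ d.1) b (hb : b ∈ 𝒩 d.2), p (a ⊗ₜ[k] b) (tmul_mem_biPiece ℳ 𝒩 ha hb))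
    (add : ∀ x y hx hy, p x hx → p y hy → p (x + y) (add_mem hx hy))
    (smul : ∀ (c : k) x hx, p x hx → p (c • x) (Submodule.smul_mem _ c hx))
    {x : M ⊗[k] N} (hx : x ∈ biPiece k ℳ 𝒩 d) : p x hx := by
  have hx' : x ∈ Submodule.span k {x : M ⊗[k] N | ∃ a ∈ ℳ d.1, ∃ b ∈ 𝒩 d.2, x = a ⊗ₜ[k] b} := hx
  induction hx' using Submodule.span_induction with
  | mem y hy => obtain ⟨a, ha, b, hb, rfl⟩ := hy; exact tmul a ha b hb
  | zero => exact zero
  | add a b ha' hb' ha hb => exact add a b ha' hb' (ha ha') (hb hb')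
  | smul c a ha' ha => exact smul c a ha' (ha ha')

theorem segrePiece_eq (n : ℤ) :
    (_root_.GrSeg.segrePiece k ℳ 𝒩 n : Set (M ⊗[k] N)) = biPiece k ℳ 𝒩 (n, n) := rfl

include 𝒜 ℬ in
theorem isInternal_biPiece : DirectSum.IsInternal (biPiece k ℳ 𝒩) := by
  refine isInternal_of_proj _
    (fun d => (TensorProduct.map (cptₗ 𝒜 ℳ d.1) (cptₗ ℬ 𝒩 d.2)).toAddMonoidHom) ?_ ?_ ?_
  · intro d x hx
    induction hx using biPiece_induction with
    | zero => simp
    | tmul a ha b hb => simp [cpt_of_mem ℳ ha, cpt_of_mem 𝒩 hb]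
    | add x y _ _ hx hy => rw [map_add, hx, hy]
    | smul c x _ hx => exact ((TensorProduct.map _ _).map_smul c x).trans (congrArg (c • ·) hx)
  · intro d e x hx hne
    induction hx using biPiece_induction with
    | zero => simp
    | tmul a ha b hb =>
      by_cases h1 : d.1 = e.1
      · have h2 : d.2 ≠ e.2 := fun h2 => hne (Prod.ext h1 h2)
        simp [cpt_of_mem_ne 𝒩 hb h2]
      · simp [cpt_of_mem_ne ℳ ha h1]
    | add x y _ _ hx hy => rw [map_add, hx, hy, add_zero]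
    | smul c x _ hx =>
      exact ((TensorProduct.map _ _).map_smul c x).trans ((congrArg (c • ·) hx).trans (smul_zero c))
  · intro x
    induction x using TensorProduct.induction_on with
    | zero => exact zero_mem _
    | add a b ha hb => exact add_mem ha hb
    | tmul a b =>
      classical
      rw [← sum_cpt ℳ a, ← sum_cpt 𝒩 b, sum_tmul]
      refine sum_mem fun u _ => ?_
      rw [tmul_sum]
      exact sum_mem fun v _ =>
        AddSubgroup.mem_iSup_of_mem (u, v) (tmul_mem_biPiece ℳ 𝒩 (cpt_mem ℳ u a) (cpt_mem 𝒩 v b))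

theorem act_mem {p : ℤ × ℤ} {a : R ⊗[k] S} (ha : a ∈ biPiece k 𝒜 ℬ p) {d : ℤ × ℤ} {x : M ⊗[k] N}
    (hx : x ∈ biPiece k ℳ 𝒩 d) :
    _root_.GrSeg.act k R S M N a x ∈ biPiece k ℳ 𝒩 (p + d) := by
  induction ha using biPiece_induction with
  | zero => simp
  | tmul r hr s hs =>
    induction hx using biPiece_induction with
    | zero => simp
    | tmul m hm y hy =>
      rw [_root_.GrSeg.act_tmul]
      exact tmul_mem_biPiece ℳ 𝒩 (smul_mem_gr (𝒜 := 𝒜) (ℳ := ℳ) hr hm)
        (smul_mem_gr (𝒜 := ℬ) (ℳ := 𝒩) hs hy)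
    | add x y _ _ hx hy => rw [map_add]; exact add_mem hx hy
    | smul c x _ hx => rw [map_smul]; exact Submodule.smul_mem _ c hx
  | add x y _ _ hx hy => rw [map_add, LinearMap.add_apply]; exact add_mem hx hy
  | smul c y _ hy => rw [map_smul, LinearMap.smul_apply]; exact Submodule.smul_mem _ c hy

/-- The bigrading of `R ⊗ S`. -/
noncomputable instance biGradedRing : GradedRing (biPiece k 𝒜 ℬ) where
  one_mem := by
    rw [Algebra.TensorProduct.one_def]
    exact tmul_mem_biPiece (k := k) 𝒜 ℬ (u := 0) (v := 0) SetLike.GradedOne.one_mem SetLike.GradedOne.one_mem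
  mul_mem i j x y hx hy := by
    induction hx using biPiece_induction with
    | zero => simp
    | tmul a ha b hb =>
      induction hy using biPiece_induction with
      | zero => simp
      | tmul c hc d hd =>
        rw [Algebra.TensorProduct.tmul_mul_tmul]
        exact tmul_mem_biPiece (k := k) 𝒜 ℬ (SetLike.mul_mem_graded ha hc) (SetLike.mul_mem_graded hb hd)
      | add x y _ _ hx hy => rw [mul_add]; exact add_mem hx hy
      | smul c x _ hx => rw [mul_smul_comm]; exact Submodule.smul_mem _ c hx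
    | add x y _ _ hx hy => rw [add_mul]; exact add_mem hx hy
    | smul c x _ hx => rw [smul_mul_assoc]; exact Submodule.smul_mem _ c hx
  toDecomposition := (isInternal_biPiece 𝒜 ℬ 𝒜 ℬ).chooseDecomposition

/-- `M ⊗ N` as a bigraded module over `R ⊗ S`. -/
noncomputable def biGMod : _root_.GrLC.GMod.{u} (biPiece k 𝒜 ℬ) :=
  { carrier := M ⊗[k] N
    mod := Module.compHom (M ⊗[k] N) (actHom k R S M N).toRingHom
    gr := biPiece k ℳ 𝒩
    dec := (isInternal_biPiece 𝒜 ℬ ℳ 𝒩).chooseDecomposition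
    gsmul :=
      letI := Module.compHom (M ⊗[k] N) (actHom k R S M N).toRingHom
      ⟨fun _ _ _ _ ha hx => act_mem 𝒜 ℬ ℳ 𝒩 ha hx⟩ }

theorem biGMod_smul (a : R ⊗[k] S) (x : M ⊗[k] N) :
    (a • (show (biGMod 𝒜 ℬ ℳ 𝒩).carrier from x) : (biGMod 𝒜 ℬ ℳ 𝒩).carrier) =
      _root_.GrSeg.act k R S M N a x := rfl

/-- `R₊ ⊗ S`. -/
noncomputable def leftI : HomogeneousIdeal (biPiece k 𝒜 ℬ) :=
  ⟨(irrI 𝒜).map (Algebra.TensorProduct.includeLeftRingHom : R →+* R ⊗[k] S), by
    rw [irrI, Ideal.map_span]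
    refine Ideal.homogeneous_span _ _ ?_
    rintro _ ⟨x, hx, rfl⟩
    obtain ⟨n, -, hn⟩ := Set.mem_iUnion₂.1 hx
    exact ⟨(n, 0), tmul_mem_biPiece (k := k) 𝒜 ℬ hn SetLike.GradedOne.one_mem⟩⟩

/-- `R ⊗ S₊`. -/
noncomputable def rightI : HomogeneousIdeal (biPiece k 𝒜 ℬ) :=
  ⟨(irrI ℬ).map (Algebra.TensorProduct.includeRight : S →ₐ[k] R ⊗[k] S).toRingHom, by
    rw [irrI, Ideal.map_span]
    refine Ideal.homogeneous_span _ _ ?_
    rintro _ ⟨x, hx, rfl⟩
    obtain ⟨n, -, hn⟩ := Set.mem_iUnion₂.1 hx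
    exact ⟨(0, n), tmul_mem_biPiece (k := k) 𝒜 ℬ SetLike.GradedOne.one_mem hn⟩⟩

include ℬ in
/-- Degree pieces of finite modules have finite bases with extended coordinates. -/
theorem exists_piece_basis [Algebra.FiniteType k S] (hpos : ∀ n : ℤ, n < 0 → ℬ n = ⊥)
    (h0 : ℬ 0 = Submodule.span k {(1 : S)}) [Module.Finite S N] (v : ℤ) :
    ∃ (m : ℕ) (y : Fin m → N) (f : Fin m → N →ₗ[k] k), (∀ a, y a ∈ 𝒩 v) ∧
      (∀ a b, f a (y b) = if a = b then 1 else 0) ∧ ∀ z ∈ 𝒩 v, ∑ a, f a z • y a = z := by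
  classical
  haveI := Algebra.FiniteType.isNoetherianRing k S
  obtain ⟨G, hG⟩ := (GrLC.finite_comp (𝒜 := ℬ) (fun n hn x hx => eq_zero_of_neg ℬ hpos hn hx)
    (ℳ := 𝒩) v).fg_top
  let V : Submodule k N := Submodule.span k ((fun z : _root_.GrLC.comp ℬ 𝒩 v => (z : N)) '' G)
  have hV : ∀ z ∈ 𝒩 v, z ∈ V := by
    intro z hz
    have hz' : (⟨z, hz⟩ : _root_.GrLC.comp ℬ 𝒩 v) ∈
        Submodule.span (_root_.GrLC.deg0 ℬ) (G : Set (_root_.GrLC.comp ℬ 𝒩 v)) := by rw [hG]; trivial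
    obtain ⟨c, -, hc⟩ := Submodule.mem_span_finset.1 hz'
    have hc' : ∑ w ∈ G, ((c w : S)) • (w : N) = z := by
      have h' := congrArg Subtype.val hc
      rw [Submodule.coe_sum] at h'
      exact h' 
    rw [← hc']
    refine sum_mem fun w hw => ?_
    obtain ⟨e, he⟩ := exists_eq_algebraMap ℬ hpos h0 (c w).2
    rw [← he, algebraMap_smul]
    exact Submodule.smul_mem _ _ (Submodule.subset_span ⟨w, hw, rfl⟩)
  have hVle : ∀ z ∈ V, z ∈ 𝒩 v := by
    intro z hz
    induction hz using Submodule.span_induction with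
    | mem x hx => obtain ⟨w, -, rfl⟩ := hx; exact w.2
    | zero => exact zero_mem _
    | add a b _ _ ha hb => exact add_mem ha hb
    | smul c a _ ha => exact ksmul_mem (𝒜 := ℬ) 𝒩 c ha
  haveI : Module.Finite k V := Module.Finite.span_of_finite k ((G.finite_toSet).image _)
  let B := Module.finBasis k V
  choose f hf using fun a => LinearMap.exists_extend (B.coord a)
  refine ⟨_, fun a => (B a : N), f, fun a => hVle _ (B a).2, fun a b => ?_, fun z hz => ?_⟩
  · have := LinearMap.congr_fun (hf a) (B b)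
    rw [LinearMap.comp_apply, Submodule.subtype_apply] at this
    rw [this, Module.Basis.coord_apply, Module.Basis.repr_self, Finsupp.single_apply]
    by_cases h : a = b
    · rw [if_pos h, if_pos h.symm]
    · rw [if_neg h, if_neg (Ne.symm h)]
  · have h1 : ∀ a, f a z = B.coord a ⟨z, hV z hz⟩ := fun a => by
      have := LinearMap.congr_fun (hf a) ⟨z, hV z hz⟩
      simpa using this
    have h2 := congrArg Subtype.val (B.sum_repr ⟨z, hV z hz⟩)
    simp only [Submodule.coe_sum, Submodule.coe_smul] at h2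
    simpa [h1] using h2

set_option maxHeartbeats 800000 in
/-- Local cohomology at `R₊ ⊗ S` piece by piece. -/
theorem gr_bigr_left_iff [IsNoetherianRing R] [IsNoetherianRing (R ⊗[k] S)] [Algebra.FiniteType k S]
    (hposS : ∀ n : ℤ, n < 0 → ℬ n = ⊥) (h0S : ℬ 0 = Submodule.span k {(1 : S)}) [Module.Finite S N]
    (mR : HomogeneousIdeal 𝒜) (hmR : mR.toIdeal = irrI 𝒜) (i : ℕ) (u v : ℤ) :
    LC.gr (biGMod 𝒜 ℬ ℳ 𝒩).gr (leftI 𝒜 ℬ) i (u, v) = ⊥ ↔
      (∀ z ∈ 𝒩 v, z = 0) ∨ LC.gr ℳ mR i u = ⊥ := by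
  let X := biGMod 𝒜 ℬ ℳ 𝒩
  let φ : R →+* R ⊗[k] S := Algebra.TensorProduct.includeLeftRingHom
  have hθ : Function.Injective (AddMonoidHom.inl ℤ ℤ) := fun a b h => congrArg Prod.fst h
  have hφ : ∀ (j : ℤ) (r : R), r ∈ 𝒜 j → φ r ∈ biPiece k 𝒜 ℬ (AddMonoidHom.inl ℤ ℤ j) :=
    fun j r hr => tmul_mem_biPiece (k := k) 𝒜 ℬ hr SetLike.GradedOne.one_mem
  obtain ⟨X', g, hg⟩ := GrTransfer.exists_part φ (AddMonoidHom.inl ℤ ℤ) hθ ((0, v) : ℤ × ℤ) hφ X
  have hrad : (mR.toIdeal.map φ).radical = (leftI 𝒜 ℬ).toIdeal.radical := by rw [hmR]; rfl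
  have htr := GrTransfer.gr_eq_bot_iff φ (AddMonoidHom.inl ℤ ℤ) hθ hφ (leftI 𝒜 ℬ) mR hrad hg i u
  rw [show ((0, v) : ℤ × ℤ) + AddMonoidHom.inl ℤ ℤ u = (u, v) by simp] at htr
  rw [← htr]
  obtain ⟨m, y, f, hy, hfy, hz⟩ := exists_piece_basis ℬ 𝒩 hposS h0S v
  let G : X'.carrier → M ⊗[k] N := fun w => g w
  have hGadd : ∀ w w', G (w + w') = G w + G w' := fun w w' => map_add g w w'
  have hGsmul : ∀ (r : R) w, G (r • w) = _root_.GrSeg.act k R S M N (r ⊗ₜ[k] (1 : S)) (G w) :=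
    fun r w => g.map_smulₛₗ r w
  have hGinj : Function.Injective G := hg.injective
  have hGmem : ∀ j, ∀ w ∈ X'.gr j, G w ∈ biPiece k ℳ 𝒩 (j, v) := by
    intro j w hw
    have := hg.mem j w hw
    rwa [show ((0, v) : ℤ × ℤ) + AddMonoidHom.inl ℤ ℤ j = (j, v) by simp] at this
  have hGex : ∀ j, ∀ x ∈ biPiece k ℳ 𝒩 (j, v), ∃ w ∈ X'.gr j, G w = x := by
    intro j x hx
    refine hg.exists_eq j x ?_
    rw [show ((0, v) : ℤ × ℤ) + AddMonoidHom.inl ℤ ℤ j = (j, v) by simp]
    exact hx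
  have hrange : ∀ (a : Fin m) (x : M), ∃ w, G w = x ⊗ₜ[k] y a := by
    intro a x
    induction x using homogeneous_induction ℳ with
    | zero => exact ⟨0, by rw [zero_tmul]; exact map_zero g⟩
    | hom j x hx =>
      obtain ⟨w, -, hw⟩ := hGex j _ (tmul_mem_biPiece ℳ 𝒩 hx (hy a))
      exact ⟨w, hw⟩
    | add x x' hx hx' =>
      obtain ⟨w, hw⟩ := hx
      obtain ⟨w', hw'⟩ := hx'
      exact ⟨w + w', by rw [hGadd, hw, hw', add_tmul]⟩
  choose I hI using hrange
  let inc : Fin m → M →ₗ[R] X'.carrier := fun a =>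
    { toFun := I a
      map_add' := fun x x' => hGinj (by rw [hGadd, hI, hI, hI, add_tmul])
      map_smul' := fun r x => hGinj (by
        rw [RingHom.id_apply, hGsmul, hI, hI, _root_.GrSeg.act_tmul, one_smul]) }
  let Q : Fin m → (M ⊗[k] N) →ₗ[k] M := fun a =>
    TensorProduct.lift (LinearMap.mk₂ k (fun x z => f a z • x)
      (fun x x' z => smul_add _ x x') (fun c x z => smul_comm _ c x)
      (fun x z z' => by rw [map_add, add_smul]) (fun c x z => by rw [map_smul, smul_assoc]))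
  have hQ : ∀ a (x : M) (z : N), Q a (x ⊗ₜ[k] z) = f a z • x := fun a x z => rfl
  have hQact : ∀ a (r : R) (w : M ⊗[k] N),
      Q a (_root_.GrSeg.act k R S M N (r ⊗ₜ[k] (1 : S)) w) = r • Q a w := by
    intro a r w
    induction w using TensorProduct.induction_on with
    | zero => simp
    | add w w' hw hw' => simp only [map_add, hw, hw', smul_add]
    | tmul x z => rw [_root_.GrSeg.act_tmul, one_smul, hQ, hQ, smul_comm]
  let prj : Fin m → X'.carrier →ₗ[R] M := fun a =>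
    { toFun := fun w => Q a (G w)
      map_add' := fun w w' => by rw [hGadd, map_add]
      map_smul' := fun r w => by rw [RingHom.id_apply, hGsmul, hQact] }
  have hpair : ∀ a b x, prj a (inc b x) = (if a = b then (1 : k) else 0) • x := fun a b x => by
    change Q a (G (I b x)) = _
    rw [hI, hQ, hfy]
  rw [gr_eq_bot_iff_of_retracts mR ℳ X'.gr inc prj]
  · refine or_congr_left ⟨fun hm z hz' => ?_, fun h => ?_⟩
    · subst hm
      rw [← hz z hz']
      simp
    · by_contra hm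
      have a : Fin m := ⟨0, Nat.pos_of_ne_zero hm⟩
      have := hfy a a
      rw [h _ (hy a), map_zero, if_pos rfl] at this
      exact zero_ne_one this
  · intro a j x hx
    obtain ⟨w, hw, hw'⟩ := hGex j _ (tmul_mem_biPiece ℳ 𝒩 hx (hy a))
    rwa [show inc a x = w from hGinj ((hI a x).trans hw'.symm)]
  · intro a j w hw
    change Q a (G w) ∈ ℳ j
    have hmem := hGmem j w hw
    generalize G w = t at hmem ⊢
    induction hmem using biPiece_induction with
    | zero => rw [map_zero]; exact zero_mem _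
    | tmul x hx z _ => rw [hQ]; exact ksmul_mem (𝒜 := 𝒜) ℳ _ hx
    | add x y _ _ hx hy => rw [map_add]; exact add_mem hx hy
    | smul c x _ hx => rw [map_smul]; exact ksmul_mem (𝒜 := 𝒜) ℳ c hx
  · refine LinearMap.ext fun w => hGinj ?_
    rw [LinearMap.sum_apply, LinearMap.id_apply]
    have hGsum : G (∑ a, (inc a ∘ₗ prj a) w) = ∑ a, Q a (G w) ⊗ₜ[k] y a :=
      (map_sum g _ _).trans (Finset.sum_congr rfl fun a _ => hI a _)
    rw [hGsum]
    clear hGsum
    induction w using homogeneous_induction X'.gr with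
    | zero => rw [show G 0 = 0 from map_zero g]; simp
    | add w w' hw hw' =>
      simp only [hGadd, map_add, add_tmul, Finset.sum_add_distrib, hw, hw']
    | hom j w hw =>
      have hmem := hGmem j w hw
      generalize G w = t at hmem ⊢
      induction hmem using biPiece_induction with
      | zero => simp
      | tmul x hx z hz' =>
        calc ∑ a, Q a (x ⊗ₜ[k] z) ⊗ₜ[k] y a = ∑ a, x ⊗ₜ[k] (f a z • y a) :=
              Finset.sum_congr rfl fun a _ => by rw [hQ, smul_tmul]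
          _ = x ⊗ₜ[k] z := by rw [← tmul_sum, hz z hz']
      | add x y _ _ hx hy => simp only [map_add, add_tmul, Finset.sum_add_distrib, hx, hy]
      | smul c x _ hx => simp only [map_smul, ← smul_tmul', ← Finset.smul_sum, hx]
  · intro a
    exact LinearMap.ext fun x => by rw [LinearMap.comp_apply, hpair, if_pos rfl, one_smul]; rfl

set_option maxHeartbeats 800000 in
/-- Local cohomology at `R ⊗ S₊` piece by piece. -/
theorem gr_bigr_right_iff [IsNoetherianRing S] [IsNoetherianRing (R ⊗[k] S)] [Algebra.FiniteType k R]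
    (hposR : ∀ n : ℤ, n < 0 → 𝒜 n = ⊥) (h0R : 𝒜 0 = Submodule.span k {(1 : R)}) [Module.Finite R M]
    (mS : HomogeneousIdeal ℬ) (hmS : mS.toIdeal = irrI ℬ) (i : ℕ) (u v : ℤ) :
    LC.gr (biGMod 𝒜 ℬ ℳ 𝒩).gr (rightI 𝒜 ℬ) i (u, v) = ⊥ ↔
      (∀ z ∈ ℳ u, z = 0) ∨ LC.gr 𝒩 mS i v = ⊥ := by
  let X := biGMod 𝒜 ℬ ℳ 𝒩
  let φ : S →+* R ⊗[k] S := (Algebra.TensorProduct.includeRight : S →ₐ[k] R ⊗[k] S).toRingHom
  have hθ : Function.Injective (AddMonoidHom.inr ℤ ℤ) := fun a b h => congrArg Prod.snd h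
  have hφ : ∀ (j : ℤ) (r : S), r ∈ ℬ j → φ r ∈ biPiece k 𝒜 ℬ (AddMonoidHom.inr ℤ ℤ j) :=
    fun j r hr => tmul_mem_biPiece (k := k) 𝒜 ℬ SetLike.GradedOne.one_mem hr
  obtain ⟨X', g, hg⟩ := GrTransfer.exists_part φ (AddMonoidHom.inr ℤ ℤ) hθ ((u, 0) : ℤ × ℤ) hφ X
  have hrad : (mS.toIdeal.map φ).radical = (rightI 𝒜 ℬ).toIdeal.radical := by rw [hmS]; rfl
  have htr := GrTransfer.gr_eq_bot_iff φ (AddMonoidHom.inr ℤ ℤ) hθ hφ (rightI 𝒜 ℬ) mS hrad hg i v
  rw [show ((u, 0) : ℤ × ℤ) + AddMonoidHom.inr ℤ ℤ v = (u, v) by simp] at htr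
  rw [← htr]
  obtain ⟨m, y, f, hy, hfy, hz⟩ := exists_piece_basis 𝒜 ℳ hposR h0R u
  let G : X'.carrier → M ⊗[k] N := fun w => g w
  have hGadd : ∀ w w', G (w + w') = G w + G w' := fun w w' => map_add g w w'
  have hGsmul : ∀ (r : S) w, G (r • w) = _root_.GrSeg.act k R S M N ((1 : R) ⊗ₜ[k] r) (G w) :=
    fun r w => g.map_smulₛₗ r w
  have hGinj : Function.Injective G := hg.injective
  have hGmem : ∀ j, ∀ w ∈ X'.gr j, G w ∈ biPiece k ℳ 𝒩 (u, j) := by
    intro j w hw
    have := hg.mem j w hw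
    rwa [show ((u, 0) : ℤ × ℤ) + AddMonoidHom.inr ℤ ℤ j = (u, j) by simp] at this
  have hGex : ∀ j, ∀ x ∈ biPiece k ℳ 𝒩 (u, j), ∃ w ∈ X'.gr j, G w = x := by
    intro j x hx
    refine hg.exists_eq j x ?_
    rw [show ((u, 0) : ℤ × ℤ) + AddMonoidHom.inr ℤ ℤ j = (u, j) by simp]
    exact hx
  have hrange : ∀ (a : Fin m) (x : N), ∃ w, G w = y a ⊗ₜ[k] x := by
    intro a x
    induction x using homogeneous_induction 𝒩 with
    | zero => exact ⟨0, by rw [tmul_zero]; exact map_zero g⟩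
    | hom j x hx =>
      obtain ⟨w, -, hw⟩ := hGex j _ (tmul_mem_biPiece ℳ 𝒩 (hy a) hx)
      exact ⟨w, hw⟩
    | add x x' hx hx' =>
      obtain ⟨w, hw⟩ := hx
      obtain ⟨w', hw'⟩ := hx'
      exact ⟨w + w', by rw [hGadd, hw, hw', tmul_add]⟩
  choose I hI using hrange
  let inc : Fin m → N →ₗ[S] X'.carrier := fun a =>
    { toFun := I a
      map_add' := fun x x' => hGinj (by rw [hGadd, hI, hI, hI, tmul_add])
      map_smul' := fun r x => hGinj (by
        rw [RingHom.id_apply, hGsmul, hI, hI, _root_.GrSeg.act_tmul, one_smul]) }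
  let Q : Fin m → (M ⊗[k] N) →ₗ[k] N := fun a =>
    TensorProduct.lift (LinearMap.mk₂ k (fun x z => f a x • z)
      (fun x x' z => by rw [map_add, add_smul]) (fun c x z => by rw [map_smul, smul_assoc])
      (fun x z z' => smul_add _ z z') (fun c x z => smul_comm _ c z))
  have hQ : ∀ a (x : M) (z : N), Q a (x ⊗ₜ[k] z) = f a x • z := fun a x z => rfl
  have hQact : ∀ a (r : S) (w : M ⊗[k] N),
      Q a (_root_.GrSeg.act k R S M N ((1 : R) ⊗ₜ[k] r) w) = r • Q a w := by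
    intro a r w
    induction w using TensorProduct.induction_on with
    | zero => simp
    | add w w' hw hw' => simp only [map_add, hw, hw', smul_add]
    | tmul x z => rw [_root_.GrSeg.act_tmul, one_smul, hQ, hQ, smul_comm]
  let prj : Fin m → X'.carrier →ₗ[S] N := fun a =>
    { toFun := fun w => Q a (G w)
      map_add' := fun w w' => by rw [hGadd, map_add]
      map_smul' := fun r w => by rw [RingHom.id_apply, hGsmul, hQact] }
  have hpair : ∀ a b x, prj a (inc b x) = (if a = b then (1 : k) else 0) • x := fun a b x => by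
    change Q a (G (I b x)) = _
    rw [hI, hQ, hfy]
  rw [gr_eq_bot_iff_of_retracts mS 𝒩 X'.gr inc prj]
  · refine or_congr_left ⟨fun hm z hz' => ?_, fun h => ?_⟩
    · subst hm
      rw [← hz z hz']
      simp
    · by_contra hm
      have a : Fin m := ⟨0, Nat.pos_of_ne_zero hm⟩
      have := hfy a a
      rw [h _ (hy a), map_zero, if_pos rfl] at this
      exact zero_ne_one this
  · intro a j x hx
    obtain ⟨w, hw, hw'⟩ := hGex j _ (tmul_mem_biPiece ℳ 𝒩 (hy a) hx)
    rwa [show inc a x = w from hGinj ((hI a x).trans hw'.symm)]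
  · intro a j w hw
    change Q a (G w) ∈ 𝒩 j
    have hmem := hGmem j w hw
    generalize G w = t at hmem ⊢
    induction hmem using biPiece_induction with
    | zero => rw [map_zero]; exact zero_mem _
    | tmul x _ z hz' => rw [hQ]; exact ksmul_mem (𝒜 := ℬ) 𝒩 _ hz'
    | add x y _ _ hx hy => rw [map_add]; exact add_mem hx hy
    | smul c x _ hx => rw [map_smul]; exact ksmul_mem (𝒜 := ℬ) 𝒩 c hx
  · refine LinearMap.ext fun w => hGinj ?_
    rw [LinearMap.sum_apply, LinearMap.id_apply]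
    have hGsum : G (∑ a, (inc a ∘ₗ prj a) w) = ∑ a, y a ⊗ₜ[k] Q a (G w) :=
      (map_sum g _ _).trans (Finset.sum_congr rfl fun a _ => hI a _)
    rw [hGsum]
    clear hGsum
    induction w using homogeneous_induction X'.gr with
    | zero => rw [show G 0 = 0 from map_zero g]; simp
    | add w w' hw hw' =>
      simp only [hGadd, map_add, tmul_add, Finset.sum_add_distrib, hw, hw']
    | hom j w hw =>
      have hmem := hGmem j w hw
      generalize G w = t at hmem ⊢
      induction hmem using biPiece_induction with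
      | zero => simp
      | tmul x hx' z _ =>
        calc ∑ a, y a ⊗ₜ[k] Q a (x ⊗ₜ[k] z) = ∑ a, (f a x • y a) ⊗ₜ[k] z :=
              Finset.sum_congr rfl fun a _ => by rw [hQ, smul_tmul]
          _ = x ⊗ₜ[k] z := by rw [← sum_tmul, hz x hx']
      | add x y _ _ hx hy => simp only [map_add, tmul_add, Finset.sum_add_distrib, hx, hy]
      | smul c x _ hx => simp only [map_smul, tmul_smul, ← Finset.smul_sum, hx]
  · intro a
    exact LinearMap.ext fun x => by rw [LinearMap.comp_apply, hpair, if_pos rfl, one_smul]; rfl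

end Groth.Agent.GrSegre
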