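import Groth.Prelude.Def_GrSeg
import Groth.Agent.GrLC.Basic
import Mathlib.RingTheory.Noetherian.Basic
import Mathlib.LinearAlgebra.FreeModule.Basic
import Mathlib.RingTheory.Flat.Basic

/-!
# Segre products: the diagonal projection

`diag : M ⊗ N → M ⊗ N`, `x ⊗ y ↦ ∑ x_n ⊗ y_n`, fixes `M # N` and interacts with the action of
bihomogeneous tensors. It turns finiteness of `M ⊗ N` into finiteness of `M # N`.
-/

set_option autoImplicit false
set_option linter.unusedSectionVars false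
set_option linter.style.haveILetI false
universe u

open DirectSum TensorProduct
open Groth.Agent.GrLC

namespace Groth.Agent.GrSegre

variable {k : Type u} [Field k]
variable {R S : Type u} [CommRing R] [CommRing S] [Algebra k R] [Algebra k S]
  (𝒜 : ℤ → Submodule k R) [GradedAlgebra 𝒜] (ℬ : ℤ → Submodule k S) [GradedAlgebra ℬ]
variable {M N : Type u} [AddCommGroup M] [Module R M] [Module k M] [IsScalarTower k R M]
  [AddCommGroup N] [Module S N] [Module k N] [IsScalarTower k S N]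
  {τ τ' : Type u} [SetLike τ M] [AddSubgroupClass τ M] [SetLike τ' N] [AddSubgroupClass τ' N]
  (ℳ : ℤ → τ) [DirectSum.Decomposition ℳ] [SetLike.GradedSMul 𝒜 ℳ]
  (𝒩 : ℤ → τ') [DirectSum.Decomposition 𝒩] [SetLike.GradedSMul ℬ 𝒩]

include 𝒜 in
theorem cpt_ksmul (n : ℤ) (c : k) (x : M) : cpt ℳ n (c • x) = c • cpt ℳ n x := by
  rw [← algebraMap_smul R c x, cpt_smul_left' (𝒜 := 𝒜) ℳ (SetLike.algebraMap_mem_graded 𝒜 c) x n,
    sub_zero, algebraMap_smul]

include 𝒜 in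
theorem ksmul_mem {n : ℤ} (c : k) {x : M} (hx : x ∈ ℳ n) : c • x ∈ ℳ n := by
  rw [← algebraMap_smul R c x, ← zero_add n]
  exact smul_mem_gr (𝒜 := 𝒜) (ℳ := ℳ) (SetLike.algebraMap_mem_graded 𝒜 c) hx

/-- The component map as a linear map. -/
def cptₗ (n : ℤ) : M →ₗ[k] M :=
  { cpt ℳ n with map_smul' := fun c x => cpt_ksmul 𝒜 ℳ n c x }

@[simp] theorem cptₗ_apply (n : ℤ) (x : M) : cptₗ 𝒜 ℳ n x = cpt ℳ n x := rfl

theorem finite_support_tmul (x : M) (y : N) :
    (Function.support fun n => cpt ℳ n x ⊗ₜ[k] cpt 𝒩 n y).Finite :=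
  (finite_cpt ℳ x).subset fun n hn => by
    simp only [Function.mem_support] at hn ⊢
    exact fun h => hn (by rw [h, zero_tmul])

/-- The projection of `M ⊗ N` onto its diagonal part. -/
noncomputable def diag : M ⊗[k] N →ₗ[k] M ⊗[k] N :=
  TensorProduct.lift (LinearMap.mk₂ k (fun x y => ∑ᶠ n, cpt ℳ n x ⊗ₜ[k] cpt 𝒩 n y)
    (fun x x' y => by
      rw [← finsum_add_distrib (finite_support_tmul ℳ 𝒩 x y) (finite_support_tmul ℳ 𝒩 x' y)]
      simp [map_add, add_tmul])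
    (fun c x y => by
      rw [smul_finsum' c (finite_support_tmul ℳ 𝒩 x y)]
      simp [cpt_ksmul 𝒜, smul_tmul'])
    (fun x y y' => by
      rw [← finsum_add_distrib (finite_support_tmul ℳ 𝒩 x y) (finite_support_tmul ℳ 𝒩 x y')]
      simp [map_add, tmul_add])
    (fun c x y => by
      rw [smul_finsum' c (finite_support_tmul ℳ 𝒩 x y)]
      simp [cpt_ksmul ℬ]))

theorem diag_tmul (x : M) (y : N) :
    diag 𝒜 ℬ ℳ 𝒩 (x ⊗ₜ[k] y) = ∑ᶠ n, cpt ℳ n x ⊗ₜ[k] cpt 𝒩 n y := by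
  simp [diag]

theorem diag_tmul_of_mem {i : ℤ} {x : M} (hx : x ∈ ℳ i) (y : N) :
    diag 𝒜 ℬ ℳ 𝒩 (x ⊗ₜ[k] y) = x ⊗ₜ[k] cpt 𝒩 i y := by
  rw [diag_tmul, finsum_eq_single _ i fun n hn => by
    rw [cpt_of_mem_ne ℳ hx hn.symm, zero_tmul], cpt_of_mem ℳ hx]

theorem diag_of_mem {n : ℤ} {v : M ⊗[k] N} (hv : v ∈ _root_.GrSeg.segrePiece k ℳ 𝒩 n) :
    diag 𝒜 ℬ ℳ 𝒩 v = v := by
  induction hv using Submodule.span_induction with
  | mem v hv =>
    obtain ⟨a, ha, b, hb, rfl⟩ := hv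
    rw [diag_tmul_of_mem 𝒜 ℬ ℳ 𝒩 ha, cpt_of_mem 𝒩 hb]
  | zero => simp
  | add a b _ _ ha hb => rw [map_add, ha, hb]
  | smul c a _ ha => rw [map_smul, ha]

/-- Action of a bihomogeneous tensor on the diagonal part. -/
theorem diag_act_of_mem {i j n : ℤ} {a : R} (ha : a ∈ 𝒜 i) {b : S} (hb : b ∈ ℬ j) {v : M ⊗[k] N}
    (hv : v ∈ _root_.GrSeg.segrePiece k ℳ 𝒩 n) :
    diag 𝒜 ℬ ℳ 𝒩 (_root_.GrSeg.act k R S M N (a ⊗ₜ[k] b) v) =
      if i = j then _root_.GrSeg.act k R S M N (a ⊗ₜ[k] b) v else 0 := by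
  induction hv using Submodule.span_induction with
  | mem v hv =>
    obtain ⟨x, hx, y, hy, rfl⟩ := hv
    rw [_root_.GrSeg.act_tmul, diag_tmul_of_mem 𝒜 ℬ ℳ 𝒩 (smul_mem_gr (𝒜 := 𝒜) (ℳ := ℳ) ha hx),
      cpt_of_mem_ite 𝒩 _ (smul_mem_gr (𝒜 := ℬ) (ℳ := 𝒩) hb hy)]
    by_cases h : i = j
    · rw [if_pos h, if_pos (by rw [h])]
    · rw [if_neg h, if_neg (fun h' => h (add_right_cancel h').symm), tmul_zero]
  | zero => simp
  | add a b _ _ ha hb => simp only [map_add, ha, hb]; split_ifs <;> simp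
  | smul c a _ ha => simp only [map_smul, ha]; split_ifs <;> simp

/-- The action of a diagonal bihomogeneous tensor commutes with the projection. -/
theorem diag_act {i : ℤ} {a : R} (ha : a ∈ 𝒜 i) {b : S} (hb : b ∈ ℬ i) (v : M ⊗[k] N) :
    diag 𝒜 ℬ ℳ 𝒩 (_root_.GrSeg.act k R S M N (a ⊗ₜ[k] b) v) =
      _root_.GrSeg.act k R S M N (a ⊗ₜ[k] b) (diag 𝒜 ℬ ℳ 𝒩 v) := by
  induction v using TensorProduct.induction_on with
  | zero => simp
  | add v w hv hw => simp only [map_add, hv, hw]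
  | tmul x y =>
    induction x using homogeneous_induction ℳ with
    | zero => simp
    | add x x' hx hx' => simp only [add_tmul, map_add, hx, hx']
    | hom n x hx =>
      rw [_root_.GrSeg.act_tmul, diag_tmul_of_mem 𝒜 ℬ ℳ 𝒩 (smul_mem_gr (𝒜 := 𝒜) (ℳ := ℳ) ha hx),
        diag_tmul_of_mem 𝒜 ℬ ℳ 𝒩 hx, _root_.GrSeg.act_tmul, cpt_smul_left (𝒜 := ℬ) 𝒩 hb]

section SegreMod

variable {T P : Type u} [CommRing T] [Algebra k T] {ψ : T →ₐ[k] R ⊗[k] S}
  [AddCommGroup P] [Module T P] [Module k P] [IsScalarTower k T P]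
  {τQ : Type u} [SetLike τQ P] [AddSubgroupClass τQ P] {𝒬 : ℤ → τQ} [DirectSum.Decomposition 𝒬]
  {φ : P →ₗ[k] M ⊗[k] N}

theorem mem_segrePiece_of_mem (hP : _root_.GrSeg.IsSegreMod ψ ℳ 𝒩 𝒬 φ) {n : ℤ} {p : P}
    (hp : p ∈ 𝒬 n) : φ p ∈ _root_.GrSeg.segrePiece k ℳ 𝒩 n := by
  have h : φ p ∈ φ '' (𝒬 n : Set P) := ⟨p, hp, rfl⟩
  rwa [hP.image_piece] at h

theorem exists_mem_eq (hP : _root_.GrSeg.IsSegreMod ψ ℳ 𝒩 𝒬 φ) {n : ℤ} {v : M ⊗[k] N}
    (hv : v ∈ _root_.GrSeg.segrePiece k ℳ 𝒩 n) : ∃ p ∈ 𝒬 n, φ p = v := by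
  have h : v ∈ φ '' (𝒬 n : Set P) := by rw [hP.image_piece]; exact hv
  exact h

theorem diag_map (hP : _root_.GrSeg.IsSegreMod ψ ℳ 𝒩 𝒬 φ) (p : P) :
    diag 𝒜 ℬ ℳ 𝒩 (φ p) = φ p := by
  induction p using homogeneous_induction 𝒬 with
  | zero => simp
  | add a b ha hb => simp only [map_add, ha, hb]
  | hom n p hp => exact diag_of_mem 𝒜 ℬ ℳ 𝒩 (mem_segrePiece_of_mem ℳ 𝒩 hP hp)

theorem diag_mem_range (hP : _root_.GrSeg.IsSegreMod ψ ℳ 𝒩 𝒬 φ) (v : M ⊗[k] N) :
    diag 𝒜 ℬ ℳ 𝒩 v ∈ LinearMap.range φ := by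
  induction v using TensorProduct.induction_on with
  | zero => simp
  | add a b ha hb => rw [map_add]; exact add_mem ha hb
  | tmul x y =>
    rw [diag_tmul]
    refine finsum_induction (fun v => v ∈ LinearMap.range φ) (zero_mem _) (fun a b ha hb => add_mem ha hb)
      fun n => ?_
    obtain ⟨p, -, hp⟩ := exists_mem_eq ℳ 𝒩 hP (n := n) (v := cpt ℳ n x ⊗ₜ[k] cpt 𝒩 n y)
      (Submodule.subset_span ⟨_, cpt_mem ℳ n x, _, cpt_mem 𝒩 n y, rfl⟩)
    exact ⟨p, hp⟩

/-- `diag` after a bihomogeneous tensor, on the image of `M # N`. -/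
theorem diag_act_map (hP : _root_.GrSeg.IsSegreMod ψ ℳ 𝒩 𝒬 φ) {i j : ℤ} {a : R} (ha : a ∈ 𝒜 i)
    {b : S} (hb : b ∈ ℬ j) (p : P) :
    diag 𝒜 ℬ ℳ 𝒩 (_root_.GrSeg.act k R S M N (a ⊗ₜ[k] b) (φ p)) =
      if i = j then _root_.GrSeg.act k R S M N (a ⊗ₜ[k] b) (φ p) else 0 := by
  induction p using homogeneous_induction 𝒬 with
  | zero => simp
  | add x y hx hy => simp only [map_add, hx, hy]; split_ifs <;> simp
  | hom n p hp => exact diag_act_of_mem 𝒜 ℬ ℳ 𝒩 ha hb (mem_segrePiece_of_mem ℳ 𝒩 hP hp)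

end SegreMod

section Act

variable (k R S M N)

/-- The action as a homomorphism of algebras. -/
noncomputable def actHom : R ⊗[k] S →ₐ[k] Module.End k (M ⊗[k] N) :=
  AlgHom.ofLinearMap (_root_.GrSeg.act k R S M N)
    (TensorProduct.ext' fun x y => by
      rw [Algebra.TensorProduct.one_def, _root_.GrSeg.act_tmul, one_smul, one_smul]
      rfl)
    fun u v => by
      induction u using TensorProduct.induction_on with
      | zero => simp
      | add a b ha hb => simp only [add_mul, map_add, ha, hb]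
      | tmul a b =>
        induction v using TensorProduct.induction_on with
        | zero => simp
        | add c d hc hd => simp only [mul_add, map_add, hc, hd]
        | tmul c d =>
          refine TensorProduct.ext' fun x y => ?_
          rw [Algebra.TensorProduct.tmul_mul_tmul, Module.End.mul_apply, _root_.GrSeg.act_tmul,
            _root_.GrSeg.act_tmul, _root_.GrSeg.act_tmul, mul_smul, mul_smul]

variable {k R S M N}

theorem actHom_apply (u : R ⊗[k] S) : actHom k R S M N u = _root_.GrSeg.act k R S M N u := rfl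

theorem act_mul (u v : R ⊗[k] S) (x : M ⊗[k] N) :
    _root_.GrSeg.act k R S M N (u * v) x =
      _root_.GrSeg.act k R S M N u (_root_.GrSeg.act k R S M N v x) := by
  rw [← actHom_apply, map_mul]; rfl

end Act

/-- A module carried into a Noetherian module by `φ` with a retraction compatible with the scalars
is Noetherian. -/
theorem isNoetherian_of_retract {B X : Type u} [CommRing B] [CommRing X] {V P : Type u}
    [AddCommGroup V] [Module B V] [IsNoetherian B V] [AddCommGroup P] [Module X P]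
    (φ : P →+ V) (D : V →+ V) (hφ : Function.Injective φ) (hDφ : ∀ p, D (φ p) = φ p)
    (hclosed : ∀ (b : B) (q : P), ∃ p ∈ Submodule.span X {q}, D (b • φ q) = φ p) :
    IsNoetherian X P := by
  have key : ∀ (Q : Submodule X P) (v : V), v ∈ Submodule.span B (φ '' (Q : Set P)) →
      ∀ b : B, ∃ p ∈ Q, D (b • v) = φ p := by
    intro Q v hv
    induction hv using Submodule.span_induction with
    | mem v hv =>
      obtain ⟨q, hq, rfl⟩ := hv
      intro b
      obtain ⟨p, hp, hp'⟩ := hclosed b q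
      exact ⟨p, Submodule.span_le.2 (Set.singleton_subset_iff.2 hq) hp, hp'⟩
    | zero => exact fun b => ⟨0, zero_mem _, by simp⟩
    | add v w _ _ hv hw =>
      intro b
      obtain ⟨p, hp, hp'⟩ := hv b
      obtain ⟨p', hq, hq'⟩ := hw b
      exact ⟨p + p', add_mem hp hq, by rw [smul_add, map_add, map_add, hp', hq']⟩
    | smul c v _ hv => intro b; rw [smul_smul]; exact hv (b * c)
  let F : Submodule X P → Submodule B V := fun Q => Submodule.span B (φ '' (Q : Set P))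
  have hmono : Monotone F := fun Q Q' h => Submodule.span_mono (Set.image_mono h)
  have hinj : Function.Injective F := by
    intro Q Q' hQ
    have : ∀ Q₁ Q₂ : Submodule X P, F Q₁ ≤ F Q₂ → Q₁ ≤ Q₂ := by
      intro Q₁ Q₂ h x hx
      obtain ⟨p, hp, hp'⟩ := key Q₂ (φ x) (h (Submodule.subset_span ⟨x, hx, rfl⟩)) 1
      rw [one_smul, hDφ] at hp'
      rwa [hφ hp']
    exact le_antisymm (this _ _ hQ.le) (this _ _ hQ.ge)
  rw [isNoetherian_iff']
  exact StrictMono.wellFoundedGT (hmono.strictMono_of_injective hinj)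

theorem isSegreMod_self {T : Type u} [CommRing T] [Algebra k T] (𝒯 : ℤ → Submodule k T)
    [GradedAlgebra 𝒯] (ψ : T →ₐ[k] R ⊗[k] S)
    (hT : _root_.GrSeg.IsSegreRing 𝒜 ℬ 𝒯 ψ) :
    _root_.GrSeg.IsSegreMod ψ 𝒜 ℬ 𝒯 ψ.toLinearMap where
  injective := hT.1
  image_piece n := by rw [← hT.2 n]; rfl
  map_smul t p := by
    rw [smul_eq_mul, AlgHom.toLinearMap_apply, map_mul, AlgHom.toLinearMap_apply]
    have h : ∀ v : R ⊗[k] S, ψ t * v = _root_.GrSeg.act k R S R S (ψ t) v := by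
      intro v
      induction ψ t using TensorProduct.induction_on with
      | zero => simp
      | add a b ha hb => rw [add_mul, map_add, LinearMap.add_apply, ha, hb]
      | tmul a b =>
        induction v using TensorProduct.induction_on with
        | zero => simp
        | add c d hc hd => rw [mul_add, map_add, hc, hd]
        | tmul c d => rw [Algebra.TensorProduct.tmul_mul_tmul, _root_.GrSeg.act_tmul]; rfl
    exact h _

theorem mem_segrePiece_ring {T : Type u} [CommRing T] [Algebra k T] {𝒯 : ℤ → Submodule k T}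
    [GradedAlgebra 𝒯] {ψ : T →ₐ[k] R ⊗[k] S} (hT : _root_.GrSeg.IsSegreRing 𝒜 ℬ 𝒯 ψ) {n : ℤ}
    {a : R} (ha : a ∈ 𝒜 n) {b : S} (hb : b ∈ ℬ n) : ∃ t ∈ 𝒯 n, ψ t = a ⊗ₜ[k] b := by
  have h : a ⊗ₜ[k] b ∈ (𝒯 n).map ψ.toLinearMap := by
    rw [hT.2]; exact Submodule.subset_span ⟨a, ha, b, hb, rfl⟩
  exact h

end Groth.Agent.GrSegre
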