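import Groth.Agent.GrLC.Res
import Groth.Agent.GrLC.Coh
import Groth.Agent.GrLC.LocCohLES
import Groth.Agent.GrTransfer.Main

/-!
# Graded local cohomology from acyclic resolutions

An exact graded complex of `Γ`-acyclic modules resolving `P` computes the graded local cohomology
of `P` computed from any *injective resolution, with degrees.
-/

set_option autoImplicit false
set_option linter.unusedSectionVars false
set_option linter.style.haveILetI false
universe u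

open CategoryTheory CategoryTheory.Abelian DirectSum
open Groth.Agent.GrLC

namespace Groth.Agent.GrSegre

section Exact

variable {R : Type u} [CommRing R] (I : Ideal R)

theorem subsingleton_H_prod (p : ℕ) {A B : Type u} [AddCommGroup A] [Module R A] [AddCommGroup B]
    [Module R B] (hA : Subsingleton (LocCoh.H I p A)) (hB : Subsingleton (LocCoh.H I p B)) :
    Subsingleton (LocCoh.H I p (A × B)) := by
  refine subsingleton_of_forall_eq 0 fun x => ?_
  have hex : Function.Exact (LinearMap.inl R A B) (LinearMap.snd R A B) :=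
    LinearMap.exact_iff.2 (LinearMap.range_inl R A B).symm
  obtain ⟨y, rfl⟩ := (LocCohElt.exact_map_map I p LinearMap.inl_injective hex LinearMap.snd_surjective x).1
    (hB.elim _ _)
  rw [hA.elim y 0, map_zero]

/-- surjectivity on torsion -/
theorem exists_torsion_preimage {A B C : Type u} [AddCommGroup A] [Module R A] [AddCommGroup B]
    [Module R B] [AddCommGroup C] [Module R C] {f : A →ₗ[R] B} {g : B →ₗ[R] C}
    (hf : Function.Injective f) (hfg : Function.Exact f g) (hg : Function.Surjective g)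
    (hA : Subsingleton (LocCoh.H I 1 A)) {z : C} (hz : z ∈ _root_.GrLC.gam I C) :
    ∃ x ∈ _root_.GrLC.gam I B, g x = z := by
  obtain ⟨n, hn⟩ := hz
  let φ : LocCohElt.quo I n ⟶ ModuleCat.of R C := ModuleCat.ofHom
    (Submodule.liftQ (I ^ n) (LinearMap.toSpanSingleton R C z) fun r hr => hn r hr)
  obtain ⟨y, hy⟩ := (LocCohElt.exact_map_δ I 0 hf hfg hg
    (LocCohElt.mk I 0 C n (Ext.mk₀ φ))).1 (hA.elim _ _)
  obtain ⟨m, e, rfl⟩ := LocCohElt.exists_mk I 0 B y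
  obtain ⟨χ, rfl⟩ := (Ext.mk₀_bijective _ _).2 e
  rw [LocCohElt.map_mk, ← LocCohElt.mk_res I 0 C (le_max_left m n),
    ← LocCohElt.mk_res I 0 C (le_max_right m n) (Ext.mk₀ φ)] at hy
  obtain ⟨l, hl, h⟩ := LocCohElt.eventually_res_eq I 0 C _ _ hy
  rw [LocCohElt.res_res, LocCohElt.res_res, LocCohElt.res_apply, LocCohElt.res_apply,
    Ext.mk₀_comp_mk₀, Ext.mk₀_comp_mk₀, Ext.mk₀_comp_mk₀] at h
  have h' := (Ext.mk₀_bijective _ _).1 h
  have h1 := LinearMap.congr_fun (congrArg ModuleCat.Hom.hom h') (Submodule.Quotient.mk 1)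
  refine ⟨χ.hom (Submodule.Quotient.mk 1), ⟨m, fun r hr => ?_⟩, ?_⟩
  · rw [← LinearMap.map_smul, ← Submodule.Quotient.mk_smul, smul_eq_mul, mul_one,
      (Submodule.Quotient.mk_eq_zero _).2 hr, map_zero]
  · exact h1.trans (one_smul R z)

variable {C : ℕ → Type u} [∀ n, AddCommGroup (C n)] [∀ n, Module R (C n)]
  (d : ∀ n, C n →ₗ[R] C (n + 1))

/-- Exact complexes of acyclic modules stay exact on torsion. -/
theorem exists_torsion_lift (h0 : Function.Injective (d 0))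
    (hex : ∀ n, LinearMap.ker (d (n + 1)) = LinearMap.range (d n))
    (hac : ∀ n p, Subsingleton (LocCoh.H I (p + 1) (C n))) (n : ℕ) {z : C (n + 1)}
    (hz : z ∈ _root_.GrLC.gam I (C (n + 1))) (hdz : d (n + 1) z = 0) :
    ∃ x ∈ _root_.GrLC.gam I (C n), d n x = z := by
  let dZ : ∀ j, C j →ₗ[R] LinearMap.ker (d (j + 1)) := fun j =>
    (d j).codRestrict _ fun x => (hex j).ge ⟨x, rfl⟩
  have hsurj : ∀ j, Function.Surjective (dZ j) := fun j ⟨w, hw⟩ => by
    obtain ⟨x, rfl⟩ := (hex j).le hw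
    exact ⟨x, rfl⟩
  have hexact : ∀ j, Function.Exact (LinearMap.ker (d j)).subtype (dZ j) := fun j => by
    rw [LinearMap.exact_iff, Submodule.range_subtype]
    exact LinearMap.ker_codRestrict _ _ _
  have hZ : ∀ j p, Subsingleton (LocCoh.H I (p + 1) (LinearMap.ker (d j))) := by
    intro j
    induction j with
    | zero =>
      intro p
      haveI : Subsingleton (LinearMap.ker (d 0)) :=
        ⟨fun a b => Subtype.ext (h0 (a.2.trans b.2.symm))⟩
      refine subsingleton_of_forall_eq 0 fun x => ?_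
      rw [← LocCohElt.map_id I (p + 1) x, Subsingleton.elim (LinearMap.id : LinearMap.ker (d 0) →ₗ[R] _) 0]
      obtain ⟨m, e, rfl⟩ := LocCohElt.exists_mk I (p + 1) _ x
      rw [LocCohElt.map_mk]
      change LocCohElt.mk I (p + 1) _ m (e.comp (Ext.mk₀ (0 : _ ⟶ _)) (add_zero (p + 1))) = 0
      rw [Ext.mk₀_zero, Ext.comp_zero, map_zero]
    | succ j ih =>
      intro p
      refine subsingleton_of_forall_eq 0 fun x => ?_
      obtain ⟨y, rfl⟩ := (LocCohElt.exact_map_δ I (p + 1) (LinearMap.ker (d j)).injective_subtype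
        (hexact j) (hsurj j) x).1 ((ih (p + 1)).elim _ _)
      rw [(hac j p).elim y 0, map_zero]
  obtain ⟨x, hx, hxz⟩ := exists_torsion_preimage I (LinearMap.ker (d n)).injective_subtype (hexact n)
    (hsurj n) (hZ n 0) (z := (⟨z, hdz⟩ : LinearMap.ker (d (n + 1))))
    (hz.elim fun m hm => ⟨m, fun r hr => Subtype.ext (hm r hr)⟩)
  exact ⟨x, hx, congrArg Subtype.val hxz⟩

end Exact

variable {T : Type u} [CommRing T] {σ : Type u} [SetLike σ T] [AddSubgroupClass σ T]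
  {𝒯 : ℤ → σ} [GradedRing 𝒯]
variable {P : Type u} [AddCommGroup P] [Module T P] {τ : Type u} [SetLike τ P] [AddSubgroupClass τ P]
  (𝒬 : ℤ → τ) [DirectSum.Decomposition 𝒬] [SetLike.GradedSMul 𝒯 𝒬]

/-- A graded resolution. -/
structure GrRes (𝒯 : ℤ → σ) [GradedRing 𝒯] (𝒬 : ℤ → τ) : Type (u + 1) where
  /-- terms -/
  X : ℕ → _root_.GrLC.GMod.{u} 𝒯
  /-- differentials -/
  d : ∀ n, (X n).carrier →ₗ[T] (X (n + 1)).carrier
  /-- augmentation -/
  ε : P →ₗ[T] (X 0).carrier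
  d_grHom : ∀ n, _root_.GrLC.IsGrHom (X n).gr (X (n + 1)).gr (d n)
  ε_grHom : _root_.GrLC.IsGrHom 𝒬 (X 0).gr ε
  ε_injective : Function.Injective ε
  exact_zero : LinearMap.ker (d 0) = LinearMap.range ε
  exact_succ : ∀ n, LinearMap.ker (d (n + 1)) = LinearMap.range (d n)

variable {𝒬} (G : GrRes 𝒯 𝒬) (a : HomogeneousIdeal 𝒯)

/-- torsion cocycles -/
def GrRes.cocyc (n : ℕ) : Submodule T (G.X n).carrier :=
  _root_.GrLC.gam a.toIdeal (G.X n).carrier ⊓ LinearMap.ker (G.d n)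

/-- coboundaries of torsion elements -/
def GrRes.cobdy : ∀ n, Submodule T (G.X n).carrier
  | 0 => ⊥
  | n + 1 => (_root_.GrLC.gam a.toIdeal (G.X n).carrier).map (G.d n)

theorem GrRes.exists_chainMap (E : _root_.GrLC.StarInjRes 𝒯 𝒬) :
    ∃ Φ : ∀ n, (G.X n).carrier →ₗ[T] (E.X n).carrier,
      (∀ n, _root_.GrLC.IsGrHom (G.X n).gr (E.X n).gr (Φ n)) ∧ Φ 0 ∘ₗ G.ε = E.ε ∧
        ∀ n, Φ (n + 1) ∘ₗ G.d n = E.d n ∘ₗ Φ n := by
  obtain ⟨φ₀, h₀, he₀⟩ := starInj_extend (E.starInj 0) G.ε_grHom G.ε_injective E.ε_grHom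
  let Pp : ∀ n, ((G.X n).carrier →ₗ[T] (E.X n).carrier) → Prop := fun n φ =>
    _root_.GrLC.IsGrHom (G.X n).gr (E.X n).gr φ ∧
      LinearMap.ker (G.d n) ≤ LinearMap.ker (E.d n ∘ₗ φ)
  have step : ∀ n φ, Pp n φ → ∃ ψ, Pp (n + 1) ψ ∧ ψ ∘ₗ G.d n = E.d n ∘ₗ φ := by
    intro n φ hφ
    obtain ⟨ψ, hψ, he⟩ := exists_extend_quot (E.starInj (n + 1)) (G.d_grHom n)
      (isGrHom_comp (E.d_grHom n) hφ.1) hφ.2
    refine ⟨ψ, ⟨hψ, ?_⟩, he⟩
    rw [G.exact_succ n]
    rintro _ ⟨x, rfl⟩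
    have h' := LinearMap.congr_fun he x
    simp only [LinearMap.comp_apply] at h'
    rw [LinearMap.mem_ker, LinearMap.comp_apply, h', ← LinearMap.mem_ker, E.exact_succ n]
    exact ⟨_, rfl⟩
  have base : Pp 0 φ₀ := by
    refine ⟨h₀, ?_⟩
    rw [G.exact_zero]
    rintro _ ⟨m, rfl⟩
    rw [LinearMap.mem_ker, LinearMap.comp_apply, show φ₀ (G.ε m) = E.ε m from LinearMap.congr_fun he₀ m,
      ← LinearMap.mem_ker, E.exact_zero]
    exact ⟨_, rfl⟩
  choose next hnext hcomm using step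
  let φs : ∀ n, {φ // Pp n φ} := fun n =>
    Nat.rec ⟨φ₀, base⟩ (fun j p => ⟨next j p.1 p.2, hnext j p.1 p.2⟩) n
  exact ⟨fun n => (φs n).1, fun n => (φs n).2.1, he₀, fun n => hcomm n (φs n).1 (φs n).2⟩

/-! ### The cone of a chain map -/

section Cone

variable (E : _root_.GrLC.StarInjRes 𝒯 𝒬) (Φ : ∀ n, (G.X n).carrier →ₗ[T] (E.X n).carrier)

/-- terms of the cone -/
abbrev GrRes.ConeT : ℕ → ModuleCat.{u} T
  | 0 => ModuleCat.of T (G.X 0).carrier
  | n + 1 => ModuleCat.of T ((G.X (n + 1)).carrier × (E.X n).carrier)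

/-- differentials of the cone -/
def GrRes.coneD : ∀ n, G.ConeT E n →ₗ[T] G.ConeT E (n + 1)
  | 0 => (G.d 0).prod (Φ 0)
  | n + 1 => ((G.d (n + 1)) ∘ₗ LinearMap.fst T _ _).prod
      (Φ (n + 1) ∘ₗ LinearMap.fst T _ _ - E.d n ∘ₗ LinearMap.snd T _ _)

variable (h0 : Φ 0 ∘ₗ G.ε = E.ε) (hc : ∀ n, Φ (n + 1) ∘ₗ G.d n = E.d n ∘ₗ Φ n)

include h0 in
theorem GrRes.coneD_injective : Function.Injective (G.coneD E Φ 0) := by
  rw [injective_iff_map_eq_zero]
  intro x hx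
  obtain ⟨p, rfl⟩ := G.exact_zero.le (show x ∈ LinearMap.ker (G.d 0) from congrArg Prod.fst hx)
  have h1 : Φ 0 (G.ε p) = 0 := congrArg Prod.snd hx
  rw [show Φ 0 (G.ε p) = E.ε p from LinearMap.congr_fun h0 p] at h1
  rw [E.ε_injective (h1.trans (map_zero E.ε).symm), map_zero]

include h0 hc in
theorem GrRes.cone_exact (n : ℕ) :
    LinearMap.ker (G.coneD E Φ (n + 1)) = LinearMap.range (G.coneD E Φ n) := by
  have hdd : ∀ j x, G.d (j + 1) (G.d j x) = 0 := fun j x => by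
    rw [← LinearMap.mem_ker, G.exact_succ]; exact ⟨x, rfl⟩
  have hdd' : ∀ j y, E.d (j + 1) (E.d j y) = 0 := fun j y => by
    rw [← LinearMap.mem_ker, E.exact_succ]; exact ⟨y, rfl⟩
  have hc' : ∀ j x, Φ (j + 1) (G.d j x) = E.d j (Φ j x) := fun j x => LinearMap.congr_fun (hc j) x
  refine le_antisymm ?_ ?_
  · rintro ⟨x, y⟩ hxy
    have hx : G.d (n + 1) x = 0 := congrArg Prod.fst hxy
    have hy : Φ (n + 1) x - E.d n y = 0 := congrArg Prod.snd hxy
    obtain ⟨x', rfl⟩ := (G.exact_succ n).le hx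
    rw [hc', ← map_sub] at hy
    rcases n with - | n
    · obtain ⟨q, hq⟩ := E.exact_zero.le hy
      refine ⟨x' - G.ε q, Prod.ext ?_ ?_⟩
      · change G.d 0 (x' - G.ε q) = G.d 0 x'
        rw [map_sub, show G.d 0 (G.ε q) = 0 from G.exact_zero.ge ⟨q, rfl⟩, sub_zero]
      · change Φ 0 (x' - G.ε q) = y
        rw [map_sub, show Φ 0 (G.ε q) = E.ε q from LinearMap.congr_fun h0 q, hq]
        abel
    · obtain ⟨y', hy'⟩ := (E.exact_succ n).le hy
      refine ⟨(x', y'), Prod.ext rfl ?_⟩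
      change Φ (n + 1) x' - E.d n y' = y
      rw [hy']
      abel
  · rintro _ ⟨w, rfl⟩
    rw [LinearMap.mem_ker]
    rcases n with - | n
    · refine Prod.ext ?_ ?_
      · change G.d 1 (G.d 0 w) = 0
        exact hdd 0 w
      · change Φ 1 (G.d 0 w) - E.d 0 (Φ 0 w) = 0
        rw [hc', sub_self]
    · refine Prod.ext ?_ ?_
      · change G.d (n + 2) (G.d (n + 1) w.1) = 0
        exact hdd (n + 1) w.1
      · change Φ (n + 2) (G.d (n + 1) w.1) - E.d (n + 1) (Φ (n + 1) w.1 - E.d n w.2) = 0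
        rw [hc', map_sub, hdd', sub_zero, sub_self]

end Cone

variable [IsNoetherianRing T]
  (hac : ∀ n p, Subsingleton (LocCoh.H a.toIdeal (p + 1) (G.X n).carrier))

include hac in
/-- An acyclic resolution computes graded local cohomology. -/
theorem GrRes.exists_comparison (E : _root_.GrLC.StarInjRes 𝒯 𝒬) (n : ℕ) :
    ∃ κ : G.cocyc a n →ₗ[T] E.H a n, Function.Surjective κ ∧
      (∀ z, κ z = 0 ↔ z.1 ∈ G.cobdy a n) ∧
      (∀ (g : ℤ) (z : G.cocyc a n), z.1 ∈ (G.X n).gr g → κ z ∈ E.Hgr a n g) ∧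
      ∀ (g : ℤ), ∀ x ∈ E.Hgr a n g, ∃ z : G.cocyc a n, z.1 ∈ (G.X n).gr g ∧ κ z = x := by
  obtain ⟨Φ, hΦ, h0, hc⟩ := G.exists_chainMap E
  have hc' : ∀ j x, Φ (j + 1) (G.d j x) = E.d j (Φ j x) := fun j x => LinearMap.congr_fun (hc j) x
  have hmap : ∀ {j : ℕ} {x : (G.X j).carrier}, x ∈ _root_.GrLC.gam a.toIdeal (G.X j).carrier →
      Φ j x ∈ _root_.GrLC.gam a.toIdeal (E.X j).carrier := fun {j} {x} ⟨m, hm⟩ =>
    ⟨m, fun r hr => by rw [← map_smul, hm r hr, map_zero]⟩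
  let Φc : G.cocyc a n →ₗ[T] E.cocyc a n := ((Φ n).domRestrict _).codRestrict _ fun z =>
    ⟨hmap z.2.1, by
      change E.d n (Φ n z.1) = 0
      rw [← hc', show G.d n z.1 = 0 from z.2.2, map_zero]⟩
  let κ := (E.toH a n).comp Φc
  have hκ : ∀ z, κ z = 0 ↔ Φ n z.1 ∈ E.cobdy a n := fun z => Submodule.Quotient.mk_eq_zero _
  have hcac : ∀ j p, Subsingleton (LocCoh.H a.toIdeal (p + 1) (G.ConeT E j)) := fun j p => by
    rcases j with - | j
    · exact hac 0 p
    · exact subsingleton_H_prod a.toIdeal (p + 1) (hac (j + 1) p)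
        (GrTransfer.subsingleton_H_of_starInj (E.starInj j) a p)
  have lift := exists_torsion_lift a.toIdeal (C := fun j => (G.ConeT E j : Type u)) (G.coneD E Φ)
    (G.coneD_injective E Φ h0) (G.cone_exact E Φ h0 hc) hcac
  have hprod : ∀ {j : ℕ} (x : (G.X (j + 1)).carrier) (y : (E.X j).carrier),
      x ∈ _root_.GrLC.gam a.toIdeal _ → y ∈ _root_.GrLC.gam a.toIdeal _ →
      ((x, y) : G.ConeT E (j + 1)) ∈ _root_.GrLC.gam a.toIdeal _ :=
    fun {j} x y ⟨m, hm⟩ ⟨l, hl⟩ => ⟨max m l, fun r hr =>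
      Prod.ext (hm r (Ideal.pow_le_pow_right (le_max_left m l) hr))
        (hl r (Ideal.pow_le_pow_right (le_max_right m l) hr))⟩
  have hsurj : Function.Surjective κ := by
    intro x
    obtain ⟨y, rfl⟩ := Submodule.mkQ_surjective _ x
    have hdy : G.coneD E Φ (n + 1) (0, y.1) = 0 := by
      refine Prod.ext ?_ ?_
      · change G.d (n + 1) 0 = 0
        exact map_zero _
      · change Φ (n + 1) 0 - E.d n y.1 = 0
        rw [map_zero, show E.d n y.1 = 0 from y.2.2, sub_zero]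
    obtain ⟨w, hw, hwy⟩ := lift n (hprod 0 y.1 (zero_mem _) y.2.1) hdy
    rcases n with - | n
    · obtain ⟨m, hm⟩ := hw
      exact ⟨⟨w, ⟨m, hm⟩, congrArg Prod.fst hwy⟩,
        congrArg (E.toH a 0) (Subtype.ext (congrArg Prod.snd hwy))⟩
    · obtain ⟨m, hm⟩ := hw
      have hw1 : w.1 ∈ G.cocyc a (n + 1) :=
        ⟨⟨m, fun r hr => congrArg Prod.fst (hm r hr)⟩, congrArg Prod.fst hwy⟩
      refine ⟨⟨w.1, hw1⟩, (Submodule.Quotient.eq _).2
        ⟨w.2, ⟨m, fun r hr => congrArg Prod.snd (hm r hr)⟩, ?_⟩⟩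
      change E.d n w.2 = Φ (n + 1) w.1 - y.1
      have h2 : Φ (n + 1) w.1 - E.d n w.2 = y.1 := congrArg Prod.snd hwy
      rw [← h2]
      abel
  refine ⟨κ, hsurj, fun z => ?_, fun g z hz => ⟨Φc z, hΦ n g _ hz, rfl⟩, fun g x hx => ?_⟩
  · rw [hκ]
    rcases n with - | n
    · refine ⟨fun h => ?_, fun h => ?_⟩
      · obtain ⟨q, hq⟩ := G.exact_zero.le z.2.2
        have h' : Φ 0 z.1 = 0 := h
        rw [← hq, show Φ 0 (G.ε q) = E.ε q from LinearMap.congr_fun h0 q] at h'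
        change z.1 ∈ (⊥ : Submodule T _)
        rw [← hq, E.ε_injective (h'.trans (map_zero E.ε).symm), map_zero]
        exact zero_mem _
      · change Φ 0 z.1 = 0
        rw [show z.1 = 0 from h, map_zero]
    · refine ⟨fun ⟨y, hy, hyz⟩ => ?_, fun ⟨x, hx, hxz⟩ => ⟨Φ n x, hmap hx, by rw [← hc', hxz]⟩⟩
      have hd : G.coneD E Φ (n + 1) (z.1, y) = 0 := by
        refine Prod.ext z.2.2 ?_
        change Φ (n + 1) z.1 - E.d n y = 0
        rw [hyz, sub_self]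
      obtain ⟨w, hw, hwz⟩ := lift n (hprod z.1 y z.2.1 hy) hd
      obtain ⟨m, hm⟩ := hw
      rcases n with - | n
      · exact ⟨w, ⟨m, hm⟩, congrArg Prod.fst hwz⟩
      · exact ⟨w.1, ⟨m, fun r hr => congrArg Prod.fst (hm r hr)⟩, congrArg Prod.fst hwz⟩
  · obtain ⟨y, hy, rfl⟩ := hx
    obtain ⟨z, hz⟩ := hsurj (E.toH a n y)
    have hcz : cpt (G.X n).gr g z.1 ∈ G.cocyc a n :=
      isHomogeneous_inf _ (isHomogeneous_gam a) (isHomogeneous_ker _ (G.d_grHom n)) g z.2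
    refine ⟨⟨_, hcz⟩, cpt_mem _ g _, (Submodule.Quotient.eq _).2 ?_⟩
    have hmem : Φ n z.1 - y.1 ∈ E.cobdy a n :=
      ((Submodule.Quotient.eq ((E.cobdy a n).comap (E.cocyc a n).subtype)).1 hz :
        Φc z - y ∈ (E.cobdy a n).comap (E.cocyc a n).subtype)
    change Φ n (cpt (G.X n).gr g z.1) - y.1 ∈ E.cobdy a n
    rw [map_cpt (hΦ n), show y.1 = cpt (E.X n).gr g y.1 from (cpt_of_mem _ hy).symm, ← map_sub]
    exact isHomogeneous_cobdy E a n g hmem

end Groth.Agent.GrSegre
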