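import Groth.Agent.GrSegre.Sop
import Groth.Agent.GrDual.Hull

/-!
# Regrading an algebra by the underlying additive subgroups
-/

set_option autoImplicit false
set_option linter.unusedSectionVars false
set_option linter.style.haveILetI false
universe u

open DirectSum
open Groth.Agent.GrLC

noncomputable section

namespace Groth.Agent.GrSegre

variable {R : Type u} [CommRing R] {σ : Type u} [SetLike σ R] [AddSubgroupClass σ R] (𝒜 : ℤ → σ)
  [GradedRing 𝒜]

/-- the grading by additive subgroups -/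
def addGr : ℤ → AddSubgroup R := fun n => AddSubgroup.ofClass (𝒜 n)

theorem mem_addGr {n : ℤ} {r : R} : r ∈ addGr 𝒜 n ↔ r ∈ 𝒜 n := Iff.rfl

instance addGrGradedMonoid : SetLike.GradedMonoid (addGr 𝒜) where
  one_mem := SetLike.GradedOne.one_mem (A := 𝒜)
  mul_mem _ _ _ _ ha hb := SetLike.GradedMul.mul_mem (A := 𝒜) ha hb

instance addGrRing : GradedRing (addGr 𝒜) :=
  { addGrGradedMonoid 𝒜, (toGMod 𝒜 𝒜).dec with }

theorem cpt_addGr (i : ℤ) (x : R) : cpt (addGr 𝒜) i x = cpt 𝒜 i x := by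
  induction x using homogeneous_induction 𝒜 with
  | zero => simp
  | add a b ha hb => rw [map_add, map_add, ha, hb]
  | hom g a ha =>
    by_cases h : g = i
    · subst h
      rw [cpt_of_mem (addGr 𝒜) (show a ∈ addGr 𝒜 g from ha), cpt_of_mem 𝒜 ha]
    · rw [cpt_of_mem_ne (addGr 𝒜) (show a ∈ addGr 𝒜 g from ha) h, cpt_of_mem_ne 𝒜 ha h]

/-- the same ideal -/
abbrev addIdeal (m : HomogeneousIdeal 𝒜) : HomogeneousIdeal (addGr 𝒜) :=
  ⟨m.toIdeal, fun i x hx => by
    have h := m.isHomogeneous i hx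
    change cpt (addGr 𝒜) i x ∈ m.toIdeal
    rw [cpt_addGr]
    exact h⟩

variable {𝒜}

/-- the same module -/
abbrev upG (X : _root_.GrLC.GMod.{u} 𝒜) : _root_.GrLC.GMod.{u} (addGr 𝒜) :=
  { carrier := X.carrier
    gr := X.gr
    dec := X.dec
    gsmul := ⟨fun _ _ _ _ hr hm => X.gsmul.smul_mem hr hm⟩ }

/-- and back -/
def downG (X : _root_.GrLC.GMod.{u} (addGr 𝒜)) : _root_.GrLC.GMod.{u} 𝒜 :=
  { carrier := X.carrier
    gr := X.gr
    dec := X.dec
    gsmul := ⟨fun _ _ _ _ hr hm => X.gsmul.smul_mem hr hm⟩ }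

theorem isStarInj_up {X : _root_.GrLC.GMod.{u} 𝒜} (h : _root_.GrLC.IsStarInj 𝒜 X.gr) :
    _root_.GrLC.IsStarInj (addGr 𝒜) (upG X).gr :=
  fun A B f hf hi g hg => h (downG A) (downG B) f hf hi g hg

/-- the same resolution -/
abbrev upRes (I : _root_.GrLC.StarInjRes 𝒜 𝒜) : _root_.GrLC.StarInjRes (addGr 𝒜) (addGr 𝒜) where
  X n := upG (I.X n)
  d := I.d
  ε := I.ε
  d_grHom := I.d_grHom
  ε_grHom := fun g x hx => I.ε_grHom g x hx
  ε_injective := I.ε_injective
  exact_zero := I.exact_zero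
  exact_succ := I.exact_succ
  starInj n := isStarInj_up (I.starInj n)

theorem upRes_H (I : _root_.GrLC.StarInjRes 𝒜 𝒜) (m : HomogeneousIdeal 𝒜) (n : ℕ) :
    (upRes I).H (addIdeal 𝒜 m) n = I.H m n := rfl

theorem endDeg_upRes (I : _root_.GrLC.StarInjRes 𝒜 𝒜) (m : HomogeneousIdeal 𝒜) (n : ℕ) :
    _root_.GrLC.endDeg ((upRes I).Hgr (addIdeal 𝒜 m) n) = _root_.GrLC.endDeg (I.Hgr m n) := rfl

variable {k : Type u} [Field k] [Algebra k R]

theorem base_addGr (hB : GrDual.Base k 𝒜) : GrDual.Base k (addGr 𝒜) where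
  pos := hB.pos
  alg_mem := hB.alg_mem
  exists_alg := hB.exists_alg

variable {S : Type u} [CommRing S] [Algebra k S] {ℬ : ℤ → Submodule k S} [GradedAlgebra ℬ]

theorem isStarLocal_addGr [Nontrivial S] (hpos : ∀ n : ℤ, n < 0 → ℬ n = ⊥)
    (h0 : ℬ 0 = Submodule.span k {(1 : S)}) (m : HomogeneousIdeal ℬ) (hm : m.toIdeal = irrI ℬ) :
    _root_.GrLC.IsStarLocal (addGr ℬ) (addIdeal ℬ m) := by
  have hle : ∀ n : HomogeneousIdeal (addGr ℬ), n ≠ ⊤ → n ≤ addIdeal ℬ m := fun n hn => by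
    have h1 : n.toIdeal.IsHomogeneous ℬ := fun i x hx => by
      change cpt ℬ i x ∈ n.toIdeal
      rw [← cpt_addGr]
      exact n.isHomogeneous i hx
    have h2 := le_irrI ℬ hpos h0 h1 fun e => hn (HomogeneousIdeal.toIdeal_injective e)
    rw [← hm] at h2
    exact h2
  have hne : addIdeal ℬ m ≠ ⊤ := fun e =>
    (irrI_isMaximal ℬ hpos h0).ne_top (hm ▸ congrArg HomogeneousIdeal.toIdeal e)
  refine ⟨⟨hne, fun b hb => ?_⟩, fun n hn => le_antisymm (hle n hn.1) ?_⟩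
  · by_contra hbt
    exact absurd (hle b hbt) (not_le_of_gt hb)
  · rcases (hle n hn.1).eq_or_lt with h | h
    · exact h.ge
    · exact absurd (hn.2 _ h) hne

end Groth.Agent.GrSegre
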