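import Groth.Agent.GrSegre.TotRes

/-!
# Local cohomology of `M # N` when a positive element acts bijectively on `N`
-/

set_option autoImplicit false
set_option linter.unusedSectionVars false
set_option linter.style.haveILetI false
universe u

open DirectSum TensorProduct
open Groth.Agent.GrLC

noncomputable section

namespace Groth.Agent.GrSegre

variable {k : Type u} [Field k]
variable {R S : Type u} [CommRing R] [CommRing S] [Algebra k R] [Algebra k S]
  {𝒜 : ℤ → Submodule k R} [GradedAlgebra 𝒜] {ℬ : ℤ → Submodule k S} [GradedAlgebra ℬ]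

section Diag

variable {M : Type u} [AddCommGroup M] [Module R M] [Module k M] [IsScalarTower k R M]
  {τ : Type u} [SetLike τ M] [AddSubgroupClass τ M] {ℳ : ℤ → τ} [DirectSum.Decomposition ℳ]
  [SetLike.GradedSMul 𝒜 ℳ]
variable {M' : Type u} [AddCommGroup M'] [Module R M'] [Module k M'] [IsScalarTower k R M']
  {τ₁ : Type u} [SetLike τ₁ M'] [AddSubgroupClass τ₁ M'] {ℳ' : ℤ → τ₁} [DirectSum.Decomposition ℳ']
  [SetLike.GradedSMul 𝒜 ℳ']
variable {N : Type u} [AddCommGroup N] [Module S N] [Module k N] [IsScalarTower k S N]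
  {τ' : Type u} [SetLike τ' N] [AddSubgroupClass τ' N] {𝒩 : ℤ → τ'} [DirectSum.Decomposition 𝒩]
  [SetLike.GradedSMul ℬ 𝒩]

theorem act_map_id (f : M →ₗ[R] M') (u : R ⊗[k] S) (v : M ⊗[k] N) :
    TensorProduct.map (f.restrictScalars k) LinearMap.id (_root_.GrSeg.act k R S M N u v) =
      _root_.GrSeg.act k R S M' N u (TensorProduct.map (f.restrictScalars k) LinearMap.id v) := by
  induction u using TensorProduct.induction_on with
  | zero => simp
  | add a b ha hb => simp only [map_add, LinearMap.add_apply, ha, hb]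
  | tmul r s =>
    induction v using TensorProduct.induction_on with
    | zero => simp
    | add a b ha hb => simp only [map_add, ha, hb]
    | tmul x y =>
      rw [_root_.GrSeg.act_tmul, TensorProduct.map_tmul, TensorProduct.map_tmul, _root_.GrSeg.act_tmul]
      simp

theorem diag_map_id {f : M →ₗ[R] M'} (hf : _root_.GrLC.IsGrHom ℳ ℳ' f) (v : M ⊗[k] N) :
    diag 𝒜 ℬ ℳ' 𝒩 (TensorProduct.map (f.restrictScalars k) LinearMap.id v) =
      TensorProduct.map (f.restrictScalars k) LinearMap.id (diag 𝒜 ℬ ℳ 𝒩 v) := by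
  induction v using TensorProduct.induction_on with
  | zero => simp
  | add a b ha hb => simp only [map_add, ha, hb]
  | tmul x y =>
    induction x using homogeneous_induction ℳ with
    | zero => simp
    | add a b ha hb => simp only [TensorProduct.add_tmul, map_add, ha, hb]
    | hom i x hx =>
      rw [diag_tmul_of_mem 𝒜 ℬ ℳ 𝒩 hx]
      simp only [TensorProduct.map_tmul, LinearMap.coe_restrictScalars, LinearMap.id_apply]
      rw [diag_tmul_of_mem 𝒜 ℬ ℳ' 𝒩 (hf i x hx)]

theorem diag_mem_range_of_homogeneous {C : Submodule R M} (hC : C.IsHomogeneous ℳ) {v : M ⊗[k] N}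
    (hv : v ∈ LinearMap.range (TensorProduct.map ((C.subtype).restrictScalars k) (LinearMap.id : N →ₗ[k] N))) :
    diag 𝒜 ℬ ℳ 𝒩 v ∈
      LinearMap.range (TensorProduct.map ((C.subtype).restrictScalars k) (LinearMap.id : N →ₗ[k] N)) := by
  obtain ⟨u, rfl⟩ := hv
  induction u using TensorProduct.induction_on with
  | zero => simp
  | add a b ha hb => simp only [map_add]; exact add_mem ha hb
  | tmul x y =>
    rw [TensorProduct.map_tmul, diag_tmul]
    refine finsum_induction (fun v => v ∈ LinearMap.range _) (zero_mem _) (fun a b ha hb => add_mem ha hb)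
      fun n => ?_
    exact ⟨(⟨cpt ℳ n x.1, hC n x.2⟩ : C) ⊗ₜ[k] cpt 𝒩 n y, rfl⟩

theorem exists_piece_preimage {C : Submodule R M} (hC : C.IsHomogeneous ℳ) (u : C ⊗[k] N) (g : ℤ) :
    ∃ u' ∈ Submodule.span k {x : C ⊗[k] N | ∃ c : C, (c : M) ∈ ℳ g ∧ ∃ y ∈ 𝒩 g, x = c ⊗ₜ[k] y},
      TensorProduct.map ((C.subtype).restrictScalars k) (LinearMap.id : N →ₗ[k] N) u' =
        TensorProduct.map (cptₗ 𝒜 ℳ g) (cptₗ ℬ 𝒩 g)
          (TensorProduct.map ((C.subtype).restrictScalars k) (LinearMap.id : N →ₗ[k] N) u) := by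
  induction u using TensorProduct.induction_on with
  | zero => exact ⟨0, zero_mem _, by simp⟩
  | add a b ha hb =>
    obtain ⟨a', ha', e⟩ := ha
    obtain ⟨b', hb', e'⟩ := hb
    exact ⟨a' + b', add_mem ha' hb', by simp only [map_add, e, e']⟩
  | tmul x y =>
    exact ⟨(⟨cpt ℳ g x.1, hC g x.2⟩ : C) ⊗ₜ[k] cpt 𝒩 g y,
      Submodule.subset_span ⟨_, cpt_mem ℳ g x.1, _, cpt_mem 𝒩 g y, rfl⟩, rfl⟩

theorem map_cpt_of_mem_segrePiece {v : M ⊗[k] N} {g : ℤ} (hv : v ∈ _root_.GrSeg.segrePiece k ℳ 𝒩 g) :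
    TensorProduct.map (cptₗ 𝒜 ℳ g) (cptₗ ℬ 𝒩 g) v = v := by
  induction hv using Submodule.span_induction with
  | zero => simp
  | add a b _ _ ha hb => rw [map_add, ha, hb]
  | smul c a _ ha => rw [map_smul, ha]
  | mem v hv =>
    obtain ⟨x, hx, y, hy, rfl⟩ := hv
    rw [TensorProduct.map_tmul, cptₗ_apply, cptₗ_apply, cpt_of_mem ℳ hx, cpt_of_mem 𝒩 hy]

end Diag

variable {T : Type u} [CommRing T] [Algebra k T] {𝒯 : ℤ → Submodule k T} [GradedAlgebra 𝒯]
  {ψ : T →ₐ[k] R ⊗[k] S} [IsNoetherianRing T] [IsNoetherianRing (R ⊗[k] S)] [IsNoetherianRing R]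
variable (hT : _root_.GrSeg.IsSegreRing 𝒜 ℬ 𝒯 ψ)
variable {M N : Type u} [AddCommGroup M] [Module R M] [Module k M] [IsScalarTower k R M]
  [AddCommGroup N] [Module S N] [Module k N] [IsScalarTower k S N]
  {τ τ' : Type u} [SetLike τ M] [AddSubgroupClass τ M] [SetLike τ' N] [AddSubgroupClass τ' N]
  {ℳ : ℤ → τ} [DirectSum.Decomposition ℳ] [SetLike.GradedSMul 𝒜 ℳ]
  {𝒩 : ℤ → τ'} [DirectSum.Decomposition 𝒩] [SetLike.GradedSMul ℬ 𝒩]
variable {P : Type u} [AddCommGroup P] [Module T P] [Module k P] [IsScalarTower k T P]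
  {τQ : Type u} [SetLike τQ P] [AddSubgroupClass τQ P] {𝒬 : ℤ → τQ} [DirectSum.Decomposition 𝒬]
  [SetLike.GradedSMul 𝒯 𝒬] {φ : P →ₗ[k] M ⊗[k] N}
  (hP : _root_.GrSeg.IsSegreMod ψ ℳ 𝒩 𝒬 φ)
variable (mR : HomogeneousIdeal 𝒜) (hmR : mR.toIdeal = irrI 𝒜)
  (mT : HomogeneousIdeal 𝒯) (hmT : mT.toIdeal = irrI 𝒯)
  (EM : _root_.GrLC.StarInjRes 𝒜 ℳ) (EP : _root_.GrLC.StarInjRes 𝒯 𝒬)

set_option maxHeartbeats 1600000 in
include hT hP hmR hmT in
/-- `H^q(M # N) = H^q(M) # N` -/
theorem exists_segreMod_H_bij (hNt : IsTame ℬ 𝒩 (irrI ℬ))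
    (hN0 : _root_.GrLC.gam (irrI ℬ) N = ⊥) (hMt : ∀ n, IsTame 𝒜 (EM.X n).gr (irrI 𝒜)) (q : ℕ)
    [DirectSum.Decomposition (EP.Hgr mT q)] :
    ∃ φ' : EP.H mT q →ₗ[k] EM.H mR q ⊗[k] N,
      _root_.GrSeg.IsSegreMod ψ (EM.Hgr mR q) 𝒩 (EP.Hgr mT q) φ' := by
  classical
  let Xs : ℕ → Type u := fun n => (EM.X n).carrier
  have hseg := fun n => exists_segre 𝒜 ℬ (EM.X n).gr 𝒩 hT
  choose Q φn hφn using hseg
  have hmaps : ∀ n, ∃ h : (Q n).carrier →ₗ[T] (Q (n + 1)).carrier,
      (∀ p, φn (n + 1) (h p) = TensorProduct.map ((EM.d n).restrictScalars k)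
        (LinearMap.id : N →ₗ[k] N) (φn n p)) ∧ _root_.GrLC.IsGrHom (Q n).gr (Q (n + 1)).gr h := fun n => by
    obtain ⟨h, h1, h2⟩ := exists_segMap (EM.X n).gr 𝒩 (EM.X (n + 1)).gr 𝒩 (hφn n) (hφn (n + 1))
      (f := EM.d n) (g := LinearMap.id) (c := 0) (deg_zero (EM.d_grHom n))
      (fun j x hx => by rw [add_zero]; exact hx)
    exact ⟨h, h1, fun j x hx => by simpa only [add_zero] using h2 j x hx⟩
  choose D hD hDgr using hmaps
  obtain ⟨e, he, hegr⟩ : ∃ e : P →ₗ[T] (Q 0).carrier,
      (∀ p, φn 0 (e p) = TensorProduct.map (EM.ε.restrictScalars k) (LinearMap.id : N →ₗ[k] N) (φ p)) ∧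
      _root_.GrLC.IsGrHom 𝒬 (Q 0).gr e := by
    obtain ⟨h, h1, h2⟩ := exists_segMap ℳ 𝒩 (EM.X 0).gr 𝒩 hP (hφn 0)
      (f := EM.ε) (g := LinearMap.id) (c := 0) (deg_zero EM.ε_grHom)
      (fun j x hx => by rw [add_zero]; exact hx)
    exact ⟨h, h1, fun j x hx => by simpa only [add_zero] using h2 j x hx⟩
  have hexact : ∀ {A B C : Type u} [AddCommGroup A] [Module k A] [AddCommGroup B] [Module k B]
      [AddCommGroup C] [Module k C] {f : A →ₗ[k] B} {g : B →ₗ[k] C}, Function.Exact f g →
      ∀ v : B ⊗[k] N, TensorProduct.map g (LinearMap.id : N →ₗ[k] N) v = 0 →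
        ∃ u : A ⊗[k] N, TensorProduct.map f (LinearMap.id : N →ₗ[k] N) u = v :=
    fun {A B C} _ _ _ _ _ _ {f g} hfg v hv =>
      (Module.Flat.rTensor_exact (R := k) N hfg v).1 hv
  have hex0 : Function.Exact (EM.ε.restrictScalars k) ((EM.d 0).restrictScalars k) := fun x =>
    ⟨fun h => EM.exact_zero.le h, fun h => EM.exact_zero.ge h⟩
  have hexs : ∀ n, Function.Exact ((EM.d n).restrictScalars k) ((EM.d (n + 1)).restrictScalars k) :=
    fun n x => ⟨fun h => (EM.exact_succ n).le h, fun h => (EM.exact_succ n).ge h⟩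
  let G : GrRes 𝒯 𝒬 :=
    { X := Q
      d := D
      ε := e
      d_grHom := hDgr
      ε_grHom := hegr
      ε_injective := fun x y h => hP.injective <| by
        refine TensorProduct.map_injective_of_flat_flat (EM.ε.restrictScalars k) (LinearMap.id : N →ₗ[k] N) EM.ε_injective Function.injective_id ?_
        rw [← he, ← he, h]
      exact_zero := by
        refine le_antisymm (fun z hz => ?_) ?_
        · have h1 : TensorProduct.map ((EM.d 0).restrictScalars k) (LinearMap.id : N →ₗ[k] N) (φn 0 z) = 0 := by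
            rw [← hD, LinearMap.mem_ker.1 hz, map_zero]
          obtain ⟨u, hu⟩ := hexact hex0 _ h1
          obtain ⟨p, hp⟩ := diag_mem_range 𝒜 ℬ ℳ 𝒩 hP u
          refine ⟨p, (hφn 0).injective ?_⟩
          rw [he, hp, ← diag_map_id (𝒜 := 𝒜) (ℬ := ℬ) EM.ε_grHom, hu,
            diag_map 𝒜 ℬ (EM.X 0).gr 𝒩 (hφn 0)]
        · rintro _ ⟨p, rfl⟩
          refine (hφn 1).injective ?_
          rw [hD, he, map_zero, Cx.map_map', show ((EM.d 0).restrictScalars k).comp (EM.ε.restrictScalars k) = 0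
            from LinearMap.ext fun m => EM.exact_zero.ge ⟨m, rfl⟩, TensorProduct.map_zero_left,
            LinearMap.zero_apply]
      exact_succ := fun n => by
        refine le_antisymm (fun z hz => ?_) ?_
        · have h1 : TensorProduct.map ((EM.d (n + 1)).restrictScalars k) (LinearMap.id : N →ₗ[k] N)
              (φn (n + 1) z) = 0 := by
            rw [← hD, LinearMap.mem_ker.1 hz, map_zero]
          obtain ⟨u, hu⟩ := hexact (hexs n) _ h1
          obtain ⟨p, hp⟩ := diag_mem_range 𝒜 ℬ (EM.X n).gr 𝒩 (hφn n) u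
          refine ⟨p, (hφn (n + 1)).injective ?_⟩
          rw [hD, hp, ← diag_map_id (𝒜 := 𝒜) (ℬ := ℬ) (EM.d_grHom n), hu,
            diag_map 𝒜 ℬ (EM.X (n + 1)).gr 𝒩 (hφn (n + 1))]
        · rintro _ ⟨p, rfl⟩
          refine (hφn (n + 1 + 1)).injective ?_
          rw [hD, hD, map_zero, Cx.map_map',
            show ((EM.d (n + 1)).restrictScalars k).comp ((EM.d n).restrictScalars k) = 0 from
              LinearMap.ext fun m => (EM.exact_succ n).ge ⟨m, rfl⟩, TensorProduct.map_zero_left,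
            LinearMap.zero_apply] }
  -- torsion
  let Γ : ∀ n, (_root_.GrLC.gam mR.toIdeal (EM.X n).carrier) ⊗[k] N →ₗ[k] (EM.X n).carrier ⊗[k] N := fun n =>
    TensorProduct.map ((_root_.GrLC.gam mR.toIdeal (EM.X n).carrier).subtype.restrictScalars k) LinearMap.id
  have hgam : ∀ n (p : (Q n).carrier),
      p ∈ _root_.GrLC.gam mT.toIdeal (Q n).carrier ↔ φn n p ∈ LinearMap.range (Γ n) := by
    intro n p
    rw [mem_gam_segre_iff 𝒜 ℬ _ _ hT (hφn n) mT hmT (hMt n) hNt, gamTens, hN0]
    constructor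
    · intro h
      obtain ⟨_, ⟨x, rfl⟩, _, ⟨y, rfl⟩, hxy⟩ := Submodule.mem_sup.1 h
      rw [← hxy]
      clear hxy h
      refine add_mem ?_ ?_
      · induction x using TensorProduct.induction_on with
        | zero => rw [map_zero]; exact zero_mem _
        | add a b ha hb => rw [map_add]; exact add_mem ha hb
        | tmul a b =>
          rw [LinearMap.lTensor_tmul, show (b : ((⊥ : Submodule S N).restrictScalars k)) = 0 from
            Subtype.ext b.2, map_zero, TensorProduct.tmul_zero]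
          exact zero_mem _
      · induction y using TensorProduct.induction_on with
        | zero => rw [map_zero]; exact zero_mem _
        | add a b ha hb => rw [map_add]; exact add_mem ha hb
        | tmul a b => exact ⟨(⟨a.1, hmR.symm ▸ a.2⟩ : _root_.GrLC.gam mR.toIdeal _) ⊗ₜ[k] b, rfl⟩
    · rintro ⟨u, hu⟩
      rw [← hu]
      refine Submodule.mem_sup_right ?_
      clear hu
      induction u using TensorProduct.induction_on with
      | zero => rw [map_zero]; exact zero_mem _
      | add a b ha hb => rw [map_add]; exact add_mem ha hb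
      | tmul a b =>
        exact ⟨(⟨a.1, hmR ▸ a.2⟩ : (_root_.GrLC.gam (irrI 𝒜) (EM.X n).carrier).restrictScalars k) ⊗ₜ[k] b, rfl⟩
  let ι : (EM.cocyc mR q) ⊗[k] N →ₗ[k] (EM.X q).carrier ⊗[k] N :=
    TensorProduct.map ((EM.cocyc mR q).subtype.restrictScalars k) LinearMap.id
  have hιi : Function.Injective ι :=
    TensorProduct.map_injective_of_flat_flat _ _ (Submodule.injective_subtype _) Function.injective_id
  -- cocycles
  have hex : ∀ z : G.cocyc mT q, ∃ u, ι u = φn q z.1 := by
    intro z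
    obtain ⟨v, hv⟩ := (hgam q z.1).1 z.2.1
    let dΓ : _root_.GrLC.gam mR.toIdeal (EM.X q).carrier →ₗ[k] (EM.X (q + 1)).carrier :=
      ((EM.d q).restrictScalars k).comp
        ((_root_.GrLC.gam mR.toIdeal (EM.X q).carrier).subtype.restrictScalars k)
    have hz : TensorProduct.map dΓ (LinearMap.id : N →ₗ[k] N) v = 0 := by
      have := Cx.map_map' ((EM.d q).restrictScalars k) (LinearMap.id : N →ₗ[k] N)
        ((_root_.GrLC.gam mR.toIdeal (EM.X q).carrier).subtype.restrictScalars k)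
        (LinearMap.id : N →ₗ[k] N) v
      rw [LinearMap.id_comp] at this
      rw [← this]
      change TensorProduct.map ((EM.d q).restrictScalars k) LinearMap.id (Γ q v) = 0
      rw [hv, ← hD, show D q z.1 = 0 from z.2.2, map_zero]
    let inc : EM.cocyc mR q →ₗ[k] _root_.GrLC.gam mR.toIdeal (EM.X q).carrier :=
      (Submodule.inclusion (inf_le_left : EM.cocyc mR q ≤ _root_.GrLC.gam mR.toIdeal (EM.X q).carrier)).restrictScalars k
    obtain ⟨u, hu⟩ := hexact (f := inc) (g := dΓ) (fun x => ⟨fun h => ⟨⟨x.1, x.2, h⟩, rfl⟩, by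
      rintro ⟨c, rfl⟩
      exact c.2.2⟩) v hz
    refine ⟨u, ?_⟩
    rw [← hv, ← hu]
    clear hu hz hv
    induction u using TensorProduct.induction_on with
    | zero => rw [map_zero, map_zero, map_zero]
    | add a b ha hb => rw [map_add, map_add, map_add, ha, hb]
    | tmul a b => rfl
  let tk : EM.cocyc mR q →ₗ[k] EM.H mR q :=
    { toFun := EM.toH mR q
      map_add' := map_add _
      map_smul' := fun c x => by
        rw [RingHom.id_apply, ← algebraMap_smul R c x, map_smul, algebraMap_smul] }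
  let τH := TensorProduct.map tk (LinearMap.id : N →ₗ[k] N)
  choose U hU using hex
  let Ψ : G.cocyc mT q →ₗ[k] EM.H mR q ⊗[k] N :=
    { toFun := fun z => τH (U z)
      map_add' := fun x y => by
        rw [← map_add]
        exact congrArg τH (hιi (by rw [map_add, hU, hU, hU]; exact map_add (φn q) x.1 y.1))
      map_smul' := fun c x => by
        rw [RingHom.id_apply, ← map_smul]
        exact congrArg τH (hιi (by rw [map_smul, hU, hU]; exact map_smul (φn q) c x.1)) }
  have hΨu : ∀ (z : G.cocyc mT q) u, ι u = φn q z.1 → Ψ z = τH u := fun z u hu =>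
    congrArg τH (hιi ((hU z).trans hu.symm))
  obtain ⟨κ, hκs, hker, hgr, honto⟩ := G.exists_comparison mT
    (fun n j => subsingleton_H_segre 𝒜 ℬ _ _ hT (hφn n) mT hmT (hMt n) hNt j) EP q
  have hbd : ∀ z : G.cocyc mT q, Ψ z = 0 ↔ z.1 ∈ G.cobdy mT q := by
    intro z
    let B : Submodule R (EM.cocyc mR q) := (EM.cobdy mR q).comap (EM.cocyc mR q).subtype
    have hB : Function.Exact (B.subtype.restrictScalars k) tk := fun x =>
      ⟨fun h => ⟨⟨x, (Submodule.Quotient.mk_eq_zero _).1 h⟩, rfl⟩,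
        by rintro ⟨y, rfl⟩; exact (Submodule.Quotient.mk_eq_zero _).2 y.2⟩
    change τH (U z) = 0 ↔ _
    refine ⟨fun h => ?_, fun h => ?_⟩
    · obtain ⟨w, hw⟩ := hexact hB _ h
      have hz := hU z
      rw [← hw] at hz
      rcases q with - | q
      · have h0 : w = 0 := by
          clear hz hw
          haveI : Subsingleton B := ⟨fun a b => Subtype.ext (Subtype.ext
            (((Submodule.mem_bot R).1 a.2).trans ((Submodule.mem_bot R).1 b.2).symm))⟩
          induction w using TensorProduct.induction_on with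
          | zero => rfl
          | add a b ha hb => rw [ha, hb, add_zero]
          | tmul a b => rw [Subsingleton.elim a 0, TensorProduct.zero_tmul]
        rw [h0, map_zero, map_zero] at hz
        exact (Submodule.mem_bot T).2 ((hφn 0).injective (hz.symm.trans (map_zero _).symm))
      · let dg : _root_.GrLC.gam mR.toIdeal (EM.X q).carrier →ₗ[k] (EM.X (q + 1)).carrier :=
          ((EM.d q).restrictScalars k).comp
            ((_root_.GrLC.gam mR.toIdeal (EM.X q).carrier).subtype.restrictScalars k)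
        obtain ⟨v, hv⟩ : ∃ v, TensorProduct.map dg (LinearMap.id : N →ₗ[k] N) v = φn (q + 1) z.1 := by
          rw [← hz]
          clear hz hw
          induction w using TensorProduct.induction_on with
          | zero => exact ⟨0, by simp⟩
          | add a b ha hb =>
            obtain ⟨a', ha'⟩ := ha
            obtain ⟨b', hb'⟩ := hb
            exact ⟨a' + b', by simp only [map_add, ha', hb']⟩
          | tmul a b =>
            obtain ⟨x, hx, hxe⟩ := a.2
            exact ⟨(⟨x, hx⟩ : _root_.GrLC.gam mR.toIdeal _) ⊗ₜ[k] b, by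
              simp only [ι, dg, TensorProduct.map_tmul, LinearMap.id_apply]
              exact congrArg (· ⊗ₜ[k] b) hxe⟩
        obtain ⟨p, hp⟩ := diag_mem_range 𝒜 ℬ (EM.X q).gr 𝒩 (hφn q) (Γ q v)
        refine ⟨p, (hgam q p).2 ?_, (hφn (q + 1)).injective ?_⟩
        · rw [hp]
          exact diag_mem_range_of_homogeneous (isHomogeneous_gam mR) ⟨v, rfl⟩
        · rw [hD, hp, ← diag_map_id (𝒜 := 𝒜) (ℬ := ℬ) (EM.d_grHom q), Cx.map_map', LinearMap.id_comp, hv,
            diag_map 𝒜 ℬ (EM.X (q + 1)).gr 𝒩 (hφn (q + 1))]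
    · rcases q with - | q
      · have : z = 0 := Subtype.ext ((Submodule.mem_bot T).1 h)
        rw [show U z = 0 from hιi (by rw [hU, this, map_zero]; exact map_zero _), map_zero]
      · obtain ⟨p, hp, hpz⟩ := h
        obtain ⟨v, hv⟩ := (hgam q p).1 hp
        have hdd : ∀ x, EM.d (q + 1) (EM.d q x) = 0 := fun x => (EM.exact_succ q).ge ⟨x, rfl⟩
        let bd : _root_.GrLC.gam mR.toIdeal (EM.X q).carrier →ₗ[k] EM.cocyc mR (q + 1) :=
          (((EM.d q).comp (_root_.GrLC.gam mR.toIdeal (EM.X q).carrier).subtype).codRestrict (EM.cocyc mR (q + 1)) fun x =>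
            ⟨by
              obtain ⟨m, hm⟩ := x.2
              exact ⟨m, fun r hr => by
                change r • EM.d q x.1 = 0
                rw [← map_smul, hm r hr, map_zero]⟩, hdd _⟩).restrictScalars k
        have hu : ι (TensorProduct.map bd (LinearMap.id : N →ₗ[k] N) v) = φn (q + 1) z.1 := by
          rw [← hpz, hD, ← hv]
          clear hv
          induction v using TensorProduct.induction_on with
          | zero => simp only [map_zero]
          | add a b ha hb => simp only [map_add, ha, hb]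
          | tmul a b => rfl
        rw [hιi ((hU z).trans hu.symm)]
        refine (Cx.map_map' _ _ _ _ v).trans ?_
        rw [show tk.comp bd = 0 from LinearMap.ext fun x => (Submodule.Quotient.mk_eq_zero _).2
          ⟨x.1, x.2, rfl⟩, TensorProduct.map_zero_left, LinearMap.zero_apply]
  choose L hL using hκs
  have hwd : ∀ z z' : G.cocyc mT q, κ z = κ z' → Ψ z = Ψ z' := fun z z' h => by
    rw [← sub_eq_zero, ← map_sub]
    exact (hbd _).2 ((hker _).1 (by rw [map_sub, h, sub_self]))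
  let φ' : EP.H mT q →ₗ[k] EM.H mR q ⊗[k] N :=
    { toFun := fun x => Ψ (L x)
      map_add' := fun x y => by
        rw [← map_add]
        exact hwd _ _ (by rw [map_add, hL, hL, hL])
      map_smul' := fun c x => by
        rw [RingHom.id_apply, ← map_smul]
        exact hwd _ _ (by rw [← algebraMap_smul T c (L x), map_smul, hL, hL, algebraMap_smul]) }
  have hφκ : ∀ z, φ' (κ z) = Ψ z := fun z => hwd _ _ (hL _)
  refine ⟨φ', (injective_iff_map_eq_zero φ').2 fun x hx => ?_, fun g => ?_, fun t x => ?_⟩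
  · rw [← hL x]
    exact (hker _).2 ((hbd _).1 hx)
  · refine Set.Subset.antisymm ?_ fun w hw => ?_
    · rintro _ ⟨x, hx, rfl⟩
      obtain ⟨z, hz, rfl⟩ := honto g x hx
      rw [hφκ]
      obtain ⟨u', hu', hu'e⟩ := exists_piece_preimage (ℳ := (EM.X q).gr) (𝒩 := 𝒩) (𝒜 := 𝒜) (ℬ := ℬ)
        (isHomogeneous_cocyc EM mR q) (U z) g
      rw [hΨu z u' (hu'e.trans (by
        change TensorProduct.map _ _ (ι (U z)) = _
        rw [hU]
        exact map_cpt_of_mem_segrePiece (mem_segrePiece_of_mem _ _ (hφn q) hz)))]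
      clear hu'e
      induction hu' using Submodule.span_induction with
      | zero => rw [map_zero]; exact zero_mem _
      | add a b _ _ ha hb => rw [map_add]; exact add_mem ha hb
      | smul c a _ ha => rw [map_smul]; exact Submodule.smul_mem _ c ha
      | mem v hv =>
        obtain ⟨c, hc, y, hy, rfl⟩ := hv
        exact Submodule.subset_span ⟨_, ⟨c, hc, rfl⟩, y, hy, rfl⟩
    · induction hw using Submodule.span_induction with
      | zero => exact ⟨0, zero_mem _, map_zero φ'⟩
      | add a b _ _ ha hb =>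
        obtain ⟨x, hx, rfl⟩ := ha
        obtain ⟨y, hy, rfl⟩ := hb
        exact ⟨x + y, add_mem hx hy, map_add φ' x y⟩
      | smul c a _ ha =>
        obtain ⟨x, hx, rfl⟩ := ha
        haveI := Hgr_gradedSMul EP mT q
        exact ⟨c • x, ksmul_mem (𝒜 := 𝒯) (EP.Hgr mT q) c hx, map_smul φ' c x⟩
      | mem v hv =>
        obtain ⟨_, ⟨c, hc, rfl⟩, y, hy, rfl⟩ := hv
        obtain ⟨p, hp, hpe⟩ := exists_mem_eq _ _ (hφn q) (n := g) (v := (c : (EM.X q).carrier) ⊗ₜ[k] y)
          (Submodule.subset_span ⟨_, hc, y, hy, rfl⟩)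
        have hpz : p ∈ G.cocyc mT q := by
          refine ⟨(hgam q p).2 ⟨(⟨c.1, c.2.1⟩ : _root_.GrLC.gam mR.toIdeal _) ⊗ₜ[k] y, hpe.symm⟩, ?_⟩
          refine (hφn (q + 1)).injective ?_
          rw [hD, hpe, map_zero, TensorProduct.map_tmul,
            show (EM.d q).restrictScalars k c.1 = 0 from c.2.2, TensorProduct.zero_tmul]
        refine ⟨κ ⟨p, hpz⟩, hgr g ⟨p, hpz⟩ hp, ?_⟩
        rw [hφκ, hΨu ⟨p, hpz⟩ (c ⊗ₜ[k] y) hpe.symm]
        rfl
  · obtain ⟨z, rfl⟩ : ∃ z, κ z = x := ⟨L x, hL x⟩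
    rw [← map_smul, hφκ, hφκ]
    have htk : tk = (EM.toH mR q).restrictScalars k := rfl
    rw [hΨu (t • z) (_root_.GrSeg.act k R S _ N (ψ t) (U z)) ?_]
    · change TensorProduct.map tk _ _ = _
      rw [htk, act_map_id]
      rfl
    · change TensorProduct.map _ _ _ = φn q (t • z.1)
      rw [act_map_id, (hφn q).map_smul]
      exact congrArg _ (hU z)

/-- the scalar structure is the one through the ring -/
theorem module_eq_of_tower {A V : Type u} [CommRing A] [Algebra k A] [AddCommGroup V] [Module A V]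
    (i : Module k V) (ht : @IsScalarTower k A V _ _ i.toSMul) (j : Module k V)
    (ht' : @IsScalarTower k A V _ _ j.toSMul) : i = j := by
  refine Module.ext' i j fun c x => ?_
  have h1 : (letI := i; c • x) = algebraMap k A c • x := by
    letI := i; haveI := ht; exact (algebraMap_smul A c x).symm
  have h2 : (letI := j; c • x) = algebraMap k A c • x := by
    letI := j; haveI := ht'; exact (algebraMap_smul A c x).symm
  exact h1.trans h2.symm

omit [IsNoetherianRing T] [IsNoetherianRing (R ⊗[k] S)] [IsNoetherianRing R] in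
/-- the canonical structure -/
abbrev canK (E : _root_.GrLC.StarInjRes 𝒜 ℳ) (m : HomogeneousIdeal 𝒜) (q : ℕ) : Module k (E.H m q) :=
  inferInstance

omit [IsNoetherianRing T] [IsNoetherianRing (R ⊗[k] S)] [IsNoetherianRing R] in
theorem canTower (E : _root_.GrLC.StarInjRes 𝒜 ℳ) (m : HomogeneousIdeal 𝒜) (q : ℕ) :
    IsScalarTower k R (E.H m q) := inferInstance

include hT hP hmR hmT in
/-- `H^q(M # N) = H^q(M) # N` for any scalar structures -/
theorem exists_segreMod_H_bij' (hNt : IsTame ℬ 𝒩 (irrI ℬ))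
    (hN0 : _root_.GrLC.gam (irrI ℬ) N = ⊥) (hMt : ∀ n, IsTame 𝒜 (EM.X n).gr (irrI 𝒜)) (q : ℕ)
    [DirectSum.Decomposition (EP.Hgr mT q)]
    (iR : Module k (EM.H mR q)) (tR : @IsScalarTower k R (EM.H mR q) _ _ iR.toSMul)
    (iP : Module k (EP.H mT q)) (tP : @IsScalarTower k T (EP.H mT q) _ _ iP.toSMul) :
    letI := iR
    letI := iP
    haveI := tR
    haveI := tP
    ∃ φ' : EP.H mT q →ₗ[k] EM.H mR q ⊗[k] N,
      _root_.GrSeg.IsSegreMod ψ (EM.Hgr mR q) 𝒩 (EP.Hgr mT q) φ' := by
  obtain rfl := module_eq_of_tower iR tR (canK EM mR q) (canTower EM mR q)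
  obtain rfl := module_eq_of_tower iP tP (canK EP mT q) (canTower EP mT q)
  exact exists_segreMod_H_bij hT hP mR hmR mT hmT EM EP hNt hN0 hMt q

end Groth.Agent.GrSegre
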