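import Groth.Agent.GrSegre.Sop
import Groth.Agent.GrSegre.Proj
import Groth.Agent.RegLoc.MCM
import Groth.Agent.LocCoh.DepthVanishing
import Groth.Agent.LocCoh.TopDegree
import Groth.Agent.LocCoh.BaseChange
import Mathlib.RingTheory.RegularLocalRing.Polynomial

/-!
# Cohen–Macaulay graded modules over graded algebras over a field and local cohomology at `R₊`
-/

set_option autoImplicit false
set_option linter.unusedSectionVars false
set_option linter.style.haveILetI false
universe u

open DirectSum MvPolynomial RingTheory.Sequence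
open Groth.Agent.GrLC

namespace Groth.Agent.GrSegre

variable {k : Type u} [Field k] {R : Type u} [CommRing R] [Algebra k R]
  (𝒜 : ℤ → Submodule k R) [GradedAlgebra 𝒜]
  (hpos : ∀ n : ℤ, n < 0 → 𝒜 n = ⊥) (h0 : 𝒜 0 = Submodule.span k {(1 : R)})
  {M : Type u} [AddCommGroup M] [Module R M] [Module k M] [IsScalarTower k R M]
  {τ : Type u} [SetLike τ M] [AddSubgroupClass τ M]
  (ℳ : ℤ → τ) [DirectSum.Decomposition ℳ] [SetLike.GradedSMul 𝒜 ℳ]

include hpos h0 ℳ in
/-- `dim M` is attained at the irrelevant ideal. -/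
theorem supportDim_atIrrI [Algebra.FiniteType k R] [Module.Finite R M] [(irrI 𝒜).IsPrime] :
    Module.supportDim (Localization.AtPrime (irrI 𝒜)) (LocalizedModule (irrI 𝒜).primeCompl M) =
      Module.supportDim R M := by
  haveI := Algebra.FiniteType.isNoetherianRing k R
  rw [Dim.supportDim_atPrime]
  refine le_antisymm (Order.krullDim_le_of_strictMono (fun P => ⟨P.1, P.2.1⟩) fun _ _ h => h) ?_
  refine iSup_le fun l => ?_
  obtain ⟨q, hq, hqP⟩ := Ideal.exists_minimalPrimes_le
    (show Module.annihilator R M ≤ l.head.1.asIdeal from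
      (Module.mem_support_iff_of_finite.1 l.head.2))
  haveI := hq.1.1
  have hqhom := isHomogeneous_of_mem_minimalPrimes 𝒜 (annihilator_isHomogeneous 𝒜 ℳ) hq
  have hqm : q ≤ irrI 𝒜 := le_irrI 𝒜 hpos h0 hqhom hq.1.1.ne_top
  have hr' : (l.length : WithBot ℕ∞) ≤ ringKrullDim (R ⧸ q) := by
    rw [ringKrullDim_quotient, Order.le_krullDim_iff]
    exact ⟨LTSeries.mk l.length (fun j => ⟨(l j).1, show q ≤ (l j).1.asIdeal from
      hqP.trans (show l.head ≤ l j from l.monotone (Fin.zero_le _))⟩) fun a b h => l.strictMono h, rfl⟩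
  haveI : Nontrivial R := nontrivial_of_ne (0 : R) 1 fun h => hq.1.1.ne_top
    (Ideal.eq_top_of_isUnit_mem q (h ▸ q.zero_mem) isUnit_one)
  haveI := irrI_isMaximal 𝒜 hpos h0
  let mq : Ideal (R ⧸ q) := (irrI 𝒜).map (Ideal.Quotient.mk q)
  haveI : mq.IsMaximal := by
    refine Ideal.IsMaximal.map_of_surjective_of_ker_le Ideal.Quotient.mk_surjective ?_
    rwa [Ideal.mk_ker]
  haveI := VarDim.finiteType_quotient k R q
  rw [← VarDim.height_eq_ringKrullDim_of_isMaximal k (R ⧸ q) mq,
    PrimeSpectrum.height_eq_orderHeight (⟨mq, inferInstance⟩ : PrimeSpectrum (R ⧸ q))] at hr'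
  obtain ⟨s, hs, hsl⟩ := Order.exists_series_of_le_height
    (⟨mq, inferInstance⟩ : PrimeSpectrum (R ⧸ q)) (n := l.length) (by exact_mod_cast hr')
  refine Order.le_krullDim_iff.2 ⟨LTSeries.mk s.length (fun j =>
    ⟨PrimeSpectrum.comap (Ideal.Quotient.mk q) (s j), ?_, ?_⟩) fun a b h => ?_, hsl⟩
  · rw [Module.mem_support_iff_of_finite]
    refine hq.1.2.trans fun x hx => ?_
    rw [PrimeSpectrum.comap_asIdeal, Ideal.mem_comap, Ideal.Quotient.eq_zero_iff_mem.2 hx]
    exact zero_mem _
  · have : (s j).asIdeal ≤ mq := by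
      have := s.monotone (Fin.le_last j)
      rw [← RelSeries.last, hs] at this
      exact this
    refine (Ideal.comap_mono this).trans_eq ?_
    rw [Ideal.comap_map_of_surjective _ Ideal.Quotient.mk_surjective, ← RingHom.ker_eq_comap_bot,
      Ideal.mk_ker, sup_eq_left.2 hqm]
  · exact lt_of_le_of_ne (Ideal.comap_mono (s.strictMono h).le) fun e => (s.strictMono h).ne
      (PrimeSpectrum.comap_injective_of_surjective _ Ideal.Quotient.mk_surjective
        (congrArg Subtype.val e))

include hpos h0 ℳ in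
theorem annihilator_le_irrI [Nontrivial M] : Module.annihilator R M ≤ irrI 𝒜 := by
  refine le_irrI 𝒜 hpos h0 (annihilator_isHomogeneous 𝒜 ℳ) fun h => ?_
  rw [Module.annihilator_eq_top_iff] at h
  exact not_subsingleton M h

include hpos h0 ℳ in
/-- A Cohen–Macaulay module has depth `dim` at `R₊`. -/
theorem idealDepth_irrI_of_cm [Algebra.FiniteType k R] [Module.Finite R M] {r : ℕ}
    (hr : Module.supportDim R M = r)
    (hcm : ∀ (q : Ideal R) [q.IsPrime], Subsingleton (LocalizedModule q.primeCompl M) ∨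
      LocCoh.IsCohenMacaulayModule (Localization.AtPrime q) (LocalizedModule q.primeCompl M)) :
    LocCoh.idealDepth (irrI 𝒜) M = r := by
  haveI := Algebra.FiniteType.isNoetherianRing k R
  haveI : Nontrivial M := (Module.supportDim_ne_bot_iff_nontrivial R M).1 (by rw [hr]; simp)
  haveI : Nontrivial R := Module.nontrivial R M
  haveI hmax := irrI_isMaximal 𝒜 hpos h0
  haveI := hmax.isPrime
  have hdim := supportDim_atIrrI 𝒜 hpos h0 ℳ
  haveI : Nontrivial (LocalizedModule (irrI 𝒜).primeCompl M) :=
    (Module.mem_support_iff_of_finite (p := (⟨irrI 𝒜, inferInstance⟩ : PrimeSpectrum R))).2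
      (annihilator_le_irrI 𝒜 hpos h0 ℳ)
  have hc := (hcm (irrI 𝒜)).resolve_left (not_subsingleton _)
  unfold LocCoh.IsCohenMacaulayModule at hc
  rw [hdim, hr] at hc
  have hd : LocCoh.depth (Localization.AtPrime (irrI 𝒜))
      (LocalizedModule (irrI 𝒜).primeCompl M) = r := (WithBot.coe_injective hc).symm
  refine le_antisymm ((Depth.idealDepth_le_depth_localizedModule _ le_rfl).trans hd.le) ?_
  rw [Depth.idealDepth_eq_iInf_depth]
  refine le_iInf₂ fun p hp => ?_
  obtain rfl : p = ⟨irrI 𝒜, inferInstance⟩ := PrimeSpectrum.ext (hmax.eq_of_le p.2.ne_top hp).symm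
  exact hd.ge

include hpos h0 ℳ in
theorem subsingleton_H_of_cm [Algebra.FiniteType k R] [Module.Finite R M] {r : ℕ}
    (hr : Module.supportDim R M = r)
    (hcm : ∀ (q : Ideal R) [q.IsPrime], Subsingleton (LocalizedModule q.primeCompl M) ∨
      LocCoh.IsCohenMacaulayModule (Localization.AtPrime q) (LocalizedModule q.primeCompl M))
    {i : ℕ} (hi : i < r) : Subsingleton (LocCoh.H (irrI 𝒜) i M) := by
  haveI := Algebra.FiniteType.isNoetherianRing k R
  exact (LocCoh.H_of_idealDepth_eq _ r M (idealDepth_irrI_of_cm 𝒜 hpos h0 ℳ hr hcm)).1 i hi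

end Groth.Agent.GrSegre

namespace Groth.Agent.GrSegre

open Groth.Agent.GrLC

section Poly

variable {k : Type u} [Field k] {n : ℕ}

theorem span_X_eq_ker :
    Ideal.span (Set.range (MvPolynomial.X : Fin n → MvPolynomial (Fin n) k)) =
      RingHom.ker (constantCoeff (σ := Fin n) (R := k)) := by
  refine le_antisymm (Ideal.span_le.2 ?_) fun p hp => ?_
  · rintro _ ⟨i, rfl⟩
    simp [RingHom.mem_ker]
  · have key : ∀ q : MvPolynomial (Fin n) k, q - C (constantCoeff q) ∈
        Ideal.span (Set.range (MvPolynomial.X : Fin n → MvPolynomial (Fin n) k)) := by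
      intro q
      induction q using MvPolynomial.induction_on with
      | C c => simp
      | add q q' hq hq' =>
        have := add_mem hq hq'
        simp only [map_add]
        convert this using 1
        ring
      | mul_X q i _ =>
        simp only [map_mul, constantCoeff_X, mul_zero, map_zero, sub_zero]
        exact Ideal.mul_mem_left _ _ (Ideal.subset_span ⟨i, rfl⟩)
    have := key p
    rwa [RingHom.mem_ker.1 hp, map_zero, sub_zero] at this

instance span_X_isMaximal :
    (Ideal.span (Set.range (MvPolynomial.X : Fin n → MvPolynomial (Fin n) k))).IsMaximal :=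
  span_X_eq_ker (k := k) (n := n) ▸ RingHom.ker_isMaximal_of_surjective _ fun c => ⟨C c, constantCoeff_C _ c⟩

end Poly

/-- A surjection onto a free module over a local ring with kernel in `m • ⊤` is injective. -/
theorem injective_of_ker_le_smul {L : Type u} [CommRing L] [IsLocalRing L] {F N : Type u}
    [AddCommGroup F] [Module L F] [Module.Finite L F] [AddCommGroup N] [Module L N] [Module.Free L N]
    (p : F →ₗ[L] N) (hs : Function.Surjective p)
    (hk : ∀ v ∈ LinearMap.ker p, v ∈ IsLocalRing.maximalIdeal L • (⊤ : Submodule L F)) :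
    Function.Injective p := by
  obtain ⟨σ, hσ⟩ := p.exists_rightInverse_of_surjective (LinearMap.range_eq_top.2 hs)
  let pr : F →ₗ[L] LinearMap.ker p := (LinearMap.id - σ ∘ₗ p).codRestrict _ fun v => by
    have h := LinearMap.congr_fun hσ (p v)
    simp only [LinearMap.comp_apply, LinearMap.id_apply] at h
    simp [LinearMap.mem_ker, h]
  have hpr : ∀ v : LinearMap.ker p, pr v.1 = v := fun v =>
    Subtype.ext (by simp [pr])
  haveI : Module.Finite L (LinearMap.ker p) :=
    Module.Finite.of_surjective pr fun v => ⟨v.1, hpr v⟩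
  have hK : (⊤ : Submodule L (LinearMap.ker p)) = ⊥ := by
    refine Submodule.eq_bot_of_le_smul_of_le_jacobson_bot (IsLocalRing.maximalIdeal L) ⊤
      Module.Finite.fg_top (fun v _ => ?_) (IsLocalRing.jacobson_eq_maximalIdeal ⊥ bot_ne_top).ge
    rw [← hpr v]
    have := Submodule.mem_map_of_mem (f := pr) (hk v.1 v.2)
    rw [Submodule.map_smul''] at this
    exact Submodule.smul_mono le_rfl le_top this
  rw [← LinearMap.ker_eq_bot, Submodule.eq_bot_iff]
  intro v hv
  have h2 : (⟨v, hv⟩ : LinearMap.ker p) ∈ (⊤ : Submodule L (LinearMap.ker p)) := trivial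
  rw [hK] at h2
  exact congrArg Subtype.val ((Submodule.mem_bot L).1 h2)

theorem injective_of_minimal_aux {X : Type u} [CommRing X] [IsDomain X] (m : Ideal X) [m.IsPrime]
    {B : Type u} [Fintype B] {M : Type u} [AddCommGroup M] [Module X M] (π : (B →₀ X) →ₗ[X] M)
    (hπ : Function.Surjective π) (hker : ∀ v, π v = 0 → ∀ b, v b ∈ m)
    (L : Type u) [CommRing L] [Algebra X L] [IsLocalization.AtPrime L m] [IsLocalRing L]
    {F' M' : Type u} [AddCommGroup F'] [Module X F'] [Module L F'] [IsScalarTower X L F']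
    [AddCommGroup M'] [Module X M'] [Module L M'] [IsScalarTower X L M']
    (gF : (B →₀ X) →ₗ[X] F') [IsLocalizedModule m.primeCompl gF]
    (gM : M →ₗ[X] M') [IsLocalizedModule m.primeCompl gM]
    [Module.Finite L F'] [Module.Free L M'] :
    Function.Injective π := by
  let πL := IsLocalizedModule.mapExtendScalars m.primeCompl gF gM L π
  have hπLmk : ∀ v, πL (gF v) = gM (π v) :=
    fun v => IsLocalizedModule.map_apply m.primeCompl gF gM π v
  have hsurjL : Function.Surjective πL := IsLocalizedModule.map_surjective _ _ _ π hπ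
  have hmem : ∀ v' ∈ LinearMap.ker πL, v' ∈ IsLocalRing.maximalIdeal L • (⊤ : Submodule L F') := by
    intro v hv
    obtain ⟨⟨w, t⟩, hwt⟩ := IsLocalizedModule.mk'_surjective m.primeCompl gF v
    simp only [Function.uncurry_apply_pair] at hwt
    have htv : (t : X) • v = gF w := by
      rw [← hwt]
      exact IsLocalizedModule.mk'_cancel' gF w t
    have hπw : gM (π w) = 0 := by
      rw [← hπLmk, ← htv, LinearMap.map_smul_of_tower, LinearMap.mem_ker.1 hv, smul_zero]
    obtain ⟨c, hc⟩ := (IsLocalizedModule.eq_zero_iff m.primeCompl gM).1 hπw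
    have hw : ∀ b, w b ∈ m := fun b => by
      have := hker ((c : X) • w) (by rw [map_smul]; exact hc) b
      rw [Finsupp.smul_apply, smul_eq_mul] at this
      exact ((‹m.IsPrime›).mem_or_mem this).resolve_left c.2
    have hmk : gF w ∈ IsLocalRing.maximalIdeal L • (⊤ : Submodule L F') := by
      classical
      rw [← Finsupp.sum_single w, map_finsuppSum]
      refine sum_mem fun b _ => ?_
      have hb : (Finsupp.single b (w b) : B →₀ X) = w b • Finsupp.single b 1 := by simp
      change gF (Finsupp.single b (w b)) ∈ _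
      rw [hb, map_smul, ← algebraMap_smul L (w b)]
      exact Submodule.smul_mem_smul ((IsLocalization.AtPrime.to_map_mem_maximal_iff L m (w b)).2 (hw b))
        Submodule.mem_top
    obtain ⟨t', ht'⟩ := IsLocalization.map_units L t
    have : v = (t'⁻¹ : Lˣ).1 • gF w := by
      rw [← htv, ← algebraMap_smul L (t : X), ← ht', ← Units.smul_def, ← Units.smul_def, inv_smul_smul]
    rw [this]
    exact Submodule.smul_mem _ _ hmk
  have hinj : Function.Injective πL := injective_of_ker_le_smul πL hsurjL hmem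
  rw [← LinearMap.ker_eq_bot, LinearMap.ker_eq_bot']
  intro v hv
  have h1 : πL (gF v) = πL 0 := by rw [hπLmk, hv, map_zero, map_zero]
  obtain ⟨t, ht⟩ := (IsLocalizedModule.eq_zero_iff m.primeCompl gF).1 (hinj h1)
  exact (smul_eq_zero_iff_right (fun h => t.2 (h ▸ m.zero_mem) : (t : X) ≠ 0)).1 ht

/-- A minimal surjection from a finite free module onto a module free at a point is injective, over a
domain. -/
theorem injective_of_minimal {X : Type u} [CommRing X] [IsDomain X] (m : Ideal X) [m.IsPrime]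
    {B : Type u} [Fintype B] {M : Type u} [AddCommGroup M] [Module X M] (π : (B →₀ X) →ₗ[X] M)
    (hπ : Function.Surjective π) (hker : ∀ v, π v = 0 → ∀ b, v b ∈ m)
    [Module.Free (Localization.AtPrime m) (LocalizedModule m.primeCompl M)] :
    Function.Injective π :=
  injective_of_minimal_aux (F' := LocalizedModule m.primeCompl (B →₀ X))
    (M' := LocalizedModule m.primeCompl M) m π hπ hker (Localization.AtPrime m)
    (LocalizedModule.mkLinearMap m.primeCompl (B →₀ X)) (LocalizedModule.mkLinearMap m.primeCompl M)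

section Free

variable {k : Type u} [Field k] {R : Type u} [CommRing R] [Algebra k R]
  (𝒜 : ℤ → Submodule k R) [GradedAlgebra 𝒜] (hpos : ∀ n : ℤ, n < 0 → 𝒜 n = ⊥)
  {M : Type u} [AddCommGroup M] [Module R M] [Module k M] [IsScalarTower k R M]
  {τ : Type u} [SetLike τ M] [AddSubgroupClass τ M]
  (ℳ : ℤ → τ) [DirectSum.Decomposition ℳ] [SetLike.GradedSMul 𝒜 ℳ]
  {n : ℕ} (D : ℕ) (hD : 0 < D) (f : Fin n → R) (hf : ∀ i, f i ∈ 𝒜 (D : ℤ))
  [Module (MvPolynomial (Fin n) k) M] [IsScalarTower k (MvPolynomial (Fin n) k) M]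
  (hsm : ∀ (p : MvPolynomial (Fin n) k) (x : M), p • x = (aeval f p : R) • x)

include hpos ℳ in
/-- The degrees of a finite graded module are bounded below. -/
theorem exists_lower_bound [Module.Finite R M] :
    ∃ lo : ℤ, ∀ (i : ℤ), i < lo → ∀ x : M, cpt ℳ i x = 0 := by
  classical
  obtain ⟨G, hG⟩ := Module.Finite.fg_top (R := R) (M := M)
  let S : Finset ℤ := insert 0 (G.biUnion fun z => degs ℳ z)
  refine ⟨S.min' ⟨0, Finset.mem_insert_self _ _⟩, fun i hi x => ?_⟩
  have key : ∀ z ∈ G, ∀ a : R, cpt ℳ i (a • z) = 0 := by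
    intro z hz a
    induction a using homogeneous_induction 𝒜 with
    | zero => simp
    | add a b ha hb => rw [add_smul, map_add, ha, hb, add_zero]
    | hom g a ha =>
      rw [cpt_smul_left' (𝒜 := 𝒜) ℳ ha z i]
      rcases lt_or_ge g 0 with hg | hg
      · rw [eq_zero_of_neg 𝒜 hpos hg ha, zero_smul]
      · by_contra h
        have hz' : cpt ℳ (i - g) z ≠ 0 := fun h' => h (by rw [h', smul_zero])
        have := Finset.min'_le S (i - g) (Finset.mem_insert_of_mem
          (Finset.mem_biUnion.2 ⟨z, hz, (mem_degs ℳ).2 hz'⟩))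
        omega
  obtain ⟨c, -, hc⟩ := Submodule.mem_span_finset.1
    (show x ∈ Submodule.span R (G : Set M) by rw [hG]; trivial)
  rw [← hc, map_sum]
  exact Finset.sum_eq_zero fun z hz => key z hz (c z)

include hpos ℳ hD hf hsm in
/-- Graded Nakayama over the parameters. -/
theorem eq_top_of_sup [Module.Finite R M] (P : Submodule (MvPolynomial (Fin n) k) M)
    (hP : ∀ x : M, ∃ p, (∀ i, cpt ℳ i p ∈ P) ∧
      x - p ∈ Ideal.span (Set.range (MvPolynomial.X : Fin n → MvPolynomial (Fin n) k)) •
        (⊤ : Submodule (MvPolynomial (Fin n) k) M)) : P = ⊤ := by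
  obtain ⟨lo, hlo⟩ := exists_lower_bound 𝒜 hpos ℳ
  have main : ∀ (j : ℕ) (i : ℤ), i < lo + j → ∀ x : M, cpt ℳ i x ∈ P := by
    intro j
    induction j with
    | zero => intro i hi x; rw [hlo i (by simpa using hi)]; exact zero_mem _
    | succ j ih =>
      intro i hi x
      obtain ⟨p, hp, hxp⟩ := hP x
      rw [← sub_add_cancel x p, map_add]
      refine add_mem ?_ (hp i)
      refine Submodule.smul_induction_on hxp (fun p hp z _ => ?_) fun a b ha hb => by
        rw [map_add]; exact add_mem ha hb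
      obtain ⟨q, hq⟩ := Ideal.mem_span_range_iff_exists_fun.1 hp
      rw [← hq, Finset.sum_smul, map_sum]
      refine sum_mem fun l _ => ?_
      rw [mul_comm, mul_smul, hsm, aeval_X, cpt_smul_left' (𝒜 := 𝒜) ℳ (hf l),
        ← aeval_X (R := k) f l, ← hsm]
      exact Submodule.smul_mem _ _ (ih _ (by push_cast at hi; omega) _)
  rw [eq_top_iff]
  intro x _
  classical
  rw [← sum_cpt ℳ x]
  exact sum_mem fun i _ => main ((i - lo).toNat + 1) i (by omega) x

theorem mkQ_smul_eq {X : Type u} [CommRing X] [Algebra k X] {N : Type u} [AddCommGroup N]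
    [Module X N] [Module k N] [IsScalarTower k X N] (I : Ideal X) (W : Submodule k N)
    (hW : ∀ z, z ∈ W ↔ z ∈ I • (⊤ : Submodule X N)) (p : X) (c : k)
    (hpc : p - algebraMap k X c ∈ I) (x : N) : W.mkQ (p • x) = c • W.mkQ x := by
  rw [← map_smul, Submodule.mkQ_apply, Submodule.mkQ_apply, Submodule.Quotient.eq, hW,
    ← algebraMap_smul X c x, ← sub_smul]
  exact Submodule.smul_mem_smul hpc Submodule.mem_top

theorem finite_quotient {X : Type u} [CommRing X] [Algebra k X] {N : Type u} [AddCommGroup N]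
    [Module X N] [Module k N] [IsScalarTower k X N] [Module.Finite X N] (W : Submodule k N)
    (ev : X → k) (hC : ∀ (p : X) (x : N), W.mkQ (p • x) = ev p • W.mkQ x) :
    Module.Finite k (N ⧸ W) := by
  obtain ⟨G, hG⟩ := Module.Finite.fg_top (R := X) (M := N)
  refine ⟨Submodule.fg_def.2 ⟨W.mkQ '' (G : Set N), G.finite_toSet.image _, eq_top_iff.2 ?_⟩⟩
  intro y _
  obtain ⟨x, rfl⟩ := W.mkQ_surjective y
  have hx : x ∈ Submodule.span X (G : Set N) := by rw [hG]; trivial
  induction hx using Submodule.span_induction with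
  | mem g hg => exact Submodule.subset_span ⟨g, hg, rfl⟩
  | zero => simp
  | add a b _ _ ha hb => rw [map_add]; exact add_mem (ha trivial) (hb trivial)
  | smul p a _ ha => rw [hC]; exact Submodule.smul_mem _ _ (ha trivial)

set_option maxHeartbeats 400000 in
include hpos ℳ hD hf hsm in
/-- A minimal homogeneous presentation. -/
theorem exists_minimal [Module.Finite R M] [Module.Finite (MvPolynomial (Fin n) k) M] :
    ∃ (B : Type u) (_ : Fintype B) (π : (B →₀ MvPolynomial (Fin n) k) →ₗ[MvPolynomial (Fin n) k] M),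
      Function.Surjective π ∧ ∀ v, π v = 0 → ∀ b,
        v b ∈ Ideal.span (Set.range (MvPolynomial.X : Fin n → MvPolynomial (Fin n) k)) := by
  classical
  obtain ⟨m₀, hm₀⟩ : ∃ I : Ideal (MvPolynomial (Fin n) k),
    I = Ideal.span (Set.range MvPolynomial.X) := ⟨_, rfl⟩
  obtain ⟨W, hW⟩ : ∃ W : Submodule k M,
      ∀ z, z ∈ W ↔ z ∈ m₀ • (⊤ : Submodule (MvPolynomial (Fin n) k) M) :=
    ⟨(m₀ • (⊤ : Submodule (MvPolynomial (Fin n) k) M)).restrictScalars k,
      fun z => Submodule.restrictScalars_mem k _ z⟩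
  have hC : ∀ (p : MvPolynomial (Fin n) k) (x : M), W.mkQ (p • x) = constantCoeff p • W.mkQ x :=
    fun p x => mkQ_smul_eq m₀ W hW p (constantCoeff p) (by
      rw [hm₀, span_X_eq_ker, RingHom.mem_ker, map_sub, MvPolynomial.algebraMap_eq, constantCoeff_C,
        sub_self]) x
  obtain ⟨B', hB'sub, hB'span, hB'li⟩ := exists_linearIndependent k
    (W.mkQ '' {b : M | ∃ i, b ∈ ℳ i})
  choose s hs hs' using fun b : B' => hB'sub b.2
  have hspan : ∀ x : M, W.mkQ x ∈ Submodule.span k B' := fun x => by
    rw [hB'span, ← sum_cpt ℳ x, map_sum]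
    exact sum_mem fun i _ => Submodule.subset_span ⟨_, ⟨i, cpt_mem ℳ i x⟩, rfl⟩
  haveI : Module.Finite k (M ⧸ W) := finite_quotient W _ hC
  haveI : Fintype B' := hB'li.setFinite.fintype
  have hπ : Submodule.span (MvPolynomial (Fin n) k) (Set.range s) = ⊤ := by
    refine eq_top_of_sup 𝒜 hpos ℳ D hD f hf hsm _ fun x => ?_
    obtain ⟨c, hc⟩ := (Submodule.mem_span_range_iff_exists_fun k).1
      (show W.mkQ x ∈ Submodule.span k (Set.range fun b : B' => (b : M ⧸ W)) by
        rw [Subtype.range_coe]; exact hspan x)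
    refine ⟨∑ b, c b • s b, fun i => ?_, ?_⟩
    · rw [map_sum]
      refine sum_mem fun b _ => ?_
      obtain ⟨g, hg⟩ := hs b
      rw [cpt_of_mem_ite ℳ _ (ksmul_mem (𝒜 := 𝒜) ℳ (c b) hg)]
      split_ifs
      · rw [← algebraMap_smul (MvPolynomial (Fin n) k) (c b)]
        exact Submodule.smul_mem _ _ (Submodule.subset_span ⟨b, rfl⟩)
      · exact zero_mem _
    · rw [← hm₀, ← hW, ← Submodule.Quotient.mk_eq_zero, ← Submodule.mkQ_apply, map_sub, map_sum,
        ← hc, sub_eq_zero]
      exact Finset.sum_congr rfl fun b _ => by rw [map_smul, hs']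
  refine ⟨B', inferInstance, Finsupp.linearCombination _ s, ?_, fun v hv b => ?_⟩
  · rw [← LinearMap.range_eq_top, Finsupp.range_linearCombination, hπ]
  · have h1 : ∑ c, constantCoeff (v c) • (c : M ⧸ W) = 0 := by
      rw [Finsupp.linearCombination_apply, Finsupp.sum_fintype _ _ (fun c => zero_smul (MvPolynomial (Fin n) k) (s c))] at hv
      rw [← map_zero W.mkQ, ← hv, map_sum]
      exact Finset.sum_congr rfl fun c _ => by rw [hC, hs']
    rw [span_X_eq_ker, RingHom.mem_ker]
    exact Fintype.linearIndependent_iff.1 hB'li _ h1 b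

include hpos ℳ hD hf hsm in
theorem annihilator_le_span_X [Nontrivial M] :
    Module.annihilator (MvPolynomial (Fin n) k) M ≤ Ideal.span (Set.range MvPolynomial.X) := by
  intro p hp
  rw [span_X_eq_ker, RingHom.mem_ker]
  by_contra hc
  obtain ⟨x, hx⟩ := exists_ne (0 : M)
  obtain ⟨i, hi⟩ := exists_cpt_ne_zero ℳ hx
  have hp0 : ∀ q : MvPolynomial (Fin n) k, cpt 𝒜 0 (aeval f q : R) = algebraMap k R (constantCoeff q) := by
    intro q
    induction q using MvPolynomial.induction_on with
    | C c => rw [aeval_C, cpt_of_mem 𝒜 (SetLike.algebraMap_mem_graded 𝒜 c), constantCoeff_C]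
    | add q q' hq hq' => simp only [map_add, hq, hq']
    | mul_X q l _ =>
      rw [map_mul, aeval_X, mul_comm, ← smul_eq_mul, cpt_smul_left' (𝒜 := 𝒜) 𝒜 (hf l),
        eq_zero_of_neg 𝒜 hpos (by omega) (cpt_mem 𝒜 (0 - (D : ℤ)) _), smul_zero,
        map_mul, constantCoeff_X, mul_zero, map_zero]
  have h1 := Module.mem_annihilator.1 hp (cpt ℳ i x)
  rw [hsm] at h1
  have h2 := congrArg (cpt ℳ i) h1
  rw [cpt_smul_right' (𝒜 := 𝒜) ℳ (cpt_mem ℳ i x), sub_self, hp0, algebraMap_smul, map_zero] at h2
  exact hi ((smul_eq_zero_iff_right hc).1 h2)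

include hpos ℳ hD hf hsm in
/-- A finite graded module over parameters which is of full depth is free. -/
theorem free_of_depth [Module.Finite R M] [Module.Finite (MvPolynomial (Fin n) k) M]
    (hdep : (n : ℕ∞) ≤ LocCoh.idealDepth
      (Ideal.span (Set.range (MvPolynomial.X : Fin n → MvPolynomial (Fin n) k))) M) :
    Module.Free (MvPolynomial (Fin n) k) M := by
  rcases subsingleton_or_nontrivial M with hsub | hnt
  · exact Module.Free.of_subsingleton _ _
  obtain ⟨B, _, π, hπ, hker⟩ := exists_minimal 𝒜 hpos ℳ D hD f hf hsm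
  let m₀ : Ideal (MvPolynomial (Fin n) k) := Ideal.span (Set.range MvPolynomial.X)
  haveI : IsRegularLocalRing (Localization.AtPrime m₀) :=
    IsRegularRing.isRegularLocalRing_localization m₀
  haveI : Nontrivial (LocalizedModule m₀.primeCompl M) :=
    (Module.mem_support_iff_of_finite (p := (⟨m₀, inferInstance⟩ :
      PrimeSpectrum (MvPolynomial (Fin n) k)))).2 (annihilator_le_span_X 𝒜 hpos ℳ D hD f hf hsm)
  haveI : Module.Free (Localization.AtPrime m₀) (LocalizedModule m₀.primeCompl M) := by
    refine RegLoc.MCM.free_of_depth_eq_dim _ (le_antisymm ((Depth.depth_le_supportDim (R := Localization.AtPrime m₀)).trans (Module.supportDim_le_ringKrullDim _ _)) ?_)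
    have hd := hdep.trans (Depth.idealDepth_le_depth_localizedModule m₀ le_rfl)
    have hdim : ringKrullDim (Localization.AtPrime m₀) ≤ (n : WithBot ℕ∞) := by
      rw [IsLocalization.AtPrime.ringKrullDim_eq_height m₀ (Localization.AtPrime m₀)]
      refine (Ideal.height_le_ringKrullDim_of_ne_top (Ideal.IsPrime.ne_top inferInstance)).trans ?_
      rw [MvPolynomial.ringKrullDim_of_isNoetherianRing, ringKrullDim_eq_zero_of_field]
      simp
    exact hdim.trans (by exact_mod_cast hd)
  exact Module.Free.of_equiv (LinearEquiv.ofBijective π ⟨injective_of_minimal m₀ π hπ hker, hπ⟩)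

end Free

end Groth.Agent.GrSegre
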