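import Groth.Agent.GrSegre.CM
import Mathlib.RingTheory.Regular.RegularSequence
import Mathlib.RingTheory.Ideal.GoingUp

/-!
# Vanishing of local cohomology at `R₊` below the dimension forces Cohen–Macaulayness
-/

set_option autoImplicit false
set_option linter.unusedSectionVars false
set_option linter.style.haveILetI false
universe u

open DirectSum RingTheory.Sequence
open Groth.Agent.GrLC

namespace Groth.Agent.GrSegre

theorem le_idealDepth_iff_H {R : Type u} [CommRing R] [IsNoetherianRing R] (I : Ideal R) {M : Type u}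
    [AddCommGroup M] [Module R M] [Module.Finite R M] (n : ℕ) :
    (n : ℕ∞) ≤ LocCoh.idealDepth I M ↔ ∀ i < n, Subsingleton (LocCoh.H I i M) := by
  rw [Depth.le_idealDepth_iff_ext]
  refine ⟨fun h => LocCoh.subsingleton_H_of_forall_subsingleton_ext (R ⧸ I)
    (by rw [Module.support_eq_zeroLocus, Ideal.annihilator_quotient]) n _ h, fun h =>
    LocCoh.subsingleton_ext_of_forall_subsingleton_H n _ h _ 1 ?_⟩
  rw [pow_one]
  exact (Ideal.annihilator_quotient (I := I)).ge

theorem eq_top_of_smul_top {R : Type u} [CommRing R] {I : Ideal R} {M : Type u} [AddCommGroup M]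
    [Module R M] [Module.Finite R M] (h : I • (⊤ : Submodule R M) = ⊤) :
    I ⊔ Module.annihilator R M = ⊤ := by
  obtain ⟨r, hr, hr'⟩ := Submodule.exists_sub_one_mem_and_smul_eq_zero_of_fg_of_le_smul I
    (⊤ : Submodule R M) Module.Finite.fg_top h.ge
  rw [Ideal.eq_top_iff_one]
  exact Submodule.mem_sup.2 ⟨1 - r, by rw [← neg_sub]; exact neg_mem hr, r,
    Module.mem_annihilator.2 fun m => hr' m trivial, sub_add_cancel _ _⟩

theorem height_le_idealDepth {X : Type u} [CommRing X] [IsRegularRing X]
    (Q : Ideal X) : Q.height ≤ LocCoh.idealDepth Q X := by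
  rw [Depth.idealDepth_eq_iInf_depth]
  refine le_iInf₂ fun p hp => (Ideal.height_mono hp).trans ?_
  haveI : IsRegularLocalRing (Localization.AtPrime p.asIdeal) :=
    IsRegularRing.isRegularLocalRing_localization p.asIdeal
  haveI := Depth.isCohenMacaulayLocalRing_of_isRegularLocalRing (R := Localization.AtPrime p.asIdeal)
  have h := Depth.isCohenMacaulayModule_self (Localization.AtPrime p.asIdeal)
  unfold LocCoh.IsCohenMacaulayModule at h
  rw [Module.supportDim_self_eq_ringKrullDim,
    IsLocalization.AtPrime.ringKrullDim_eq_height p.asIdeal (Localization.AtPrime p.asIdeal)] at h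
  rw [WithBot.coe_injective h]

/-- A module finite and free over a regular ring through an algebra is Cohen–Macaulay. -/
theorem cm_of_free {X T P : Type u} [CommRing X] [IsRegularRing X] [CommRing T]
    [IsNoetherianRing T] [Algebra X T] [AddCommGroup P] [Module T P] [Module X P]
    [IsScalarTower X T P] [Module.Finite X P] [Module.Free X P] (q : Ideal T) [q.IsPrime] :
    Subsingleton (LocalizedModule q.primeCompl P) ∨
      LocCoh.IsCohenMacaulayModule (Localization.AtPrime q) (LocalizedModule q.primeCompl P) := by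
  classical
  haveI : Module.Finite T P := Module.Finite.of_restrictScalars_finite X T P
  rcases subsingleton_or_nontrivial (LocalizedModule q.primeCompl P) with h | hnt
  · exact Or.inl h
  refine Or.inr ?_
  let Q : Ideal X := q.comap (algebraMap X T)
  let A := Module.annihilator T P
  have hAq : A ≤ q := (Module.mem_support_iff_of_finite (p := (⟨q, inferInstance⟩ : PrimeSpectrum T))).1 hnt
  -- integrality
  have hint : ∀ t : T, ∃ p : Polynomial X, p.Monic ∧ Polynomial.aeval t p ∈ A := by
    intro t
    let e : P →ₗ[X] P := ((t • LinearMap.id : P →ₗ[T] P)).restrictScalars X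
    obtain ⟨p, hp, hp0⟩ := Algebra.IsIntegral.isIntegral (R := X) e
    refine ⟨p, hp, Module.mem_annihilator.2 fun x => ?_⟩
    have hkey : ∀ (p : Polynomial X) (x : P), Polynomial.aeval e p x = Polynomial.aeval t p • x := by
      intro p
      induction p using Polynomial.induction_on' with
      | add a b ha hb => intro x; simp [ha, hb, add_smul]
      | monomial n c =>
        intro x
        rw [Polynomial.aeval_monomial, Polynomial.aeval_monomial, mul_smul, Module.End.mul_apply,
          Module.algebraMap_end_apply, algebraMap_smul]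
        congr 1
        induction n generalizing x with
        | zero => simp
        | succ n ih => rw [pow_succ, pow_succ, Module.End.mul_apply, ih, mul_smul]; rfl
    rw [← hkey]
    exact (congrArg (fun f : P →ₗ[X] P => f x) hp0 :)
  -- dimension bound
  have hdim : Module.supportDim (Localization.AtPrime q) (LocalizedModule q.primeCompl P) ≤
      (Q.height : WithBot ℕ∞) := by
    rw [Dim.supportDim_atPrime]
    let c : {x : PrimeSpectrum T // x ∈ Module.support T P ∧ x.asIdeal ≤ q} →
        Set.Iic (⟨Q, inferInstance⟩ : PrimeSpectrum X) :=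
      fun x => ⟨PrimeSpectrum.comap (algebraMap X T) x.1, Ideal.comap_mono x.2.2⟩
    have hc : StrictMono c := by
      intro a b hab
      refine lt_of_le_of_ne (Ideal.comap_mono (le_of_lt hab)) fun e => ?_
      have hA : A ≤ a.1.asIdeal := Module.mem_support_iff_of_finite.1 a.2.1
      obtain ⟨x, hxb, hxa⟩ := SetLike.exists_of_lt (show a.1.asIdeal < b.1.asIdeal from hab)
      obtain ⟨p, hp, hpA⟩ := hint x
      have hlt : a.1.asIdeal.comap (algebraMap X T) < b.1.asIdeal.comap (algebraMap X T) :=
        Ideal.comap_lt_comap_of_root_mem_sdiff (le_of_lt hab) ⟨hxb, hxa⟩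
          (Polynomial.map_monic_ne_zero hp) (by rw [← Polynomial.aeval_def]; exact hA hpA)
      exact hlt.ne (congrArg (fun z => z.1.asIdeal) e)
    refine (Order.krullDim_le_of_strictMono c hc).trans ?_
    rw [← Order.height_eq_krullDim_Iic]
    exact le_of_eq (congrArg _ (PrimeSpectrum.height_eq_orderHeight _).symm)
  -- depth bound
  have hdep : Q.height ≤ LocCoh.idealDepth (Q.map (algebraMap X T)) P := by
    obtain ⟨e, he⟩ := ENat.ne_top_iff_exists.1
      (Ideal.height_ne_top (Ideal.IsPrime.ne_top inferInstance : Q ≠ ⊤))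
    rw [← he]
    by_cases hQ : Q • (⊤ : Submodule X X) = ⊤
    · rw [smul_eq_mul, Ideal.mul_top] at hQ
      exact absurd hQ (Ideal.IsPrime.ne_top inferInstance)
    obtain ⟨rs, hrs, hmem, hlen⟩ := Depth.exists_isWeaklyRegular_of_le_idealDepth hQ
      (he.le.trans (height_le_idealDepth Q))
    have hreg : IsWeaklyRegular P rs :=
      ((TensorProduct.lid X P).isWeaklyRegular_congr rs).1 (hrs.isWeaklyRegular_rTensor (M₂ := P))
    rw [← hlen, ← List.length_map (as := rs) (algebraMap X T)]
    exact Depth.le_idealDepth_of_isWeaklyRegular ((isWeaklyRegular_map_algebraMap_iff T P rs).2 hreg)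
      fun r hr => by
        obtain ⟨x, hx, rfl⟩ := List.mem_map.1 hr
        exact Ideal.mem_map_of_mem _ (hmem x hx)
  refine le_antisymm ?_ Depth.depth_le_supportDim
  exact hdim.trans (WithBot.coe_le_coe.2
    (hdep.trans (Depth.idealDepth_le_depth_localizedModule q Ideal.map_comap_le)))

section Graded

variable {k : Type u} [Field k] {R : Type u} [CommRing R] [Algebra k R]
  (𝒜 : ℤ → Submodule k R) [GradedAlgebra 𝒜]
  (hpos : ∀ n : ℤ, n < 0 → 𝒜 n = ⊥) (h0 : 𝒜 0 = Submodule.span k {(1 : R)})
  {M : Type u} [AddCommGroup M] [Module R M] [Module k M] [IsScalarTower k R M]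
  {τ : Type u} [SetLike τ M] [AddSubgroupClass τ M]
  (ℳ : ℤ → τ) [DirectSum.Decomposition ℳ] [SetLike.GradedSMul 𝒜 ℳ]

include hpos h0 ℳ in
/-- Vanishing below the dimension gives Cohen–Macaulayness. -/
theorem cm_of_subsingleton_H [Algebra.FiniteType k R] [Module.Finite R M] {r : ℕ}
    (hr : Module.supportDim R M = r)
    (hH : ∀ i < r, Subsingleton (LocCoh.H (irrI 𝒜) i M)) (q : Ideal R) [q.IsPrime] :
    Subsingleton (LocalizedModule q.primeCompl M) ∨
      LocCoh.IsCohenMacaulayModule (Localization.AtPrime q) (LocalizedModule q.primeCompl M) := by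
  classical
  haveI := Algebra.FiniteType.isNoetherianRing k R
  obtain ⟨d, hd, hsop⟩ := exists_sop 𝒜 hpos h0 ℳ hr
  obtain ⟨f, hf, hfin, hinj⟩ := hsop 1 one_pos
  rw [mul_one] at hf
  letI := Module.compHom M (MvPolynomial.aeval f : MvPolynomial (Fin r) k →ₐ[k] R).toRingHom
  letI : Algebra (MvPolynomial (Fin r) k) R :=
    (MvPolynomial.aeval f : MvPolynomial (Fin r) k →ₐ[k] R).toRingHom.toAlgebra
  haveI : IsScalarTower (MvPolynomial (Fin r) k) R M :=
    IsScalarTower.of_algebraMap_smul fun _ _ => rfl
  haveI : IsScalarTower k (MvPolynomial (Fin r) k) M := IsScalarTower.of_algebraMap_smul fun c x => by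
    change (MvPolynomial.aeval f (algebraMap k _ c) : R) • x = c • x
    rw [AlgHom.commutes, algebraMap_smul]
  haveI := hfin
  let XP : Ideal (MvPolynomial (Fin r) k) := Ideal.span (Set.range MvPolynomial.X)
  have hirr : ∀ P : Ideal R, P.IsPrime → Module.annihilator R M ≤ P →
      XP.map (algebraMap (MvPolynomial (Fin r) k) R) ≤ P → irrI 𝒜 ≤ P := by
    intro P hP hA hfP
    haveI : Nontrivial R := nontrivial_of_ne (0 : R) 1 fun h => hP.ne_top
      (Ideal.eq_top_of_isUnit_mem P (h ▸ P.zero_mem) isUnit_one)
    let J := Module.annihilator R M ⊔ XP.map (algebraMap (MvPolynomial (Fin r) k) R)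
    have hJhom : J.IsHomogeneous 𝒜 := by
      refine (annihilator_isHomogeneous 𝒜 ℳ).sup ?_
      rw [Ideal.map_span]
      refine Ideal.homogeneous_span _ _ ?_
      rintro _ ⟨_, ⟨i, rfl⟩, rfl⟩
      exact ⟨(d : ℤ), by
        change (MvPolynomial.aeval f (MvPolynomial.X i) : R) ∈ 𝒜 (d : ℤ)
        rw [MvPolynomial.aeval_X]; exact hf i⟩
    obtain ⟨p, hp, hpP⟩ := Ideal.exists_minimalPrimes_le (sup_le hA hfP : J ≤ P)
    haveI := hp.1.1
    have hle : p ≤ irrI 𝒜 := le_irrI 𝒜 hpos h0
      (isHomogeneous_of_mem_minimalPrimes 𝒜 hJhom hp) hp.1.1.ne_top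
    have hm := irrI_isMaximal 𝒜 hpos h0
    by_cases hM : p = irrI 𝒜
    · exact hM ▸ hpP
    exfalso
    have hpA : Module.annihilator R M ≤ p := le_sup_left.trans hp.1.2
    obtain ⟨x, hxm, hxp⟩ := SetLike.exists_of_lt (lt_of_le_of_ne hle hM)
    have hcomap : p.comap (algebraMap (MvPolynomial (Fin r) k) R) <
        (irrI 𝒜).comap (algebraMap (MvPolynomial (Fin r) k) R) := by
      let e : M →ₗ[MvPolynomial (Fin r) k] M := ((x • LinearMap.id : M →ₗ[R] M)).restrictScalars _
      obtain ⟨g, hg, hg0⟩ := Algebra.IsIntegral.isIntegral (R := MvPolynomial (Fin r) k) e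
      refine Ideal.comap_lt_comap_of_root_mem_sdiff hle ⟨hxm, hxp⟩ (Polynomial.map_monic_ne_zero hg) ?_
      rw [← Polynomial.aeval_def]
      refine hpA (Module.mem_annihilator.2 fun y => ?_)
      have hkey : ∀ (g : Polynomial (MvPolynomial (Fin r) k)) (y : M),
          Polynomial.aeval e g y = Polynomial.aeval x g • y := by
        intro g
        induction g using Polynomial.induction_on' with
        | add a b ha hb => intro y; simp [ha, hb, add_smul]
        | monomial n c =>
          intro y
          rw [Polynomial.aeval_monomial, Polynomial.aeval_monomial, mul_smul, Module.End.mul_apply,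
            Module.algebraMap_end_apply, algebraMap_smul]
          congr 1
          induction n generalizing y with
          | zero => simp
          | succ n ih => rw [pow_succ, pow_succ, Module.End.mul_apply, ih, mul_smul]; rfl
      rw [← hkey]
      exact (congrArg (fun φ : M →ₗ[MvPolynomial (Fin r) k] M => φ y) hg0 :)
    have h1 : XP ≤ p.comap (algebraMap (MvPolynomial (Fin r) k) R) :=
      Ideal.map_le_iff_le_comap.1 (le_sup_right.trans hp.1.2)
    have h2 := (span_X_isMaximal (k := k) (n := r)).eq_of_le
      (by haveI := hm.isPrime; exact Ideal.IsPrime.ne_top (Ideal.comap_isPrime (algebraMap (MvPolynomial (Fin r) k) R) (irrI 𝒜)))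
      (h1.trans hcomap.le)
    exact hcomap.not_ge (h2 ▸ h1)
  -- depth over the parameters
  have hdep : (r : ℕ∞) ≤ LocCoh.idealDepth (XP.map (algebraMap (MvPolynomial (Fin r) k) R)) M := by
    have hI := (le_idealDepth_iff_H (irrI 𝒜) r).2 hH
    rw [Depth.idealDepth_eq_iInf_depth]
    refine le_iInf₂ fun p hp => ?_
    by_cases hA : Module.annihilator R M ≤ p.asIdeal
    · exact hI.trans (Depth.idealDepth_le_depth_localizedModule p.asIdeal (hirr _ p.2 hA hp))
    · haveI : Subsingleton (LocalizedModule p.asIdeal.primeCompl M) := by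
        rw [← not_nontrivial_iff_subsingleton]
        exact fun h => hA (Module.mem_support_iff_of_finite.1 h)
      rw [LocCoh.depth, Depth.idealDepth_eq_top_of_subsingleton]
      exact le_top
  have hX : (r : ℕ∞) ≤ LocCoh.idealDepth XP M := by
    rw [le_idealDepth_iff_H]
    intro i hi
    exact (LocCoh.subsingleton_H_restrict_iff (B := R) XP i (ModuleCat.of R M)).1
      ((le_idealDepth_iff_H _ r).1 hdep i hi)
  haveI : Module.Free (MvPolynomial (Fin r) k) M :=
    free_of_depth 𝒜 hpos ℳ d hd f hf (fun _ _ => rfl) hX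
  exact cm_of_free (X := MvPolynomial (Fin r) k) q

end Graded

end Groth.Agent.GrSegre
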