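import Groth.Agent.GrSegre.Proj
import Mathlib.RingTheory.FiniteType
import Mathlib.RingTheory.TensorProduct.Finite
import Mathlib.RingTheory.FiniteStability
import Mathlib.RingTheory.Finiteness.Prod
import Mathlib.LinearAlgebra.TensorProduct.Finiteness

/-!
# Segre products of finitely generated modules are finitely generated
-/

set_option autoImplicit false
set_option linter.unusedSectionVars false
set_option linter.style.haveILetI false
universe u

open DirectSum TensorProduct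
open Groth.Agent.GrLC

namespace Groth.Agent.GrSegre

variable {k : Type u} [Field k]
variable {R S : Type u} [CommRing R] [CommRing S] [Algebra k R] [Algebra k S]
  (𝒜 : ℤ → Submodule k R) [GradedAlgebra 𝒜] (ℬ : ℤ → Submodule k S) [GradedAlgebra ℬ]
variable {M N : Type u} [AddCommGroup M] [Module R M] [Module k M] [IsScalarTower k R M]
  [AddCommGroup N] [Module S N] [Module k N] [IsScalarTower k S N]
  {τ τ' : Type u} [SetLike τ M] [AddSubgroupClass τ M] [SetLike τ' N] [AddSubgroupClass τ' N]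
  (ℳ : ℤ → τ) [DirectSum.Decomposition ℳ] [SetLike.GradedSMul 𝒜 ℳ]
  (𝒩 : ℤ → τ') [DirectSum.Decomposition 𝒩] [SetLike.GradedSMul ℬ 𝒩]
variable {T P : Type u} [CommRing T] [Algebra k T] {ψ : T →ₐ[k] R ⊗[k] S}
  [AddCommGroup P] [Module T P] [Module k P] [IsScalarTower k T P]
  {τQ : Type u} [SetLike τQ P] [AddSubgroupClass τQ P] {𝒬 : ℤ → τQ} [DirectSum.Decomposition 𝒬]
  {φ : P →ₗ[k] M ⊗[k] N}

include 𝒜 ℬ in
/-- `M # N` is Noetherian over any scalars absorbing the diagonal parts of `A₁ ⊗ A₂`. -/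
theorem isNoetherian_segreMod (hP : _root_.GrSeg.IsSegreMod ψ ℳ 𝒩 𝒬 φ)
    {X : Type u} [CommRing X] [Module X P]
    {A₁ A₂ : Type u} [CommRing A₁] [Algebra k A₁] [CommRing A₂] [Algebra k A₂]
    [IsNoetherianRing (A₁ ⊗[k] A₂)] (u : A₁ →ₐ[k] R) (v : A₂ →ₐ[k] S)
    [Module A₁ M] [Module A₂ N] [Module.Finite A₁ M] [Module.Finite A₂ N]
    (hu : ∀ (a : A₁) (x : M), a • x = u a • x) (hv : ∀ (b : A₂) (y : N), b • y = v b • y)
    (H : ∀ (a : A₁) (b : A₂) (q : P), ∃ p ∈ Submodule.span X {q},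
      diag 𝒜 ℬ ℳ 𝒩 (_root_.GrSeg.act k R S M N (u a ⊗ₜ[k] v b) (φ q)) = φ p) :
    IsNoetherian X P := by
  classical
  let rep : A₁ ⊗[k] A₂ →ₐ[k] Module.End k (M ⊗[k] N) :=
    (actHom k R S M N).comp (Algebra.TensorProduct.map u v)
  letI : Module (A₁ ⊗[k] A₂) (M ⊗[k] N) := Module.compHom (M ⊗[k] N) rep.toRingHom
  have hsm : ∀ (a : A₁) (b : A₂) (w : M ⊗[k] N),
      (a ⊗ₜ[k] b : A₁ ⊗[k] A₂) • w = _root_.GrSeg.act k R S M N ((u a : R) ⊗ₜ[k] (v b : S)) w := fun a b w => rfl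
  haveI : Module.Finite (A₁ ⊗[k] A₂) (M ⊗[k] N) := by
    obtain ⟨G, hG⟩ := Module.Finite.fg_top (R := A₁) (M := M)
    obtain ⟨G', hG'⟩ := Module.Finite.fg_top (R := A₂) (M := N)
    let s : Set (M ⊗[k] N) := Set.image2 (fun x y => x ⊗ₜ[k] y) ↑G ↑G'
    refine ⟨(Submodule.fg_def (R := A₁ ⊗[k] A₂)).2 ⟨s, (G.finite_toSet.image2 _ G'.finite_toSet), ?_⟩⟩
    refine eq_top_iff.2 fun w _ => ?_
    have h1 : ∀ y ∈ G', ∀ x : M, x ⊗ₜ[k] y ∈ Submodule.span (A₁ ⊗[k] A₂) s := by
      intro y hy x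
      have hx : x ∈ Submodule.span A₁ (G : Set M) := by rw [hG]; trivial
      induction hx using Submodule.span_induction with
      | mem x hx => exact Submodule.subset_span (Set.mem_image2_of_mem hx hy)
      | zero => simp
      | add a b _ _ ha hb => rw [add_tmul]; exact add_mem ha hb
      | smul a x _ hx =>
        have : (a ⊗ₜ[k] (1 : A₂) : A₁ ⊗[k] A₂) • (x ⊗ₜ[k] y) = (a • x) ⊗ₜ[k] y := by
          rw [hsm, _root_.GrSeg.act_tmul, map_one, one_smul, hu]
        rw [← this]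
        exact Submodule.smul_mem _ _ hx
    have h2 : ∀ (x : M) (y : N), x ⊗ₜ[k] y ∈ Submodule.span (A₁ ⊗[k] A₂) s := by
      intro x y
      have hy : y ∈ Submodule.span A₂ (G' : Set N) := by rw [hG']; trivial
      induction hy using Submodule.span_induction with
      | mem y hy => exact h1 y hy x
      | zero => simp
      | add a b _ _ ha hb => rw [tmul_add]; exact add_mem ha hb
      | smul b y _ hy =>
        have : ((1 : A₁) ⊗ₜ[k] b : A₁ ⊗[k] A₂) • (x ⊗ₜ[k] y) = x ⊗ₜ[k] (b • y) := by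
          rw [hsm, _root_.GrSeg.act_tmul, map_one, one_smul, hv]
        rw [← this]
        exact Submodule.smul_mem _ _ hy
    induction w using TensorProduct.induction_on with
    | zero => simp
    | add a b ha hb => exact add_mem (ha trivial) (hb trivial)
    | tmul x y => exact h2 x y
  refine isNoetherian_of_retract (B := A₁ ⊗[k] A₂) (X := X) φ.toAddMonoidHom
    (diag 𝒜 ℬ ℳ 𝒩).toAddMonoidHom hP.injective (fun p => diag_map 𝒜 ℬ ℳ 𝒩 hP p) fun b q => ?_
  induction b using TensorProduct.induction_on with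
  | zero => exact ⟨0, zero_mem _, by simp⟩
  | tmul a b => exact H a b q
  | add b c hb hc =>
    obtain ⟨p, hp, hp'⟩ := hb
    obtain ⟨p', hq, hq'⟩ := hc
    exact ⟨p + p', add_mem hp hq, by rw [add_smul, map_add, map_add, hp', hq']⟩

include 𝒜 ℬ in
theorem isNoetherian_segre [Algebra.FiniteType k R] [Algebra.FiniteType k S] [Module.Finite R M]
    [Module.Finite S N] {𝒯 : ℤ → Submodule k T} [GradedAlgebra 𝒯]
    (hT : _root_.GrSeg.IsSegreRing 𝒜 ℬ 𝒯 ψ) (hP : _root_.GrSeg.IsSegreMod ψ ℳ 𝒩 𝒬 φ) :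
    IsNoetherian T P := by
  haveI : IsNoetherianRing (R ⊗[k] S) := by
    haveI : IsNoetherianRing R := Algebra.FiniteType.isNoetherianRing k R
    exact Algebra.FiniteType.isNoetherianRing R (R ⊗[k] S)
  refine isNoetherian_segreMod 𝒜 ℬ ℳ 𝒩 hP (X := T) (AlgHom.id k R) (AlgHom.id k S)
    (fun _ _ => rfl) (fun _ _ => rfl) fun a b q => ?_
  simp only [AlgHom.id_apply]
  induction a using homogeneous_induction 𝒜 with
  | zero => exact ⟨0, zero_mem _, by simp⟩
  | add a a' ha ha' =>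
    obtain ⟨p, hp, hp'⟩ := ha
    obtain ⟨p', hq, hq'⟩ := ha'
    exact ⟨p + p', add_mem hp hq, by
      rw [add_tmul, map_add, LinearMap.add_apply, map_add, map_add, hp', hq']⟩
  | hom i a ha =>
    induction b using homogeneous_induction ℬ with
    | zero => exact ⟨0, zero_mem _, by simp⟩
    | add b b' hb hb' =>
      obtain ⟨p, hp, hp'⟩ := hb
      obtain ⟨p', hq, hq'⟩ := hb'
      exact ⟨p + p', add_mem hp hq, by
        rw [tmul_add, map_add, LinearMap.add_apply, map_add, map_add, hp', hq']⟩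
    | hom j b hb =>
      rw [diag_act_map 𝒜 ℬ ℳ 𝒩 hP ha hb]
      by_cases h : i = j
      · subst h
        obtain ⟨t, -, ht⟩ := mem_segrePiece_ring 𝒜 ℬ hT ha hb
        exact ⟨t • q, Submodule.smul_mem _ _ (Submodule.mem_span_singleton_self q), by
          rw [if_pos rfl, hP.map_smul, ht]⟩
      · exact ⟨0, zero_mem _, by rw [if_neg h, map_zero]⟩

end Groth.Agent.GrSegre
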