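import Groth.Agent.GrSegre.Poly
import Groth.Agent.GrSegre.Finite
import Groth.Agent.GrSegre.Sop

/-!
# The dimension of a Segre product
-/

set_option autoImplicit false
set_option linter.unusedSectionVars false
set_option linter.style.haveILetI false
universe u

open DirectSum TensorProduct MvPolynomial
open Groth.Agent.GrLC

namespace Groth.Agent.GrSegre

variable {k : Type u} [Field k]

theorem exists_sigma_eq (r s : ℕ) : ∀ (n : ℕ) (α : Fin r →₀ ℕ) (β : Fin s →₀ ℕ), α.degree = n →
    β.degree = n → ∃ p : MvPolynomial (Fin r × Fin s) k, sigma k r s p =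
      rename Sum.inl (monomial α (1 : k)) * rename Sum.inr (monomial β (1 : k)) := by
  intro n
  induction n with
  | zero =>
    intro α β hα hβ
    exact ⟨1, by rw [(Finsupp.degree_eq_zero_iff α).1 hα, (Finsupp.degree_eq_zero_iff β).1 hβ]; simp⟩
  | succ n ih =>
    intro α β hα hβ
    obtain ⟨i, hi⟩ : ∃ i, α i ≠ 0 := by
      by_contra h
      push Not at h
      rw [Finsupp.ext (g := 0) h, map_zero] at hα
      omega
    obtain ⟨j, hj⟩ : ∃ j, β j ≠ 0 := by
      by_contra h
      push Not at h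
      rw [Finsupp.ext (g := 0) h, map_zero] at hβ
      omega
    have ea : α = (α - Finsupp.single i 1) + Finsupp.single i 1 := by
      ext l; by_cases h : i = l
      · subst h; simp; omega
      · simp [h]
    have eb : β = (β - Finsupp.single j 1) + Finsupp.single j 1 := by
      ext l; by_cases h : j = l
      · subst h; simp; omega
      · simp [h]
    rw [ea, map_add, Finsupp.degree_single] at hα
    rw [eb, map_add, Finsupp.degree_single] at hβ
    obtain ⟨p, hp⟩ := ih (α - Finsupp.single i 1) (β - Finsupp.single j 1) (by omega) (by omega)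
    refine ⟨p * X (i, j), ?_⟩
    have e1 : monomial α (1 : k) = monomial (α - Finsupp.single i 1) 1 * X i := by
      conv_lhs => rw [ea]
      rw [MvPolynomial.X, monomial_mul, mul_one]
    have e2 : monomial β (1 : k) = monomial (β - Finsupp.single j 1) 1 * X j := by
      conv_lhs => rw [eb]
      rw [MvPolynomial.X, monomial_mul, mul_one]
    rw [map_mul, hp, sigma_X, e1, e2, map_mul, map_mul, rename_X, rename_X]
    ring

theorem split_mul (r s : ℕ) (a : MvPolynomial (Fin r) k) (b : MvPolynomial (Fin s) k) :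
    split k r s (rename Sum.inl a * rename Sum.inr b) = a ⊗ₜ[k] b := by
  have h1 : (split k r s).comp (rename Sum.inl) = Algebra.TensorProduct.includeLeft :=
    MvPolynomial.algHom_ext fun i => by simp [split]
  have h2 : (split k r s).comp (rename Sum.inr) = Algebra.TensorProduct.includeRight :=
    MvPolynomial.algHom_ext fun i => by simp [split]
  have e1 := DFunLike.congr_fun h1 a
  have e2 := DFunLike.congr_fun h2 b
  rw [AlgHom.comp_apply] at e1 e2
  rw [map_mul, e1, e2]
  simp [Algebra.TensorProduct.includeLeft_apply, Algebra.TensorProduct.includeRight_apply]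

theorem aeval_monomial_mem {R : Type u} [CommRing R] [Algebra k R] {𝒜 : ℤ → Submodule k R}
    [GradedAlgebra 𝒜] {r : ℕ} {D : ℤ} (f : Fin r → R) (hf : ∀ i, f i ∈ 𝒜 D) (α : Fin r →₀ ℕ)
    (c : k) : (aeval f (monomial α c) : R) ∈ 𝒜 (D * α.degree) := by
  rw [aeval_monomial, ← Algebra.smul_def]
  refine Submodule.smul_mem _ _ ?_
  have := SetLike.prod_pow_mem_graded (A := 𝒜) (i := fun _ : Fin r => D) (g := f) (F := α.support)
    (n := fun i => α i) fun i _ => hf i
  rw [Finsupp.prod]
  convert this using 2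
  rw [Finsupp.degree_apply]
  push_cast
  rw [Finset.mul_sum]
  exact Finset.sum_congr rfl fun i _ => by rw [nsmul_eq_mul]; ring

variable {R S : Type u} [CommRing R] [CommRing S] [Algebra k R] [Algebra k S]
  (𝒜 : ℤ → Submodule k R) [GradedAlgebra 𝒜] (ℬ : ℤ → Submodule k S) [GradedAlgebra ℬ]
variable {M N : Type u} [AddCommGroup M] [Module R M] [Module k M] [IsScalarTower k R M]
  [AddCommGroup N] [Module S N] [Module k N] [IsScalarTower k S N]
  {τ τ' : Type u} [SetLike τ M] [AddSubgroupClass τ M] [SetLike τ' N] [AddSubgroupClass τ' N]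
  (ℳ : ℤ → τ) [DirectSum.Decomposition ℳ] [SetLike.GradedSMul 𝒜 ℳ]
  (𝒩 : ℤ → τ') [DirectSum.Decomposition 𝒩] [SetLike.GradedSMul ℬ 𝒩]
variable {T P : Type u} [CommRing T] [Algebra k T] {𝒯 : ℤ → Submodule k T} [GradedAlgebra 𝒯]
  {ψ : T →ₐ[k] R ⊗[k] S}
  [AddCommGroup P] [Module T P] [Module k P] [IsScalarTower k T P]
  {τQ : Type u} [SetLike τQ P] [AddSubgroupClass τQ P] {𝒬 : ℤ → τQ} [DirectSum.Decomposition 𝒬]
  {φ : P →ₗ[k] M ⊗[k] N}

set_option maxHeartbeats 1000000 in
/-- `dim M # N = r + s - 1` when `M`, `N` have parameters in a common degree and torsion free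
elements in a common degree. -/
theorem supportDim_segre (hT : _root_.GrSeg.IsSegreRing 𝒜 ℬ 𝒯 ψ)
    (hP : _root_.GrSeg.IsSegreMod ψ ℳ 𝒩 𝒬 φ) {r' s' : ℕ} (D : ℕ) (hD : 0 < D)
    (f : Fin (r' + 1) → R) (hf : ∀ i, f i ∈ 𝒜 (D : ℤ))
    (hfM : @Module.Finite (MvPolynomial (Fin (r' + 1)) k) M _ _
      (Module.compHom M (aeval f : MvPolynomial (Fin (r' + 1)) k →ₐ[k] R).toRingHom))
    (g : Fin (s' + 1) → S) (hg : ∀ j, g j ∈ ℬ (D : ℤ))
    (hgN : @Module.Finite (MvPolynomial (Fin (s' + 1)) k) N _ _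
      (Module.compHom N (aeval g : MvPolynomial (Fin (s' + 1)) k →ₐ[k] S).toRingHom))
    {c : ℤ} {m : M} (hm : m ∈ ℳ c)
    (hmf : ∀ p : MvPolynomial (Fin (r' + 1)) k, (aeval f p : R) • m = 0 → p = 0)
    {y : N} (hy : y ∈ 𝒩 c)
    (hyf : ∀ p : MvPolynomial (Fin (s' + 1)) k, (aeval g p : S) • y = 0 → p = 0) :
    Module.supportDim T P = ((r' + (s' + 1) : ℕ) : WithBot ℕ∞) := by
  classical
  let A₁ := MvPolynomial (Fin (r' + 1)) k
  let A₂ := MvPolynomial (Fin (s' + 1)) k
  let X₀ := MvPolynomial (Fin (r' + 1) × Fin (s' + 1)) k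
  let u : A₁ →ₐ[k] R := aeval f
  let v : A₂ →ₐ[k] S := aeval g
  letI : Module A₁ M := Module.compHom M u.toRingHom
  letI : Module A₂ N := Module.compHom N v.toRingHom
  haveI : Module.Finite A₁ M := hfM
  haveI : Module.Finite A₂ N := hgN
  choose t ht htψ using fun ij : Fin (r' + 1) × Fin (s' + 1) =>
    mem_segrePiece_ring 𝒜 ℬ hT (hf ij.1) (hg ij.2)
  let χ : X₀ →ₐ[k] T := aeval t
  letI : Module X₀ P := Module.compHom P χ.toRingHom
  letI : Algebra X₀ T := χ.toRingHom.toAlgebra
  haveI : IsScalarTower X₀ T P := IsScalarTower.of_algebraMap_smul fun _ _ => rfl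
  have hχ : ∀ p : X₀, ψ (χ p) =
      Algebra.TensorProduct.map u v (split k (r' + 1) (s' + 1) (sigma k (r' + 1) (s' + 1) p)) := by
    have h : ψ.comp χ = (Algebra.TensorProduct.map u v).comp
        ((split k (r' + 1) (s' + 1)).comp (sigma k (r' + 1) (s' + 1))) :=
      MvPolynomial.algHom_ext fun ij => by
        simp [χ, u, v, htψ, sigma, split]
        exact (congrArg₂ (· ⊗ₜ[k] ·) (aeval_X (R := k) f ij.1) (aeval_X (R := k) g ij.2)).symm
    exact fun p => DFunLike.congr_fun h p
  haveI : IsNoetherianRing (A₁ ⊗[k] A₂) :=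
    Algebra.FiniteType.isNoetherianRing A₁ (A₁ ⊗[k] A₂)
  have hN : IsNoetherian X₀ P := by
    refine isNoetherian_segreMod 𝒜 ℬ ℳ 𝒩 hP u v (fun _ _ => rfl) (fun _ _ => rfl) fun a b q => ?_
    induction a using MvPolynomial.induction_on' with
    | add a a' ha ha' =>
      obtain ⟨p, hp, hp'⟩ := ha
      obtain ⟨p', hq, hq'⟩ := ha'
      exact ⟨p + p', add_mem hp hq, by
        rw [map_add, add_tmul, map_add, LinearMap.add_apply, map_add, map_add, hp', hq']⟩
    | monomial α c₁ =>
      induction b using MvPolynomial.induction_on' with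
      | add b b' hb hb' =>
        obtain ⟨p, hp, hp'⟩ := hb
        obtain ⟨p', hq, hq'⟩ := hb'
        exact ⟨p + p', add_mem hp hq, by
          rw [map_add, tmul_add, map_add, LinearMap.add_apply, map_add, map_add, hp', hq']⟩
      | monomial β c₂ =>
        rw [diag_act_map 𝒜 ℬ ℳ 𝒩 hP (aeval_monomial_mem f hf α c₁) (aeval_monomial_mem g hg β c₂)]
        by_cases h : (D : ℤ) * α.degree = (D : ℤ) * β.degree
        · have hab : α.degree = β.degree := by
            exact_mod_cast mul_left_cancel₀ (by exact_mod_cast hD.ne') h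
          obtain ⟨p, hp⟩ := exists_sigma_eq (k := k) (r' + 1) (s' + 1) _ α β rfl hab.symm
          refine ⟨((c₁ * c₂) • p) • q, Submodule.smul_mem _ _ (Submodule.mem_span_singleton_self q), ?_⟩
          rw [if_pos h]
          change _ = φ (χ ((c₁ * c₂) • p) • q)
          rw [hP.map_smul, hχ, map_smul, hp, map_smul, split_mul]
          congr 2
          have e1 : monomial α c₁ = c₁ • monomial α (1 : k) := by rw [smul_monomial]; simp
          have e2 : monomial β c₂ = c₂ • monomial β (1 : k) := by rw [smul_monomial]; simp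
          rw [map_smul, Algebra.TensorProduct.map_tmul, e1, e2]
          simp only [map_smul, TensorProduct.smul_tmul', TensorProduct.tmul_smul, smul_smul]
          simp [u, v, mul_comm c₂ c₁]
        · exact ⟨0, zero_mem _, by rw [if_neg h, map_zero]⟩
  haveI : Module.Finite X₀ P := Module.IsNoetherian.finite X₀ P
  rw [supportDim_eq_of_finite (X := X₀) (T := T) (P := P)]
  obtain ⟨p₀, -, hp₀⟩ := exists_mem_eq ℳ 𝒩 hP (n := c) (v := m ⊗ₜ[k] y)
    (Submodule.subset_span ⟨m, hm, y, hy, rfl⟩)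
  let Lm : A₁ →ₗ[k] M :=
    { toFun := fun a => u a • m
      map_add' := fun a b => by rw [map_add, add_smul]
      map_smul' := fun a b => by rw [map_smul, smul_assoc]; rfl }
  let Ln : A₂ →ₗ[k] N :=
    { toFun := fun a => v a • y
      map_add' := fun a b => by rw [map_add, add_smul]
      map_smul' := fun a b => by rw [map_smul, smul_assoc]; rfl }
  have hLm : Function.Injective Lm := (injective_iff_map_eq_zero Lm).2 fun a ha => hmf a ha
  have hLn : Function.Injective Ln := (injective_iff_map_eq_zero Ln).2 fun a ha => hyf a ha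
  have hE : ∀ w : A₁ ⊗[k] A₂,
      _root_.GrSeg.act k R S M N (Algebra.TensorProduct.map u v w) (m ⊗ₜ[k] y) =
        TensorProduct.map Lm Ln w := by
    intro w
    induction w using TensorProduct.induction_on with
    | zero => simp
    | add a b ha hb => simp only [map_add, LinearMap.add_apply, ha, hb]
    | tmul a b => rw [Algebra.TensorProduct.map_tmul, _root_.GrSeg.act_tmul]; rfl
  have hann : Module.annihilator X₀ P = RingHom.ker (sigma k (r' + 1) (s' + 1)) := by
    refine le_antisymm (fun p hp => ?_) fun p hp => ?_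
    · have h0 := congrArg φ (Module.mem_annihilator.1 hp p₀)
      change φ (χ p • p₀) = φ 0 at h0
      rw [hP.map_smul, hp₀, hχ, hE, map_zero] at h0
      have hinj : Function.Injective (TensorProduct.map Lm Ln) :=
        TensorProduct.map_injective_of_flat_flat Lm Ln hLm hLn
      rw [RingHom.mem_ker]
      apply split_injective k (r' + 1) (s' + 1)
      rw [map_zero]
      exact hinj (h0.trans (map_zero _).symm)
    · refine Module.mem_annihilator.2 fun q => ?_
      change χ p • q = 0
      have h1 : χ p = 0 := hT.1 (by rw [hχ, RingHom.mem_ker.1 hp]; simp)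
      rw [h1, zero_smul]
  rw [hann]
  exact ringKrullDim_sigma k r' s'

end Groth.Agent.GrSegre

namespace Groth.Agent.GrSegre

section TorsionFree

variable {k : Type u} [Field k] {R : Type u} [CommRing R] [Algebra k R]
  (𝒜 : ℤ → Submodule k R) [GradedAlgebra 𝒜]
  {M : Type u} [AddCommGroup M] [Module R M] [Module k M] [IsScalarTower k R M]
  {τ : Type u} [SetLike τ M] [AddSubgroupClass τ M]
  (ℳ : ℤ → τ) [DirectSum.Decomposition ℳ] [SetLike.GradedSMul 𝒜 ℳ]

/-- The torsion submodule with respect to parameters. -/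
def torsion {r : ℕ} (f : Fin r → R) : Submodule R M where
  carrier := {m | ∃ p : MvPolynomial (Fin r) k, p ≠ 0 ∧ (aeval f p : R) • m = 0}
  zero_mem' := ⟨1, one_ne_zero, smul_zero _⟩
  add_mem' := by
    rintro a b ⟨p, hp, hpa⟩ ⟨q, hq, hqb⟩
    refine ⟨p * q, mul_ne_zero hp hq, ?_⟩
    rw [smul_add, map_mul, mul_smul, mul_smul, hqb, smul_zero, add_zero, smul_comm, hpa, smul_zero]
  smul_mem' := by
    rintro a m ⟨p, hp, hpm⟩
    exact ⟨p, hp, by rw [smul_comm, hpm, smul_zero]⟩

theorem mem_torsion {r : ℕ} {f : Fin r → R} {m : M} : m ∈ torsion (k := k) (M := M) f ↔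
    ∃ p : MvPolynomial (Fin r) k, p ≠ 0 ∧ (aeval f p : R) • m = 0 := Iff.rfl

include ℳ in
/-- In a module of maximal dimension over a standard graded algebra there are torsion free elements in
all large degrees. -/
theorem exists_torsionFree [Module.Finite R M] (hpos : ∀ n : ℤ, n < 0 → 𝒜 n = ⊥)
    (hstd : Ideal.span (⋃ n ∈ Set.Ioi (0 : ℤ), (𝒜 n : Set R)) =
      Ideal.span ((𝒜 1 : Submodule k R) : Set R))
    {r : ℕ} (hr : 0 < r) {D : ℕ} (hD : 0 < D) (f : Fin r → R) (hf : ∀ i, f i ∈ 𝒜 (D : ℤ))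
    (hann : ∀ p : MvPolynomial (Fin r) k, (∀ x : M, (aeval f p : R) • x = 0) → p = 0) :
    ∃ a : ℤ, ∀ n : ℤ, a ≤ n → ∃ m ∈ ℳ n, ∀ p : MvPolynomial (Fin r) k,
      (aeval f p : R) • m = 0 → p = 0 := by
  classical
  obtain ⟨a, m, hm, hmt⟩ : ∃ a, ∃ m ∈ ℳ a, m ∉ torsion (k := k) (M := M) f := by
    by_contra h
    push Not at h
    have hall : ∀ x : M, x ∈ torsion (k := k) (M := M) f := fun x => by
      rw [← sum_cpt ℳ x]
      exact sum_mem fun n _ => h n _ (cpt_mem ℳ n x)
    obtain ⟨G, hG⟩ := Module.Finite.fg_top (R := R) (M := M)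
    choose p hp hpg using fun g : M => mem_torsion.1 (hall g)
    refine Finset.prod_ne_zero_iff.2 (fun g (_ : g ∈ G) => hp g) (hann (∏ g ∈ G, p g) fun x => ?_)
    have hx : x ∈ Submodule.span R (G : Set M) := by rw [hG]; trivial
    induction hx using Submodule.span_induction with
    | mem g hg =>
      rw [← Finset.prod_erase_mul G p hg, map_mul, mul_smul, hpg, smul_zero]
    | zero => simp
    | add x y _ _ hx hy => rw [smul_add, hx, hy, add_zero]
    | smul c x _ hx => rw [smul_comm, hx, smul_zero]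
  refine ⟨a, fun n hn => ?_⟩
  suffices h : ∃ c ∈ 𝒜 (n - a), c • m ∉ torsion (k := k) (M := M) f by
    obtain ⟨c, hc, hcm⟩ := h
    refine ⟨c • m, by simpa using smul_mem_gr (𝒜 := 𝒜) (ℳ := ℳ) hc hm, fun p hp => ?_⟩
    by_contra h0
    exact hcm ⟨p, h0, hp⟩
  by_contra h
  push Not at h
  -- then all higher degrees are torsion
  have hall : ∀ j : ℕ, ∀ c ∈ 𝒜 (n - a + j), c • m ∈ torsion (k := k) (M := M) f := by
    intro j
    induction j with
    | zero => simpa using h
    | succ j ih =>
      intro c hc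
      have hc1 : c ∈ Ideal.span ((𝒜 1 : Submodule k R) : Set R) := by
        rw [← hstd]
        exact Ideal.subset_span (Set.mem_biUnion (x := n - a + (j + 1 : ℕ))
          (Set.mem_Ioi.2 (by push_cast; omega)) hc)
      obtain ⟨l, co, g, hg⟩ := Submodule.mem_span_set'.1 hc1
      rw [← cpt_of_mem 𝒜 hc, ← hg, map_sum, Finset.sum_smul]
      refine sum_mem fun i _ => ?_
      rw [cpt_smul_right' (𝒜 := 𝒜) 𝒜 (g i).2, smul_eq_mul, mul_comm, mul_smul]
      refine Submodule.smul_mem _ _ (ih _ ?_)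
      convert cpt_mem 𝒜 (n - a + (j + 1 : ℕ) - 1) (co i) using 2
      push_cast; ring
  let i₀ : Fin r := ⟨0, hr⟩
  let J : ℕ := (n - a).toNat
  have hfJ : f i₀ ^ J ∈ 𝒜 (n - a + (D * J - (n - a)).toNat) := by
    have := SetLike.pow_mem_graded J (hf i₀)
    convert this using 2
    rw [nsmul_eq_mul]
    have h1 : (J : ℤ) = n - a := Int.toNat_of_nonneg (by omega)
    have h2 : (0 : ℤ) ≤ (D : ℤ) * J - (n - a) := by
      rw [← h1]; nlinarith [(by exact_mod_cast hD : (1 : ℤ) ≤ (D : ℤ))]
    rw [Int.toNat_of_nonneg h2]; ring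
  obtain ⟨p, hp, hpm⟩ := hall _ _ hfJ
  refine hmt ⟨p * X i₀ ^ J, mul_ne_zero hp (pow_ne_zero _ (X_ne_zero _)), ?_⟩
  rw [map_mul, map_pow, aeval_X, mul_smul, hpm]

end TorsionFree

end Groth.Agent.GrSegre
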