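import Groth.Agent.GrLC.RadCongr
import Groth.Agent.GrLC.Hom
import Groth.Agent.LocCohSweep.MayerVietoris

/-!
# Mayer–Vietoris for graded local cohomology, degree by degree

For a *injective `X`, `Γ_{a ∩ b}(X) = Γ_a(X) + Γ_b(X)` homogeneously.  If `H^i_{a+b}` and
`H^{i+1}_{a+b}` vanish, a piece of `H^i_{a ∩ b}` vanishes iff the pieces of `H^i_a` and `H^i_b` do.
-/

set_option autoImplicit false
set_option linter.unusedSectionVars false
set_option linter.style.haveILetI false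
universe u

open DirectSum
open Groth.Agent.GrLC

namespace Groth.Agent.GrSegre

variable {ι : Type} [AddCommGroup ι] [DecidableEq ι]
variable {R : Type u} [CommRing R] [IsNoetherianRing R]
variable {σ : Type u} [SetLike σ R] [AddSubgroupClass σ R] {𝒜 : ι → σ} [GradedRing 𝒜]
variable (a b c : HomogeneousIdeal 𝒜)

theorem gam_mono {I J : Ideal R} (h : I ≤ J) (X : Type u) [AddCommGroup X] [Module R X] :
    _root_.GrLC.gam J X ≤ _root_.GrLC.gam I X :=
  fun _ ⟨n, hn⟩ => ⟨n, fun r hr => hn r (Ideal.pow_right_mono h n hr)⟩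

theorem map_gam' {I : Ideal R} {X Y : Type u} [AddCommGroup X] [Module R X] [AddCommGroup Y] [Module R Y]
    (f : X →ₗ[R] Y) {x : X} (hx : x ∈ _root_.GrLC.gam I X) : f x ∈ _root_.GrLC.gam I Y := by
  obtain ⟨n, hn⟩ := hx
  exact ⟨n, fun r hr => by rw [← map_smul, hn r hr, map_zero]⟩

theorem d_d {M : Type u} [AddCommGroup M] [Module R M] {τ : Type u} [SetLike τ M] [AddSubgroupClass τ M]
    {ℳ : ι → τ} [DirectSum.Decomposition ℳ] [SetLike.GradedSMul 𝒜 ℳ]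
    (E : _root_.GrLC.StarInjRes 𝒜 ℳ) (j : ℕ) (x : (E.X j).carrier) : E.d (j + 1) (E.d j x) = 0 := by
  rw [← LinearMap.mem_ker, E.exact_succ]
  exact ⟨x, rfl⟩

theorem mem_gam_sup {I J : Ideal R} {X : Type u} [AddCommGroup X] [Module R X] {x : X}
    (h₁ : x ∈ _root_.GrLC.gam I X) (h₂ : x ∈ _root_.GrLC.gam J X) :
    x ∈ _root_.GrLC.gam (I ⊔ J) X := by
  obtain ⟨n, hn⟩ := h₁
  obtain ⟨m, hm⟩ := h₂
  refine ⟨n + m, fun r hr => ?_⟩
  obtain ⟨p, hp, q, hq, rfl⟩ := Submodule.mem_sup.1 (Ideal.sup_pow_add_le_pow_sup_pow hr)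
  rw [add_smul, hn p hp, hm q hq, add_zero]

/-- Torsion for an intersection splits in a *injective module. -/
theorem exists_gam_split {X : _root_.GrLC.GMod.{u} 𝒜} (hX : _root_.GrLC.IsStarInj 𝒜 X.gr) {g : ι}
    {z : X.carrier} (hzg : z ∈ X.gr g) (hz : z ∈ _root_.GrLC.gam (a.toIdeal ⊓ b.toIdeal) X.carrier) :
    ∃ p ∈ X.gr g, ∃ q ∈ X.gr g, p ∈ _root_.GrLC.gam a.toIdeal X.carrier ∧
      q ∈ _root_.GrLC.gam b.toIdeal X.carrier ∧ z = p + q := by
  classical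
  obtain ⟨n, hn⟩ := hz
  obtain ⟨m, hm⟩ := LocCohSweep.ThreeFunctor.exists_pow_inf_pow_le a.toIdeal b.toIdeal n
  let A : Ideal R := a.toIdeal ^ m
  let B : Ideal R := b.toIdeal ^ m
  have hA : A.IsHomogeneous 𝒜 := isHomogeneous_pow a.isHomogeneous m
  have hB : B.IsHomogeneous 𝒜 := isHomogeneous_pow b.isHomogeneous m
  let Q : Ideal R := A ⊔ B
  have hQ : Q.IsHomogeneous 𝒜 := hA.sup hB
  have hdec : ∀ x : Q, ∃ r, r ∈ A ∧ (x : R) - r ∈ B := fun x => by
    obtain ⟨r, hr, s, hs, h⟩ := Submodule.mem_sup.1 x.2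
    exact ⟨r, hr, by rw [← h, add_sub_cancel_left]; exact hs⟩
  choose r hrA hrB using hdec
  have huniq : ∀ (x : Q) (r' : R), r' ∈ A → (x : R) - r' ∈ B → r x • z = r' • z := by
    intro x r' hA' hB'
    rw [← sub_eq_zero, ← sub_smul]
    refine hn _ (hm ⟨sub_mem (hrA x) hA', ?_⟩)
    change r x - r' ∈ B
    rw [show r x - r' = ((x : R) - r') - ((x : R) - r x) by ring]
    exact sub_mem hB' (hrB x)
  let h₀ : Q →ₗ[R] X.carrier :=
    { toFun := fun x => r x • z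
      map_add' := fun x y => by
        rw [← add_smul]
        refine huniq _ _ (add_mem (hrA x) (hrA y)) ?_
        rw [Submodule.coe_add, show (x : R) + y - (r x + r y) = ((x : R) - r x) + ((y : R) - r y) by ring]
        exact add_mem (hrB x) (hrB y)
      map_smul' := fun t x => by
        rw [RingHom.id_apply, smul_smul]
        refine huniq _ _ (Ideal.mul_mem_left _ _ (hrA x)) ?_
        rw [Submodule.coe_smul, smul_eq_mul, ← mul_sub]
        exact Ideal.mul_mem_left _ _ (hrB x) }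
  letI := subDec 𝒜 (P := (Q : Submodule R R)) hQ
  haveI := subGr_gradedSMul (𝒜 := 𝒜) 𝒜 (Q : Submodule R R)
  have hh₀ : _root_.GrLC.IsGrHomDeg (subGr 𝒜 (Q : Submodule R R)) X.gr h₀ g := by
    intro i x hx
    have hxi : (x : R) ∈ 𝒜 i := hx
    have hc : cpt 𝒜 i (x : R) - cpt 𝒜 i (r x) ∈ B := by
      rw [← map_sub]; exact hB i (hrB x)
    rw [cpt_of_mem 𝒜 hxi] at hc
    change r x • z ∈ X.gr (i + g)
    rw [huniq x _ (hA i (hrA x)) hc]
    exact smul_mem_gr (ℳ := X.gr) (cpt_mem 𝒜 i _) hzg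
  obtain ⟨h, hh, hhe⟩ := starInj_extend_deg (𝓑 := 𝒜) hX (f := (Q : Submodule R R).subtype)
    (fun _ _ hx => hx) Subtype.val_injective hh₀
  have h1 : h 1 ∈ X.gr g := by
    have := hh 0 1 SetLike.GradedOne.one_mem
    rwa [zero_add] at this
  have hval : ∀ x : Q, h (x : R) = r x • z := fun x => LinearMap.congr_fun hhe x
  refine ⟨z - h 1, sub_mem hzg h1, h 1, h1, ⟨m, fun t ht => ?_⟩, ⟨m, fun t ht => ?_⟩,
    (sub_add_cancel z (h 1)).symm⟩
  · rw [smul_sub, ← map_smul, smul_eq_mul, mul_one, hval ⟨t, Submodule.mem_sup_left ht⟩,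
      huniq ⟨t, Submodule.mem_sup_left ht⟩ t ht (by simp), sub_self]
  · rw [← map_smul, smul_eq_mul, mul_one, hval ⟨t, Submodule.mem_sup_right ht⟩,
      huniq ⟨t, Submodule.mem_sup_right ht⟩ 0 (zero_mem _) (by simpa using ht), zero_smul]

variable {M : Type u} [AddCommGroup M] [Module R M] {τ : Type u} [SetLike τ M] [AddSubgroupClass τ M]
  {ℳ : ι → τ} [DirectSum.Decomposition ℳ] [SetLike.GradedSMul 𝒜 ℳ]

theorem exists_cobdy_hom (E : _root_.GrLC.StarInjRes 𝒜 ℳ) {j : ℕ} {g : ι} {z : (E.X (j + 1)).carrier}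
    (hzg : z ∈ (E.X (j + 1)).gr g) (hz : z ∈ E.cobdy a (j + 1)) :
    ∃ w ∈ (E.X j).gr g, w ∈ _root_.GrLC.gam a.toIdeal (E.X j).carrier ∧ E.d j w = z := by
  obtain ⟨w, hw, hwz⟩ := hz
  refine ⟨cpt (E.X j).gr g w, cpt_mem _ g w, isHomogeneous_gam (ℳ := (E.X j).gr) a g hw, ?_⟩
  rw [map_cpt (E.d_grHom j), hwz, cpt_of_mem _ hzg]

theorem cocyc_le_cobdy (E : _root_.GrLC.StarInjRes 𝒜 ℳ) {i : ℕ}
    (h : Subsingleton (LocCoh.H a.toIdeal i M)) {z : (E.X i).carrier} (hz : z ∈ E.cocyc a i) :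
    z ∈ E.cobdy a i :=
  (Submodule.Quotient.mk_eq_zero ((E.cobdy a i).comap (E.cocyc a i).subtype)).1
    ((Hequiv E a i).injective (h.elim _ (Hequiv E a i 0)) :
      E.toH a i ⟨z, hz⟩ = 0)

theorem cobdy_mono {a c : HomogeneousIdeal 𝒜} (hac : ∀ (X : Type u) [AddCommGroup X] [Module R X],
    _root_.GrLC.gam a.toIdeal X ≤ _root_.GrLC.gam c.toIdeal X) (E : _root_.GrLC.StarInjRes 𝒜 ℳ) :
    ∀ i, E.cobdy a i ≤ E.cobdy c i
  | 0 => le_rfl
  | _ + 1 => Submodule.map_mono (hac _)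

/-- Mayer–Vietoris for a single piece. -/
theorem mv_piece (hc : ∀ (X : Type u) [AddCommGroup X] [Module R X],
      _root_.GrLC.gam c.toIdeal X = _root_.GrLC.gam (a.toIdeal ⊓ b.toIdeal) X) (i : ℕ)
    (h : Subsingleton (LocCoh.H (a ⊔ b).toIdeal i M))
    (h' : Subsingleton (LocCoh.H (a ⊔ b).toIdeal (i + 1) M)) (g : ι) :
    LC.gr ℳ c i g = ⊥ ↔ LC.gr ℳ a i g = ⊥ ∧ LC.gr ℳ b i g = ⊥ := by
  obtain ⟨E⟩ := exists_res 𝒜 ℳ
  have hac : ∀ (X : Type u) [AddCommGroup X] [Module R X],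
      _root_.GrLC.gam a.toIdeal X ≤ _root_.GrLC.gam c.toIdeal X :=
    fun X _ _ => hc X ▸ gam_mono inf_le_left X
  have hbc : ∀ (X : Type u) [AddCommGroup X] [Module R X],
      _root_.GrLC.gam b.toIdeal X ≤ _root_.GrLC.gam c.toIdeal X :=
    fun X _ _ => hc X ▸ gam_mono inf_le_right X
  have hab : (a ⊔ b).toIdeal = a.toIdeal ⊔ b.toIdeal := HomogeneousIdeal.toIdeal_sup a b
  rw [← LC.Hcomp_eq_bot_iff c i E g, ← LC.Hcomp_eq_bot_iff a i E g, ← LC.Hcomp_eq_bot_iff b i E g,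
    Hcomp_eq_bot_iff_forall, Hcomp_eq_bot_iff_forall, Hcomp_eq_bot_iff_forall]
  refine ⟨fun H => ?_, fun H z hz hzg => ?_⟩
  · have key : ∀ (a b : HomogeneousIdeal 𝒜) (_ : ∀ (X : Type u) [AddCommGroup X] [Module R X],
        _root_.GrLC.gam c.toIdeal X = _root_.GrLC.gam (a.toIdeal ⊓ b.toIdeal) X)
        (_ : Subsingleton (LocCoh.H (a ⊔ b).toIdeal i M)),
        ∀ z ∈ E.cocyc a i, z ∈ (E.X i).gr g → z ∈ E.cobdy a i := by
      intro a b hc h z hz hzg
      have hzc := H z ⟨(hc (E.X i).carrier).symm ▸ gam_mono (inf_le_left : a.toIdeal ⊓ b.toIdeal ≤ a.toIdeal) (E.X i).carrier hz.1, hz.2⟩ hzg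
      rcases i with - | j
      · exact hzc
      obtain ⟨w, hwg, hw, rfl⟩ := exists_cobdy_hom c E hzg hzc
      obtain ⟨p, hp, q, hq, hpa, hqb, rfl⟩ :=
        exists_gam_split a b (E.starInj j) hwg (hc (E.X j).carrier ▸ hw)
      have hdq : E.d j q ∈ E.cocyc (a ⊔ b) (j + 1) := by
        refine ⟨?_, ?_⟩
        · rw [HomogeneousIdeal.toIdeal_sup]
          refine mem_gam_sup ?_ ?_
          · rw [show E.d j q = E.d j (p + q) - E.d j p by rw [map_add, add_sub_cancel_left]]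
            exact sub_mem hz.1 (map_gam' _ hpa)
          · exact map_gam' _ hqb
        · exact d_d E j q
      obtain ⟨v, hv, hvq⟩ := cocyc_le_cobdy (a ⊔ b) E h hdq
      refine ⟨p + v, add_mem hpa (gam_mono (by rw [HomogeneousIdeal.toIdeal_sup]; exact le_sup_left) _ hv), ?_⟩
      rw [map_add, map_add, hvq]
    refine ⟨key a b hc h, key b a (fun X _ _ => by rw [hc, inf_comm]) ?_⟩
    rw [sup_comm]
    exact h
  · obtain ⟨p, hp, q, hq, hpa, hqb, rfl⟩ :=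
      exists_gam_split a b (E.starInj i) hzg (hc (E.X i).carrier ▸ hz.1)
    have hdz : E.d i p + E.d i q = 0 := by rw [← map_add]; exact hz.2
    have hdp : E.d i p ∈ E.cocyc (a ⊔ b) (i + 1) := by
      refine ⟨?_, d_d E i p⟩
      rw [hab]
      refine mem_gam_sup (map_gam' _ hpa) ?_
      rw [eq_neg_of_add_eq_zero_left hdz]
      exact neg_mem (map_gam' _ hqb)
    obtain ⟨v, hvg, hv, hvp⟩ := exists_cobdy_hom (a ⊔ b) E (E.d_grHom i g p hp)
      (cocyc_le_cobdy (a ⊔ b) E h' hdp)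
    rw [hab] at hv
    have h1 := H.1 (p - v) ⟨sub_mem hpa (gam_mono le_sup_left _ hv),
      show E.d i (p - v) = 0 by rw [map_sub, hvp, sub_self]⟩ (sub_mem hp hvg)
    have h2 := H.2 (q + v) ⟨add_mem hqb (gam_mono le_sup_right _ hv),
      show E.d i (q + v) = 0 by rw [map_add, hvp]; exact (add_comm _ _).trans hdz⟩ (add_mem hq hvg)
    rw [show p + q = (p - v) + (q + v) by abel]
    exact add_mem (cobdy_mono hac E i h1) (cobdy_mono hbc E i h2)

end Groth.Agent.GrSegre
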