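import Groth.Prelude.Def_GrSeg
import Groth.Prelude.Def_Wider
import Groth.Agent.GrSegre.Proj
import Groth.Agent.LocCoh.DepthVanishing
import Mathlib.RingTheory.Flat.Basic
import Mathlib.LinearAlgebra.TensorProduct.RightExactness

/-!
# Vanishing of local cohomology of `M ⊗ N` over `R ⊗ S` below the sum of the depths
-/

set_option autoImplicit false
set_option linter.unusedSectionVars false
set_option linter.style.haveILetI false
universe u

open CategoryTheory TensorProduct RingTheory.Sequence
open scoped Pointwise

namespace Groth.Agent.GrSegre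

/-- Dimension shift along multiplication by an element of the ideal. -/
theorem subsingleton_H_succ_of_ses {U : Type u} [CommRing U] (I : Ideal U) {x : U} (hx : x ∈ I)
    {M Q : ModuleCat.{u} U} (g : M ⟶ Q) (w : (x • 𝟙 M) ≫ g = 0)
    (hS : (ShortComplex.mk (x • 𝟙 M) g w).ShortExact) (i : ℕ)
    (h : Subsingleton ((localCohomology I i).obj Q)) :
    Subsingleton ((localCohomology I (i + 1)).obj M) := by
  refine subsingleton_of_forall_eq 0 fun y => ?_
  refine LocCoh.eq_zero_of_isPowerTorsion_of_isSMulRegular (LocCoh.isPowerTorsion_H (i := i + 1) M) hx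
    (fun z hz => ?_) y
  have hz' : ((localCohomology I (i + 1)).map (x • 𝟙 M)).hom z = 0 :=
    (LocCoh.map_smul_id x M z).trans hz
  obtain ⟨v, rfl⟩ := (LocCoh.exact₁ (I := I) (i := i) hS z).mp hz'
  rw [h.elim v 0]
  exact map_zero _

theorem subsingleton_H_zero_of_regular {U : Type u} [CommRing U] (I : Ideal U) {x : U} (hx : x ∈ I)
    (M : ModuleCat.{u} U) (h : ∀ y : M, x • y = 0 → y = 0) :
    Subsingleton ((localCohomology I 0).obj M) := by
  refine subsingleton_of_forall_eq 0 fun y => (LocCoh.H0Equiv I M).injective (Subtype.ext ?_)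
  rw [map_zero, ZeroMemClass.coe_zero]
  obtain ⟨n, hn⟩ := (LocCoh.H0Equiv I M y).2
  have h1 : x ^ n • (LocCoh.H0Equiv I M y : M) = 0 := hn _ (Ideal.pow_mem_pow hx n)
  clear hn
  induction n with
  | zero => simpa using h1
  | succ n ih => rw [pow_succ', mul_smul] at h1; exact ih (h _ h1)

variable {k : Type u} [Field k]
variable {R S : Type u} [CommRing R] [CommRing S] [Algebra k R] [Algebra k S]

/-- `M ⊗ N` over `R ⊗ S`. -/
noncomputable def tensCat (M N : Type u) [AddCommGroup M] [Module R M] [Module k M]
    [IsScalarTower k R M] [AddCommGroup N] [Module S N] [Module k N] [IsScalarTower k S N] :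
    ModuleCat.{u} (R ⊗[k] S) :=
  letI := Module.compHom (M ⊗[k] N) (actHom k R S M N).toRingHom
  ModuleCat.of (R ⊗[k] S) (M ⊗[k] N)

section Hom

variable {M M' N N' : Type u} [AddCommGroup M] [Module R M] [Module k M] [IsScalarTower k R M]
  [AddCommGroup M'] [Module R M'] [Module k M'] [IsScalarTower k R M']
  [AddCommGroup N] [Module S N] [Module k N] [IsScalarTower k S N]
  [AddCommGroup N'] [Module S N'] [Module k N'] [IsScalarTower k S N']

theorem map_act (f : M →ₗ[R] M') (f' : N →ₗ[S] N') (a : R ⊗[k] S) (x : M ⊗[k] N) :
    TensorProduct.map (f.restrictScalars k) (f'.restrictScalars k) (_root_.GrSeg.act k R S M N a x) =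
      _root_.GrSeg.act k R S M' N' a
        (TensorProduct.map (f.restrictScalars k) (f'.restrictScalars k) x) := by
  induction a using TensorProduct.induction_on with
  | zero => simp
  | add a b ha hb => simp only [map_add, LinearMap.add_apply, ha, hb]
  | tmul r s =>
    induction x using TensorProduct.induction_on with
    | zero => simp
    | add x y hx hy => simp only [map_add, hx, hy]
    | tmul m y => simp [_root_.GrSeg.act_tmul]

/-- Functoriality. -/
noncomputable def tensMap (f : M →ₗ[R] M') (f' : N →ₗ[S] N') :
    tensCat (k := k) (R := R) (S := S) M N ⟶ tensCat (k := k) (R := R) (S := S) M' N' :=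
  letI := Module.compHom (M ⊗[k] N) (actHom k R S M N).toRingHom
  letI := Module.compHom (M' ⊗[k] N') (actHom k R S M' N').toRingHom
  ModuleCat.ofHom
    { toFun := TensorProduct.map (f.restrictScalars k) (f'.restrictScalars k)
      map_add' := fun x y => map_add _ x y
      map_smul' := fun a x => map_act f f' a x }

theorem tensMap_apply (f : M →ₗ[R] M') (f' : N →ₗ[S] N') (x : M ⊗[k] N) :
    (tensMap (k := k) f f').hom x =
      TensorProduct.map (f.restrictScalars k) (f'.restrictScalars k) x := rfl

theorem smul_id_hom (r : R ⊗[k] S) (x : M ⊗[k] N) :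
    (r • 𝟙 (tensCat (k := k) (R := R) (S := S) M N)).hom x = _root_.GrSeg.act k R S M N r x := rfl

theorem tensCat_smul (r : R ⊗[k] S) (x : M ⊗[k] N) :
    (r • (show tensCat (k := k) (R := R) (S := S) M N from x) :
      tensCat (k := k) (R := R) (S := S) M N) = _root_.GrSeg.act k R S M N r x := rfl

end Hom

variable (I : Ideal (R ⊗[k] S))

theorem subsingleton_H_tens_nil : ∀ (ys : List S) (M : Type u) [AddCommGroup M] [Module R M]
    [Module k M] [IsScalarTower k R M] (N : Type u) [AddCommGroup N] [Module S N] [Module k N]
    [IsScalarTower k S N], IsWeaklyRegular N ys → (∀ y ∈ ys, (1 : R) ⊗ₜ[k] y ∈ I) →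
    ∀ i < ys.length, Subsingleton ((localCohomology I i).obj (tensCat (k := k) (R := R) (S := S) M N)) := by
  intro ys
  induction ys with
  | nil => intro M _ _ _ _ N _ _ _ _ _ _ i hi; simp at hi
  | cons y ys ih =>
    intro M _ _ _ _ N _ _ _ _ hreg hI i hi
    obtain ⟨hy, hys⟩ := (isWeaklyRegular_cons_iff N y ys).1 hreg
    have hyI : (1 : R) ⊗ₜ[k] y ∈ I := hI y (List.mem_cons_self ..)
    let fy : N →ₗ[S] N := LinearMap.lsmul S N y
    have hfy : ∀ x : M ⊗[k] N, _root_.GrSeg.act k R S M N ((1 : R) ⊗ₜ[k] y) x =
        TensorProduct.map (LinearMap.id : M →ₗ[k] M) (fy.restrictScalars k) x := by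
      intro x
      induction x using TensorProduct.induction_on with
      | zero => simp
      | add a b ha hb => rw [map_add, map_add, ha, hb]
      | tmul a b => simp [_root_.GrSeg.act_tmul, fy]
    have hinj : Function.Injective (TensorProduct.map (LinearMap.id : M →ₗ[k] M) (fy.restrictScalars k)) :=
      Module.Flat.lTensor_preserves_injective_linearMap (M := M) (fy.restrictScalars k) hy
    rcases i with - | i
    · refine subsingleton_H_zero_of_regular I hyI _ fun x hx => hinj ?_
      exact (hfy x).symm.trans (hx.trans (map_zero _).symm)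
    · let q : N →ₗ[S] QuotSMulTop y N := Submodule.mkQ _
      have hw : (((1 : R) ⊗ₜ[k] y : R ⊗[k] S) • 𝟙 (tensCat (k := k) (R := R) (S := S) M N)) ≫
          tensMap (k := k) (LinearMap.id : M →ₗ[R] M) q = 0 := by
        refine ModuleCat.hom_ext (LinearMap.ext fun (x : M ⊗[k] N) => ?_)
        change TensorProduct.map ((LinearMap.id : M →ₗ[R] M).restrictScalars k) (q.restrictScalars k)
          (_root_.GrSeg.act k R S M N ((1 : R) ⊗ₜ[k] y) x) = 0
        induction x using TensorProduct.induction_on with
        | zero => simp
        | add a b ha hb => rw [map_add, map_add, ha, hb, add_zero]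
        | tmul a b =>
          rw [_root_.GrSeg.act_tmul, TensorProduct.map_tmul]
          simp only [LinearMap.restrictScalars_apply, q, Submodule.mkQ_apply]
          rw [(Submodule.Quotient.mk_eq_zero _).2
            (Submodule.smul_mem_pointwise_smul b y ⊤ Submodule.mem_top), tmul_zero]
      have hex : Function.Exact (fy.restrictScalars k) (q.restrictScalars k) :=
        fun b => LinearMap.exact_lsmul_mkQ_smul_top (R := S) N y b
      have hqs : Function.Surjective q := Submodule.mkQ_surjective (y • (⊤ : Submodule _ _))
      have hqs' : Function.Surjective (q.restrictScalars k) := fun z => hqs z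
      have hex' : Function.Exact (LinearMap.lTensor M (fy.restrictScalars k))
          (LinearMap.lTensor M (q.restrictScalars k)) :=
        lTensor_exact M hex hqs'
      refine subsingleton_H_succ_of_ses I hyI _ hw ?_ i
        (ih M (QuotSMulTop y N) hys (fun z hz => hI z (List.mem_cons_of_mem _ hz)) i (by simpa using hi))
      exact
        { exact := by
            rw [ShortComplex.moduleCat_exact_iff]
            intro x hx
            obtain ⟨v, hv⟩ := (hex' x).1 hx
            exact ⟨v, ((hfy v).trans hv : _)⟩
          mono_f := (ModuleCat.mono_iff_injective _).2 fun a b hab =>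
            hinj ((hfy a).symm.trans (hab.trans (hfy b)))
          epi_g := (ModuleCat.epi_iff_surjective _).2
            (LinearMap.lTensor_surjective M (g := q.restrictScalars k) hqs') }

/-- `H^i_I(M ⊗ N) = 0` below the total length of regular sequences with images in `I`. -/
theorem subsingleton_H_tens : ∀ (xs : List R) (M : Type u) [AddCommGroup M] [Module R M]
    [Module k M] [IsScalarTower k R M] (N : Type u) [AddCommGroup N] [Module S N] [Module k N]
    [IsScalarTower k S N] (ys : List S), IsWeaklyRegular M xs → IsWeaklyRegular N ys →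
    (∀ x ∈ xs, x ⊗ₜ[k] (1 : S) ∈ I) → (∀ y ∈ ys, (1 : R) ⊗ₜ[k] y ∈ I) →
    ∀ i < xs.length + ys.length,
      Subsingleton ((localCohomology I i).obj (tensCat (k := k) (R := R) (S := S) M N)) := by
  intro xs
  induction xs with
  | nil => intro M _ _ _ _ N _ _ _ _ ys _ hys _ hyI i hi
           exact subsingleton_H_tens_nil I ys M N hys hyI i (by simpa using hi)
  | cons y xs ih =>
    intro M _ _ _ _ N _ _ _ _ ys hreg hys hI hyI' i hi
    obtain ⟨hy, hxs⟩ := (isWeaklyRegular_cons_iff M y xs).1 hreg
    have hyI : y ⊗ₜ[k] (1 : S) ∈ I := hI y (List.mem_cons_self ..)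
    let fy : M →ₗ[R] M := LinearMap.lsmul R M y
    have hfy : ∀ x : M ⊗[k] N, _root_.GrSeg.act k R S M N (y ⊗ₜ[k] (1 : S)) x =
        TensorProduct.map (fy.restrictScalars k) (LinearMap.id : N →ₗ[k] N) x := by
      intro x
      induction x using TensorProduct.induction_on with
      | zero => simp
      | add a b ha hb => rw [map_add, map_add, ha, hb]
      | tmul a b => simp [_root_.GrSeg.act_tmul, fy]
    have hinj : Function.Injective (TensorProduct.map (fy.restrictScalars k) (LinearMap.id : N →ₗ[k] N)) :=
      Module.Flat.rTensor_preserves_injective_linearMap (M := N) (fy.restrictScalars k) hy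
    rcases i with - | i
    · refine subsingleton_H_zero_of_regular I hyI _ fun x hx => hinj ?_
      exact (hfy x).symm.trans (hx.trans (map_zero _).symm)
    · let q : M →ₗ[R] QuotSMulTop y M := Submodule.mkQ _
      have hw : ((y ⊗ₜ[k] (1 : S) : R ⊗[k] S) • 𝟙 (tensCat (k := k) (R := R) (S := S) M N)) ≫
          tensMap (k := k) q (LinearMap.id : N →ₗ[S] N) = 0 := by
        refine ModuleCat.hom_ext (LinearMap.ext fun (x : M ⊗[k] N) => ?_)
        change TensorProduct.map (q.restrictScalars k) ((LinearMap.id : N →ₗ[S] N).restrictScalars k)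
          (_root_.GrSeg.act k R S M N (y ⊗ₜ[k] (1 : S)) x) = 0
        induction x using TensorProduct.induction_on with
        | zero => simp
        | add a b ha hb => rw [map_add, map_add, ha, hb, add_zero]
        | tmul a b =>
          rw [_root_.GrSeg.act_tmul, TensorProduct.map_tmul]
          simp only [LinearMap.restrictScalars_apply, q, Submodule.mkQ_apply]
          rw [(Submodule.Quotient.mk_eq_zero _).2
            (Submodule.smul_mem_pointwise_smul a y ⊤ Submodule.mem_top), zero_tmul]
      have hex : Function.Exact (fy.restrictScalars k) (q.restrictScalars k) :=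
        fun b => LinearMap.exact_lsmul_mkQ_smul_top (R := R) M y b
      have hqs : Function.Surjective q := Submodule.mkQ_surjective (y • (⊤ : Submodule _ _))
      have hqs' : Function.Surjective (q.restrictScalars k) := fun z => hqs z
      have hex' : Function.Exact (LinearMap.rTensor N (fy.restrictScalars k))
          (LinearMap.rTensor N (q.restrictScalars k)) :=
        rTensor_exact N hex hqs'
      refine subsingleton_H_succ_of_ses I hyI _ hw ?_ i
        (ih (QuotSMulTop y M) N ys hxs hys (fun z hz => hI z (List.mem_cons_of_mem _ hz)) hyI' i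
          (by simp only [List.length_cons] at hi; omega))
      exact
        { exact := by
            rw [ShortComplex.moduleCat_exact_iff]
            intro x hx
            obtain ⟨v, hv⟩ := (hex' x).1 hx
            exact ⟨v, ((hfy v).trans hv : _)⟩
          mono_f := (ModuleCat.mono_iff_injective _).2 fun a b hab =>
            hinj ((hfy a).symm.trans (hab.trans (hfy b)))
          epi_g := (ModuleCat.epi_iff_surjective _).2
            (LinearMap.rTensor_surjective N (g := q.restrictScalars k) hqs') }

end Groth.Agent.GrSegre
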