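import Groth.Agent.GrSegre.CMOf
import Groth.Agent.GrSegre.Bigr
import Groth.Agent.GrSegre.MV
import Groth.Agent.GrSegre.Tens
import Groth.Agent.GrSegre.Finite
import Groth.Agent.GrSegre.Dim
import Groth.Agent.LocCoh.CohDim

/-!
# The Cohen–Macaulay criterion for Segre products
-/

set_option autoImplicit false
set_option linter.unusedSectionVars false
set_option linter.style.haveILetI false
universe u

open DirectSum TensorProduct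
open Groth.Agent.GrLC

namespace Groth.Agent.GrSegre

theorem subsingleton_H_iff_gr {ι : Type} [AddCommGroup ι] [DecidableEq ι] {R : Type u} [CommRing R]
    [IsNoetherianRing R] {σ : Type u} [SetLike σ R] [AddSubgroupClass σ R] {𝒜 : ι → σ} [GradedRing 𝒜]
    {M : Type u} [AddCommGroup M] [Module R M] {τ : Type u} [SetLike τ M] [AddSubgroupClass τ M]
    (ℳ : ι → τ) [DirectSum.Decomposition ℳ] [SetLike.GradedSMul 𝒜 ℳ] (a : HomogeneousIdeal 𝒜) (i : ℕ) :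
    Subsingleton (LocCoh.H a.toIdeal i M) ↔ ∀ g, LC.gr ℳ a i g = ⊥ := by
  refine ⟨fun h g => AddSubgroup.eq_bot_of_subsingleton _, fun h => ?_⟩
  refine subsingleton_of_forall_eq 0 fun x => ?_
  letI := LC.dec (ℳ := ℳ) a i
  refine eq_zero_of_cpt (LC.gr ℳ a i) fun g => ?_
  have hg := cpt_mem (LC.gr ℳ a i) g x
  rwa [h g, AddSubgroup.mem_bot] at hg

theorem finiteType_of_isNoetherian {k : Type u} [Field k] {T : Type u} [CommRing T] [Algebra k T]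
    (𝒯 : ℤ → Submodule k T) [GradedAlgebra 𝒯] [IsNoetherianRing T]
    (hpos : ∀ n : ℤ, n < 0 → 𝒯 n = ⊥) (h0 : 𝒯 0 = Submodule.span k {(1 : T)}) :
    Algebra.FiniteType k T := by
  classical
  obtain ⟨s, dg, z, hdg, hz, hspan⟩ := exists_irrel_gens 𝒯
  refine ⟨⟨Finset.univ.image z, eq_top_iff.2 fun x _ => ?_⟩⟩
  suffices h : ∀ (j : ℕ) (n : ℤ), n < j → ∀ x ∈ 𝒯 n,
      x ∈ Algebra.adjoin k ((Finset.univ.image z : Finset T) : Set T) by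
    rw [← sum_cpt 𝒯 x]
    exact sum_mem fun n _ => h (n.toNat + 1) n (by omega) _ (cpt_mem 𝒯 n x)
  intro j
  induction j with
  | zero =>
    intro n hn x hx
    rw [eq_zero_of_neg 𝒯 hpos (by simpa using hn) hx]
    exact zero_mem _
  | succ j ih =>
    intro n hn x hx
    rcases lt_trichotomy n 0 with h | rfl | h
    · rw [eq_zero_of_neg 𝒯 hpos h hx]; exact zero_mem _
    · obtain ⟨c, rfl⟩ := exists_eq_algebraMap 𝒯 hpos h0 hx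
      exact Subalgebra.algebraMap_mem _ c
    · obtain ⟨c, hc, hcx⟩ := exists_homogeneous_coeff (𝒜 := 𝒯) (ℳ := 𝒯) hz hx
        (by rw [hspan]; exact GrSyz.mem_irrel_of_pos h hx)
      rw [← hcx]
      refine sum_mem fun b _ => mul_mem (ih (n - dg b) ?_ (c b) (hc b))
        (Algebra.subset_adjoin (Finset.mem_coe.2 (Finset.mem_image_of_mem z (Finset.mem_univ b))))
      have := hdg b
      push_cast at hn
      omega

variable {k : Type u} [Field k]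
variable {R S : Type u} [CommRing R] [CommRing S] [Algebra k R] [Algebra k S]
  (𝒜 : ℤ → Submodule k R) [GradedAlgebra 𝒜] (ℬ : ℤ → Submodule k S) [GradedAlgebra ℬ]
  {T : Type u} [CommRing T] [Algebra k T] {𝒯 : ℤ → Submodule k T} [GradedAlgebra 𝒯]
  {ψ : T →ₐ[k] R ⊗[k] S}

theorem segre_hpos (hT : _root_.GrSeg.IsSegreRing 𝒜 ℬ 𝒯 ψ) (hposR : ∀ n : ℤ, n < 0 → 𝒜 n = ⊥) :
    ∀ n : ℤ, n < 0 → 𝒯 n = ⊥ := by
  intro n hn
  rw [Submodule.eq_bot_iff]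
  intro t ht
  refine hT.1 ?_
  rw [map_zero]
  have h : ψ t ∈ _root_.GrSeg.segrePiece k 𝒜 ℬ n := hT.2 n ▸ Submodule.mem_map_of_mem ht
  generalize ψ t = v at h ⊢
  induction h using Submodule.span_induction with
  | mem v hv =>
    obtain ⟨a, ha, b, hb, rfl⟩ := hv
    rw [eq_zero_of_neg 𝒜 hposR hn ha, zero_tmul]
  | zero => rfl
  | add a b _ _ ha hb => rw [ha, hb, add_zero]
  | smul c a _ ha => rw [ha, smul_zero]

theorem segre_h0 (hT : _root_.GrSeg.IsSegreRing 𝒜 ℬ 𝒯 ψ) (hposR : ∀ n : ℤ, n < 0 → 𝒜 n = ⊥)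
    (h0R : 𝒜 0 = Submodule.span k {(1 : R)}) (hposS : ∀ n : ℤ, n < 0 → ℬ n = ⊥)
    (h0S : ℬ 0 = Submodule.span k {(1 : S)}) : 𝒯 0 = Submodule.span k {(1 : T)} := by
  refine le_antisymm (fun t ht => ?_) ((Submodule.span_singleton_le_iff_mem _ _).2 SetLike.GradedOne.one_mem)
  have h : ψ t ∈ _root_.GrSeg.segrePiece k 𝒜 ℬ 0 := hT.2 0 ▸ Submodule.mem_map_of_mem ht
  have key : ∀ v ∈ _root_.GrSeg.segrePiece k 𝒜 ℬ 0, ∃ c : k, v = c • (1 : R ⊗[k] S) := by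
    intro v hv
    induction hv using Submodule.span_induction with
    | mem v hv =>
      obtain ⟨a, ha, b, hb, rfl⟩ := hv
      obtain ⟨c, rfl⟩ := exists_eq_algebraMap 𝒜 hposR h0R ha
      obtain ⟨d, rfl⟩ := exists_eq_algebraMap ℬ hposS h0S hb
      exact ⟨d * c, by
        rw [Algebra.algebraMap_eq_smul_one, Algebra.algebraMap_eq_smul_one, ← smul_tmul', tmul_smul,
          smul_smul, Algebra.TensorProduct.one_def, mul_comm d c]⟩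
    | zero => exact ⟨0, (zero_smul _ _).symm⟩
    | add a b _ _ ha hb =>
      obtain ⟨c, rfl⟩ := ha; obtain ⟨d, rfl⟩ := hb; exact ⟨c + d, (add_smul _ _ _).symm⟩
    | smul c a _ ha => obtain ⟨d, rfl⟩ := ha; exact ⟨c * d, (mul_smul _ _ _).symm⟩
  obtain ⟨c, hc⟩ := key _ h
  exact Submodule.mem_span_singleton.2 ⟨c, hT.1 (by rw [map_smul, map_one, hc])⟩

/-- The ideal generated by `T₊` in `R ⊗ S`. -/
noncomputable def diagI (hT : _root_.GrSeg.IsSegreRing 𝒜 ℬ 𝒯 ψ) : HomogeneousIdeal (biPiece k 𝒜 ℬ) :=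
  ⟨(irrI 𝒯).map ψ.toRingHom, by
    rw [irrI, Ideal.map_span]
    refine Ideal.homogeneous_span _ _ ?_
    rintro _ ⟨x, hx, rfl⟩
    obtain ⟨n, -, hn⟩ := Set.mem_iUnion₂.1 hx
    refine ⟨(n, n), ?_⟩
    have h : ψ x ∈ _root_.GrSeg.segrePiece k 𝒜 ℬ n := hT.2 n ▸ Submodule.mem_map_of_mem hn
    exact h⟩

theorem gam_diagI [IsNoetherianRing (R ⊗[k] S)] (hT : _root_.GrSeg.IsSegreRing 𝒜 ℬ 𝒯 ψ)
    (X : Type u) [AddCommGroup X] [Module (R ⊗[k] S) X] :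
    _root_.GrLC.gam (diagI 𝒜 ℬ hT).toIdeal X =
      _root_.GrLC.gam ((leftI 𝒜 ℬ).toIdeal ⊓ (rightI 𝒜 ℬ).toIdeal) X := by
  have h1 : (diagI 𝒜 ℬ hT).toIdeal ≤ (leftI 𝒜 ℬ).toIdeal ⊓ (rightI 𝒜 ℬ).toIdeal := by
    change (irrI 𝒯).map ψ.toRingHom ≤ _
    rw [irrI, Ideal.map_span, Ideal.span_le]
    rintro _ ⟨x, hx, rfl⟩
    obtain ⟨n, hn, hxn⟩ := Set.mem_iUnion₂.1 hx
    have h : ψ x ∈ _root_.GrSeg.segrePiece k 𝒜 ℬ n := hT.2 n ▸ Submodule.mem_map_of_mem hxn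
    change ψ x ∈ (leftI 𝒜 ℬ).toIdeal ⊓ (rightI 𝒜 ℬ).toIdeal
    generalize ψ x = v at h ⊢
    induction h using Submodule.span_induction with
    | mem v hv =>
      obtain ⟨a, ha, b, hb, rfl⟩ := hv
      have e : a ⊗ₜ[k] b = (a ⊗ₜ[k] (1 : S)) * ((1 : R) ⊗ₜ[k] b) := by
        rw [Algebra.TensorProduct.tmul_mul_tmul, mul_one, one_mul]
      have hn' : (0 : ℤ) < n := Set.mem_Ioi.1 hn
      exact ⟨e ▸ Ideal.mul_mem_right _ _ (Ideal.mem_map_of_mem _ (irr_irrI 𝒜 n hn' a ha)),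
        e ▸ Ideal.mul_mem_left _ _ (Ideal.mem_map_of_mem _ (irr_irrI ℬ n hn' b hb))⟩
    | zero => exact zero_mem _
    | add a b _ _ ha hb => exact add_mem ha hb
    | smul c a _ ha => exact Submodule.smul_of_tower_mem _ c ha
  have h2 : (leftI 𝒜 ℬ).toIdeal ⊓ (rightI 𝒜 ℬ).toIdeal ≤ (diagI 𝒜 ℬ hT).toIdeal.radical := by
    refine le_trans Ideal.le_radical ?_
    rw [Ideal.radical_inf, ← Ideal.radical_mul, Ideal.radical_le_radical_iff]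
    change (irrI 𝒜).map _ * (irrI ℬ).map _ ≤ _
    rw [irrI, irrI, Ideal.map_span, Ideal.map_span, Ideal.span_mul_span', Ideal.span_le]
    rintro _ ⟨_, ⟨a, ha, rfl⟩, _, ⟨b, hb, rfl⟩, rfl⟩
    obtain ⟨p, hp, hap⟩ := Set.mem_iUnion₂.1 ha
    obtain ⟨q, hq, hbq⟩ := Set.mem_iUnion₂.1 hb
    have hp' : (0 : ℤ) < p := Set.mem_Ioi.1 hp
    have hq' : (0 : ℤ) < q := Set.mem_Ioi.1 hq
    change a ⊗ₜ[k] (1 : S) * ((1 : R) ⊗ₜ[k] b) ∈ _
    rw [Algebra.TensorProduct.tmul_mul_tmul, mul_one, one_mul]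
    obtain ⟨p', rfl⟩ : ∃ n : ℕ, p = n := ⟨p.toNat, by omega⟩
    obtain ⟨q', rfl⟩ : ∃ n : ℕ, q = n := ⟨q.toNat, by omega⟩
    refine ⟨p' * q', ?_⟩
    rw [Algebra.TensorProduct.tmul_pow]
    have h3 : (a ^ q') ⊗ₜ[k] (b ^ p') ∈ (diagI 𝒜 ℬ hT).toIdeal := by
      have ha' := SetLike.pow_mem_graded q' hap
      have hb' := SetLike.pow_mem_graded p' hbq
      rw [nsmul_eq_mul] at ha' hb'
      rw [show (q' : ℤ) * (p' : ℤ) = ((p' * q' : ℕ) : ℤ) by push_cast; ring] at ha'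
      rw [show (p' : ℤ) * (q' : ℤ) = ((p' * q' : ℕ) : ℤ) by push_cast; ring] at hb'
      obtain ⟨t, ht, hψt⟩ := mem_segrePiece_ring 𝒜 ℬ hT ha' hb'
      rw [← hψt]
      exact Ideal.mem_map_of_mem _ (irr_irrI 𝒯 _ (by
        have : 0 < p' * q' := Nat.mul_pos (by omega) (by omega)
        exact_mod_cast this) t ht)
    have h4 : q' ≤ p' * q' := Nat.le_mul_of_pos_left q' (by omega)
    have h5 : p' ≤ p' * q' := Nat.le_mul_of_pos_right p' (by omega)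
    have e : (a ^ (p' * q')) ⊗ₜ[k] (b ^ (p' * q')) =
        ((a ^ q') ⊗ₜ[k] (b ^ p')) * ((a ^ (p' * q' - q')) ⊗ₜ[k] (b ^ (p' * q' - p'))) := by
      rw [Algebra.TensorProduct.tmul_mul_tmul, ← pow_add, ← pow_add, Nat.add_sub_cancel' h4,
        Nat.add_sub_cancel' h5]
    rw [e]
    exact Ideal.mul_mem_right _ _ h3
  obtain ⟨n, hn⟩ := Ideal.exists_pow_le_of_le_radical_of_fg h2 (IsNoetherian.noetherian _)
  exact gam_eq_of_pow_le (p := 1) (q := n) (by rw [pow_one]; exact h1) hn X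

variable {M N : Type u} [AddCommGroup M] [Module R M] [Module k M] [IsScalarTower k R M]
  [AddCommGroup N] [Module S N] [Module k N] [IsScalarTower k S N]
  {τ τ' : Type u} [SetLike τ M] [AddSubgroupClass τ M] [SetLike τ' N] [AddSubgroupClass τ' N]
  (ℳ : ℤ → τ) [DirectSum.Decomposition ℳ] [SetLike.GradedSMul 𝒜 ℳ]
  (𝒩 : ℤ → τ') [DirectSum.Decomposition 𝒩] [SetLike.GradedSMul ℬ 𝒩]
variable {P : Type u} [AddCommGroup P] [Module T P] [Module k P] [IsScalarTower k T P]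
  {τQ : Type u} [SetLike τQ P] [AddSubgroupClass τQ P] {𝒬 : ℤ → τQ} [DirectSum.Decomposition 𝒬]
  {φ : P →ₗ[k] M ⊗[k] N}

include 𝒜 ℬ ℳ 𝒩 in
/-- `M # N` is a graded `T`-module. -/
theorem segre_gradedSMul (hT : _root_.GrSeg.IsSegreRing 𝒜 ℬ 𝒯 ψ)
    (hP : _root_.GrSeg.IsSegreMod ψ ℳ 𝒩 𝒬 φ) : SetLike.GradedSMul 𝒯 𝒬 := by
  refine ⟨fun i j t p ht hp => ?_⟩
  have h1 : ψ t ∈ biPiece k 𝒜 ℬ (i, i) :=
    (hT.2 i ▸ Submodule.mem_map_of_mem ht : ψ t ∈ _root_.GrSeg.segrePiece k 𝒜 ℬ i)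
  have h2 := act_mem 𝒜 ℬ ℳ 𝒩 h1 (show φ p ∈ biPiece k ℳ 𝒩 (j, j) from mem_segrePiece_of_mem ℳ 𝒩 hP hp)
  rw [← hP.map_smul] at h2
  obtain ⟨q, hq, hq'⟩ := exists_mem_eq ℳ 𝒩 hP (n := i + j) (v := φ (t • p)) h2
  exact hP.injective hq' ▸ hq

set_option maxHeartbeats 800000 in
/-- Vanishing of the pieces of the local cohomology of `M # N` below `r + s - 1`. -/
theorem gr_segre_eq_bot_iff (hT : _root_.GrSeg.IsSegreRing 𝒜 ℬ 𝒯 ψ)
    (hP : _root_.GrSeg.IsSegreMod ψ ℳ 𝒩 𝒬 φ) [SetLike.GradedSMul 𝒯 𝒬] [IsNoetherianRing T]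
    [IsNoetherianRing R] [IsNoetherianRing S] [IsNoetherianRing (R ⊗[k] S)]
    [Algebra.FiniteType k R] [Algebra.FiniteType k S] [Module.Finite R M] [Module.Finite S N]
    (hposR : ∀ n : ℤ, n < 0 → 𝒜 n = ⊥) (h0R : 𝒜 0 = Submodule.span k {(1 : R)})
    (hposS : ∀ n : ℤ, n < 0 → ℬ n = ⊥) (h0S : ℬ 0 = Submodule.span k {(1 : S)})
    (mR : HomogeneousIdeal 𝒜) (hmR : mR.toIdeal = irrI 𝒜)
    (mS : HomogeneousIdeal ℬ) (hmS : mS.toIdeal = irrI ℬ)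
    (mT : HomogeneousIdeal 𝒯) (hmT : mT.toIdeal = irrI 𝒯)
    {r s : ℕ} (hdr : LocCoh.idealDepth (irrI 𝒜) M = r) (hds : LocCoh.idealDepth (irrI ℬ) N = s)
    {i : ℕ} (hi : i + 1 < r + s) (j : ℤ) :
    LC.gr 𝒬 mT i j = ⊥ ↔
      ((∀ z ∈ 𝒩 j, z = 0) ∨ LC.gr ℳ mR i j = ⊥) ∧ ((∀ z ∈ ℳ j, z = 0) ∨ LC.gr 𝒩 mS i j = ⊥) := by
  let θ : ℤ →+ ℤ × ℤ := (AddMonoidHom.id ℤ).prod (AddMonoidHom.id ℤ)
  have hθ : Function.Injective θ := fun a b h => congrArg Prod.fst h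
  have hφ : ∀ (i : ℤ) (t : T), t ∈ 𝒯 i → ψ.toRingHom t ∈ biPiece k 𝒜 ℬ (θ i) := fun i t ht =>
    (hT.2 i ▸ Submodule.mem_map_of_mem ht : ψ t ∈ _root_.GrSeg.segrePiece k 𝒜 ℬ i)
  let g : P →ₛₗ[ψ.toRingHom] (biGMod 𝒜 ℬ ℳ 𝒩).carrier :=
    { toFun := fun p => φ p
      map_add' := fun p q => map_add φ p q
      map_smul' := fun t p => hP.map_smul t p }
  have hg : GrTransfer.IsPart ψ.toRingHom θ 0 (biGMod 𝒜 ℬ ℳ 𝒩).gr 𝒬 g :=
    { injective := hP.injective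
      mem := fun j x hx => by
        rw [zero_add]
        exact mem_segrePiece_of_mem ℳ 𝒩 hP hx
      exists_eq := fun j y hy => by
        rw [zero_add] at hy
        exact exists_mem_eq ℳ 𝒩 hP (n := j) (v := y) hy }
  rw [GrTransfer.gr_eq_bot_iff ψ.toRingHom θ hθ hφ (diagI 𝒜 ℬ hT) mT (by rw [hmT]; rfl) hg i j,
    zero_add]
  -- vanishing at the sum of the two ideals
  have hsum : ∀ i' : ℕ, i' < r + s →
      Subsingleton (LocCoh.H (leftI 𝒜 ℬ ⊔ rightI 𝒜 ℬ).toIdeal i' (biGMod 𝒜 ℬ ℳ 𝒩).carrier) := by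
    intro i' hi'
    have hne : irrI 𝒜 • (⊤ : Submodule R M) ≠ ⊤ := fun e => by
      rw [Depth.idealDepth_eq_top_of_smul_top_eq_top e] at hdr
      exact ENat.natCast_ne_top _ hdr.symm
    have hne' : irrI ℬ • (⊤ : Submodule S N) ≠ ⊤ := fun e => by
      rw [Depth.idealDepth_eq_top_of_smul_top_eq_top e] at hds
      exact ENat.natCast_ne_top _ hds.symm
    obtain ⟨xs, hxs, hxm, hxl⟩ := Depth.exists_isWeaklyRegular_of_le_idealDepth hne hdr.ge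
    obtain ⟨ys, hys, hym, hyl⟩ := Depth.exists_isWeaklyRegular_of_le_idealDepth hne' hds.ge
    refine subsingleton_H_tens (leftI 𝒜 ℬ ⊔ rightI 𝒜 ℬ).toIdeal xs M N ys hxs hys
      (fun x hx => ?_) (fun y hy => ?_) i' (by omega)
    · rw [HomogeneousIdeal.toIdeal_sup]
      exact Submodule.mem_sup_left (Ideal.mem_map_of_mem _ (hxm x hx))
    · rw [HomogeneousIdeal.toIdeal_sup]
      exact Submodule.mem_sup_right (Ideal.mem_map_of_mem _ (hym y hy))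
  rw [mv_piece (leftI 𝒜 ℬ) (rightI 𝒜 ℬ) (diagI 𝒜 ℬ hT) (fun X _ _ => gam_diagI 𝒜 ℬ hT X) i
    (hsum i (by omega)) (hsum (i + 1) hi) (θ j)]
  exact and_congr (gr_bigr_left_iff 𝒜 ℬ ℳ 𝒩 hposS h0S mR hmR i j j)
    (gr_bigr_right_iff 𝒜 ℬ ℳ 𝒩 hposR h0R mS hmS i j j)

theorem gr_eq_bot_of_ne_dim {A : Type u} [CommRing A] [Algebra k A] [IsNoetherianRing A]
    {𝒜' : ℤ → Submodule k A} [GradedAlgebra 𝒜'] [Algebra.FiniteType k A]
    {V : Type u} [AddCommGroup V] [Module A V] [Module k V] [IsScalarTower k A V] [Module.Finite A V]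
    {τV : Type u} [SetLike τV V] [AddSubgroupClass τV V] (𝒱 : ℤ → τV) [DirectSum.Decomposition 𝒱]
    [SetLike.GradedSMul 𝒜' 𝒱] (m : HomogeneousIdeal 𝒜') (hm : m.toIdeal = irrI 𝒜') {r : ℕ}
    (hr : Module.supportDim A V = r) (hd : LocCoh.idealDepth (irrI 𝒜') V = r) {i : ℕ} (hi : i ≠ r)
    (g : ℤ) : LC.gr 𝒱 m i g = ⊥ := by
  refine (subsingleton_H_iff_gr 𝒱 m i).1 ?_ g
  rw [hm]
  rcases lt_or_gt_of_ne hi with h | h
  · exact (LocCoh.H_of_idealDepth_eq _ r V hd).1 i h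
  · refine LocCoh.subsingleton_H_of_supportDim_lt _ (r + 1) V ?_ i h
    rw [hr]
    exact_mod_cast Nat.lt_succ_self r

set_option maxHeartbeats 800000 in
/-- The Cohen–Macaulay criterion for a Segre product of Cohen–Macaulay modules. -/
theorem cm_segre_iff (hT : _root_.GrSeg.IsSegreRing 𝒜 ℬ 𝒯 ψ)
    (hP : _root_.GrSeg.IsSegreMod ψ ℳ 𝒩 𝒬 φ) [Algebra.FiniteType k R] [Algebra.FiniteType k S]
    [Module.Finite R M] [Module.Finite S N] [Nontrivial P]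
    [IsNoetherianRing R] [IsNoetherianRing S]
    (hposR : ∀ n : ℤ, n < 0 → 𝒜 n = ⊥) (h0R : 𝒜 0 = Submodule.span k {(1 : R)})
    (hposS : ∀ n : ℤ, n < 0 → ℬ n = ⊥) (h0S : ℬ 0 = Submodule.span k {(1 : S)})
    (mR : HomogeneousIdeal 𝒜) (hmR : mR.toIdeal = irrI 𝒜)
    (mS : HomogeneousIdeal ℬ) (hmS : mS.toIdeal = irrI ℬ)
    {r s : ℕ} (h1r : 1 ≤ r) (h1s : 1 ≤ s)
    (hdM : Module.supportDim R M = r) (hdN : Module.supportDim S N = s)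
    (hMcm : ∀ (q : Ideal R) [q.IsPrime], Subsingleton (LocalizedModule q.primeCompl M) ∨
      LocCoh.IsCohenMacaulayModule (Localization.AtPrime q) (LocalizedModule q.primeCompl M))
    (hNcm : ∀ (q : Ideal S) [q.IsPrime], Subsingleton (LocalizedModule q.primeCompl N) ∨
      LocCoh.IsCohenMacaulayModule (Localization.AtPrime q) (LocalizedModule q.primeCompl N)) :
    (∀ (q : Ideal T) [q.IsPrime], Subsingleton (LocalizedModule q.primeCompl P) ∨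
      LocCoh.IsCohenMacaulayModule (Localization.AtPrime q) (LocalizedModule q.primeCompl P)) ↔
      (2 ≤ s → ∀ j, (∀ z ∈ 𝒩 j, z = 0) ∨ LC.gr ℳ mR r j = ⊥) ∧
      (2 ≤ r → ∀ j, (∀ z ∈ ℳ j, z = 0) ∨ LC.gr 𝒩 mS s j = ⊥) := by
  classical
  haveI : IsNoetherianRing (R ⊗[k] S) := Algebra.FiniteType.isNoetherianRing R (R ⊗[k] S)
  haveI : IsNoetherianRing T := isNoetherian_segre 𝒜 ℬ 𝒜 ℬ hT (isSegreMod_self 𝒜 ℬ 𝒯 ψ hT)
  haveI := segre_gradedSMul 𝒜 ℬ ℳ 𝒩 hT hP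
  have hposT := segre_hpos 𝒜 ℬ hT hposR
  have h0T := segre_h0 𝒜 ℬ hT hposR h0R hposS h0S
  haveI := finiteType_of_isNoetherian 𝒯 hposT h0T
  haveI : IsNoetherian T P := isNoetherian_segre 𝒜 ℬ ℳ 𝒩 hT hP
  -- a common degree
  obtain ⟨p, hp⟩ := exists_ne (0 : P)
  obtain ⟨c, hc⟩ := exists_cpt_ne_zero 𝒬 hp
  have hφc := mem_segrePiece_of_mem ℳ 𝒩 hP (cpt_mem 𝒬 c p)
  have hne : φ (cpt 𝒬 c p) ≠ 0 := fun h => hc (hP.injective (h.trans (map_zero φ).symm))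
  obtain ⟨m, hm, hm0⟩ : ∃ m ∈ ℳ c, m ≠ 0 := by
    by_contra h
    push Not at h
    refine hne ((Submodule.mem_bot k).1 ((Submodule.span_le.2 ?_ :
      _root_.GrSeg.segrePiece k ℳ 𝒩 c ≤ ⊥) hφc))
    rintro _ ⟨a, ha, b, -, rfl⟩
    simp [h a ha]
  obtain ⟨y, hy, hy0⟩ : ∃ y ∈ 𝒩 c, y ≠ 0 := by
    by_contra h
    push Not at h
    refine hne ((Submodule.mem_bot k).1 ((Submodule.span_le.2 ?_ :
      _root_.GrSeg.segrePiece k ℳ 𝒩 c ≤ ⊥) hφc))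
    rintro _ ⟨a, -, b, hb, rfl⟩
    simp [h b hb]
  obtain ⟨r', rfl⟩ : ∃ r', r = r' + 1 := ⟨r - 1, by omega⟩
  obtain ⟨s', rfl⟩ : ∃ s', s = s' + 1 := ⟨s - 1, by omega⟩
  obtain ⟨dR, hdR, hfR⟩ := exists_sop 𝒜 hposR h0R ℳ hdM
  obtain ⟨dS, hdS, hgS⟩ := exists_sop ℬ hposS h0S 𝒩 hdN
  obtain ⟨f, hf, hfM, -⟩ := hfR dS hdS
  obtain ⟨g, hg, hgN, -⟩ := hgS dR hdR
  have hdim := supportDim_segre 𝒜 ℬ ℳ 𝒩 hT hP (dR * dS) (Nat.mul_pos hdR hdS) f hf hfM g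
    (fun j => by rw [mul_comm]; exact hg j) hgN hm
    (fun p hp => torsionFree_of_cm 𝒜 hposR h0R ℳ hdM hMcm f hfM hm hm0 p hp) hy
    (fun p hp => torsionFree_of_cm ℬ hposS h0S 𝒩 hdN hNcm g hgN hy hy0 p hp)
  have hdpM := idealDepth_irrI_of_cm 𝒜 hposR h0R ℳ hdM hMcm
  have hdpN := idealDepth_irrI_of_cm ℬ hposS h0S 𝒩 hdN hNcm
  let mT : HomogeneousIdeal 𝒯 := ⟨irrI 𝒯, Ideal.homogeneous_span _ _ fun x hx => by
    obtain ⟨n, -, hn⟩ := Set.mem_iUnion₂.1 hx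
    exact ⟨n, hn⟩⟩
  have key : ∀ i < r' + (s' + 1), ∀ j, LC.gr 𝒬 mT i j = ⊥ ↔
      ((∀ z ∈ 𝒩 j, z = 0) ∨ LC.gr ℳ mR i j = ⊥) ∧ ((∀ z ∈ ℳ j, z = 0) ∨ LC.gr 𝒩 mS i j = ⊥) :=
    fun i hi j => gr_segre_eq_bot_iff 𝒜 ℬ ℳ 𝒩 hT hP hposR h0R hposS h0S mR hmR mS hmS mT rfl
      hdpM hdpN (by omega) j
  constructor
  · intro hcm
    have hgr : ∀ i < r' + (s' + 1), ∀ j, LC.gr 𝒬 mT i j = ⊥ := fun i hi =>
      (subsingleton_H_iff_gr 𝒬 mT i).1 (subsingleton_H_of_cm 𝒯 hposT h0T 𝒬 hdim hcm hi)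
    exact ⟨fun h2 j => ((key _ (by omega) j).1 (hgr _ (by omega) j)).1,
      fun h2 j => ((key _ (by omega) j).1 (hgr _ (by omega) j)).2⟩
  · rintro ⟨h₁, h₂⟩ q hq
    refine cm_of_subsingleton_H 𝒯 hposT h0T 𝒬 hdim (fun i hi => ?_) q
    refine (subsingleton_H_iff_gr 𝒬 mT i).2 fun j => (key i hi j).2 ⟨?_, ?_⟩
    · by_cases e : i = r' + 1
      · subst e; exact h₁ (by omega) j
      · exact Or.inr (gr_eq_bot_of_ne_dim ℳ mR hmR hdM hdpM e j)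
    · by_cases e : i = s' + 1
      · subst e; exact h₂ (by omega) j
      · exact Or.inr (gr_eq_bot_of_ne_dim 𝒩 mS hmS hdN hdpN e j)

end Groth.Agent.GrSegre
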