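import Groth.Agent.GrSegre.Crit

/-!
# The Cohen–Macaulay criterion for Segre products of rings, standard gradings
-/

set_option autoImplicit false
set_option linter.unusedSectionVars false
set_option linter.style.haveILetI false
universe u

open DirectSum TensorProduct
open Groth.Agent.GrLC

namespace Groth.Agent.GrSegre

theorem cm_module_self {A : Type u} [CommRing A] [h : LocCoh.IsCohenMacaulayRing A] (q : Ideal A)
    [q.IsPrime] : Subsingleton (LocalizedModule q.primeCompl A) ∨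
      LocCoh.IsCohenMacaulayModule (Localization.AtPrime q) (LocalizedModule q.primeCompl A) := by
  haveI := h.isCohenMacaulayLocalRing_localization q
  exact Or.inr ((Depth.isCohenMacaulayModule_congr (Depth.localizedModuleSelfEquiv q.primeCompl)).2
    (Depth.isCohenMacaulayModule_self _))

theorem cmRing_of_module {A : Type u} [CommRing A] [IsNoetherianRing A]
    (h : ∀ (q : Ideal A) [q.IsPrime], Subsingleton (LocalizedModule q.primeCompl A) ∨
      LocCoh.IsCohenMacaulayModule (Localization.AtPrime q) (LocalizedModule q.primeCompl A)) :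
    LocCoh.IsCohenMacaulayRing A :=
  { isCohenMacaulayLocalRing_localization := fun q _ => by
      haveI : Nontrivial (LocalizedModule q.primeCompl A) :=
        (Depth.localizedModuleSelfEquiv q.primeCompl).toEquiv.nontrivial
      exact Depth.isCohenMacaulayLocalRing_iff.2 ((Depth.isCohenMacaulayModule_congr
        (Depth.localizedModuleSelfEquiv q.primeCompl)).1 ((h q).resolve_left (not_subsingleton _))) }

variable {k : Type u} [Field k]
variable {R S : Type u} [CommRing R] [CommRing S] [Algebra k R] [Algebra k S]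
  (𝒜 : ℤ → Submodule k R) [GradedAlgebra 𝒜] (ℬ : ℤ → Submodule k S) [GradedAlgebra ℬ]
  {T : Type u} [CommRing T] [Algebra k T] {𝒯 : ℤ → Submodule k T} [GradedAlgebra 𝒯]
  {ψ : T →ₐ[k] R ⊗[k] S}

/-- Cohen–Macaulayness of `R # S`. -/
theorem cmRing_segre_iff (hT : _root_.GrSeg.IsSegreRing 𝒜 ℬ 𝒯 ψ)
    [Algebra.FiniteType k R] [Algebra.FiniteType k S]
    [LocCoh.IsCohenMacaulayRing R] [LocCoh.IsCohenMacaulayRing S]
    (hposR : ∀ n : ℤ, n < 0 → 𝒜 n = ⊥) (h0R : 𝒜 0 = Submodule.span k {(1 : R)})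
    (hposS : ∀ n : ℤ, n < 0 → ℬ n = ⊥) (h0S : ℬ 0 = Submodule.span k {(1 : S)})
    (mR : HomogeneousIdeal 𝒜) (hmR : mR.toIdeal = irrI 𝒜)
    (mS : HomogeneousIdeal ℬ) (hmS : mS.toIdeal = irrI ℬ)
    {r s : ℕ} (h2r : 2 ≤ r) (h2s : 2 ≤ s) (hr : ringKrullDim R = r) (hs : ringKrullDim S = s) :
    LocCoh.IsCohenMacaulayRing T ↔
      (∀ n, 𝒜 n = ⊥ ∨ LC.gr ℬ mS s n = ⊥) ∧ (∀ n, LC.gr 𝒜 mR r n = ⊥ ∨ ℬ n = ⊥) := by
  haveI : IsNoetherianRing (R ⊗[k] S) := Algebra.FiniteType.isNoetherianRing R (R ⊗[k] S)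
  haveI : IsNoetherianRing T := isNoetherian_segre 𝒜 ℬ 𝒜 ℬ hT (isSegreMod_self 𝒜 ℬ 𝒯 ψ hT)
  haveI : Nontrivial R := (Module.supportDim_ne_bot_iff_nontrivial R R).1 (by rw [Module.supportDim_self_eq_ringKrullDim, hr]; simp)
  haveI : Nontrivial S := (Module.supportDim_ne_bot_iff_nontrivial S S).1 (by rw [Module.supportDim_self_eq_ringKrullDim, hs]; simp)
  haveI : Nontrivial (R ⊗[k] S) :=
    Algebra.TensorProduct.nontrivial_of_algebraMap_injective_of_flat_left k R S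
      (algebraMap k S).injective
  haveI : Nontrivial T := ψ.toRingHom.domain_nontrivial
  have h := cm_segre_iff 𝒜 ℬ 𝒜 ℬ hT (isSegreMod_self 𝒜 ℬ 𝒯 ψ hT) hposR h0R hposS h0S mR hmR mS hmS
    (r := r) (s := s) (by omega) (by omega)
    (by rw [Module.supportDim_self_eq_ringKrullDim, hr])
    (by rw [Module.supportDim_self_eq_ringKrullDim, hs])
    (fun q _ => cm_module_self q) (fun q _ => cm_module_self q)
  simp only [Submodule.eq_bot_iff]
  refine ⟨fun hcm => ?_, fun hc => cmRing_of_module fun q hq => ?_⟩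
  · obtain ⟨h1, h2⟩ := h.1 fun q _ => cm_module_self q
    exact ⟨fun n => h2 h2r n, fun n => (h1 h2s n).symm⟩
  · exact h.2 ⟨fun _ n => (hc.2 n).symm, fun _ n => hc.1 n⟩ q

theorem ne_bot_of_std [Algebra.FiniteType k R] (hpos : ∀ n : ℤ, n < 0 → 𝒜 n = ⊥)
    (h0 : 𝒜 0 = Submodule.span k {(1 : R)})
    (hstd : Ideal.span (⋃ n ∈ Set.Ioi (0 : ℤ), (𝒜 n : Set R)) =
      Ideal.span ((𝒜 1 : Submodule k R) : Set R))
    {r : ℕ} (h1r : 1 ≤ r) (hr : ringKrullDim R = r) {n : ℤ} (hn : 0 ≤ n) : 𝒜 n ≠ ⊥ := by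
  intro hbot
  haveI := Algebra.FiniteType.isNoetherianRing k R
  obtain ⟨d, hd, hsop⟩ := exists_sop 𝒜 hpos h0 (M := R) 𝒜 (r := r)
    (by rw [Module.supportDim_self_eq_ringKrullDim, hr])
  obtain ⟨f, hf, -, hinj⟩ := hsop (n.toNat + 1) (Nat.succ_pos _)
  have hup : ∀ j : ℕ, 𝒜 (n + j) = ⊥ := by
    intro j
    induction j with
    | zero => simpa using hbot
    | succ j ih =>
      rw [Submodule.eq_bot_iff]
      intro c hc
      have hc1 : c ∈ Ideal.span ((𝒜 1 : Submodule k R) : Set R) := by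
        rw [← hstd]
        exact Ideal.subset_span (Set.mem_biUnion (x := n + (j + 1 : ℕ))
          (Set.mem_Ioi.2 (by push_cast; omega)) hc)
      obtain ⟨l, co, g, hg⟩ := Submodule.mem_span_set'.1 hc1
      rw [← cpt_of_mem 𝒜 hc, ← hg, map_sum]
      refine Finset.sum_eq_zero fun i _ => ?_
      rw [cpt_smul_right' (𝒜 := 𝒜) 𝒜 (g i).2]
      have hz := cpt_mem 𝒜 (n + ((j + 1 : ℕ) : ℤ) - 1) (co i)
      have hz' : cpt 𝒜 (n + ((j + 1 : ℕ) : ℤ) - 1) (co i) = 0 := by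
        rw [show n + ((j + 1 : ℕ) : ℤ) - 1 = n + j by push_cast; ring, ih, Submodule.mem_bot] at hz
        rw [show n + ((j + 1 : ℕ) : ℤ) - 1 = n + j by push_cast; ring]
        exact hz
      rw [hz', zero_smul]
  let i₀ : Fin r := ⟨0, h1r⟩
  have hf0 : f i₀ = 0 := by
    have h1 := hf i₀
    have h2 : n ≤ ((d * (n.toNat + 1) : ℕ) : ℤ) := by
      have : n.toNat + 1 ≤ d * (n.toNat + 1) := Nat.le_mul_of_pos_left _ hd
      omega
    obtain ⟨j, hj⟩ : ∃ j : ℕ, ((d * (n.toNat + 1) : ℕ) : ℤ) = n + j :=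
      ⟨(((d * (n.toNat + 1) : ℕ) : ℤ) - n).toNat, by omega⟩
    rw [hj, hup j, Submodule.mem_bot] at h1
    exact h1
  exact MvPolynomial.X_ne_zero i₀ (hinj _ fun x => by rw [MvPolynomial.aeval_X, hf0, zero_smul])

theorem endDeg_neg_iff {V : Type u} [AddCommGroup V] (ℳ : ℤ → AddSubgroup V) :
    _root_.GrLC.endDeg ℳ < 0 ↔ ∀ n : ℤ, 0 ≤ n → ℳ n = ⊥ := by
  unfold _root_.GrLC.endDeg
  constructor
  · intro h n hn
    by_contra hne
    have h1 : ((n : WithTop ℤ) : WithBot (WithTop ℤ)) ≤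
        ⨆ (m : ℤ) (_ : ℳ m ≠ ⊥), ((m : WithTop ℤ) : WithBot (WithTop ℤ)) :=
      le_iSup₂ (f := fun (m : ℤ) (_ : ℳ m ≠ ⊥) => ((m : WithTop ℤ) : WithBot (WithTop ℤ))) n hne
    have h2 : (0 : WithBot (WithTop ℤ)) ≤ ((n : WithTop ℤ) : WithBot (WithTop ℤ)) := by
      exact_mod_cast hn
    exact absurd (h2.trans h1) h.not_ge
  · intro h
    refine lt_of_le_of_lt (iSup₂_le (a := (((-1 : ℤ) : WithTop ℤ) : WithBot (WithTop ℤ))) fun n hn => ?_)
      (by exact_mod_cast (by norm_num : (-1 : ℤ) < 0))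
    have : n ≤ -1 := by
      by_contra hlt
      exact hn (h n (by omega))
    exact_mod_cast this

end Groth.Agent.GrSegre
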