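import Mathlib.Algebra.Category.ModuleCat.Basic
import Mathlib.LinearAlgebra.Basis.VectorSpace
import Mathlib.LinearAlgebra.TensorProduct.RightExactness
import Mathlib.LinearAlgebra.Dimension.Constructions
import Mathlib.LinearAlgebra.Dimension.Finite
import Mathlib.RingTheory.Flat.Basic
import Mathlib.Tactic.Module
import Mathlib.Tactic.Ring

/-!
# Cochain complexes of vector spaces: long exact sequence and Künneth formula
-/

set_option autoImplicit false
set_option linter.unusedSectionVars false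
set_option linter.unusedSimpArgs false
set_option linter.style.haveILetI false
universe u

open scoped TensorProduct

noncomputable section

namespace Groth.Agent.GrSegre

variable {k : Type u} [Field k]

/-- An `ℕ`-indexed cochain complex of vector spaces. -/
structure Cx (k : Type u) [Field k] : Type (u + 1) where
  /-- terms -/
  X : ℕ → ModuleCat.{u} k
  /-- differentials -/
  d : ∀ n, X n →ₗ[k] X (n + 1)
  dd : ∀ n x, d (n + 1) (d n x) = 0

namespace Cx

variable (C : Cx k)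

/-- coboundaries -/
def B : ∀ n, Submodule k (C.X n)
  | 0 => ⊥
  | n + 1 => LinearMap.range (C.d n)

/-- cohomology -/
abbrev H (n : ℕ) : Type u :=
  LinearMap.ker (C.d n) ⧸ (C.B n).comap (LinearMap.ker (C.d n)).subtype

/-- class of a cocycle -/
def cls (n : ℕ) : LinearMap.ker (C.d n) →ₗ[k] C.H n := Submodule.mkQ _

theorem cls_surjective (n : ℕ) : Function.Surjective (C.cls n) := Submodule.mkQ_surjective _

theorem cls_eq_zero_iff {n : ℕ} (z : LinearMap.ker (C.d n)) : C.cls n z = 0 ↔ z.1 ∈ C.B n :=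
  Submodule.Quotient.mk_eq_zero _

theorem cls_zero_injective : Function.Injective (C.cls 0) :=
  (injective_iff_map_eq_zero _).2 fun z hz => Subtype.ext ((C.cls_eq_zero_iff z).1 hz)

theorem subsingleton_H_iff {n : ℕ} :
    Subsingleton (C.H n) ↔ ∀ z, C.d n z = 0 → z ∈ C.B n := by
  refine ⟨fun h z hz => (C.cls_eq_zero_iff ⟨z, hz⟩).1 (h.elim _ _), fun h => ?_⟩
  refine subsingleton_of_forall_eq 0 fun x => ?_
  obtain ⟨z, rfl⟩ := C.cls_surjective n x
  exact (C.cls_eq_zero_iff z).2 (h z.1 z.2)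

theorem exact_succ {n : ℕ} (h : Subsingleton (C.H (n + 1))) :
    LinearMap.ker (C.d (n + 1)) = LinearMap.range (C.d n) :=
  le_antisymm (fun z hz => C.subsingleton_H_iff.1 h z hz)
    (by rintro _ ⟨x, rfl⟩; exact C.dd n x)

/-- a map on cochains killing coboundaries descends to cohomology -/
def descH {n : ℕ} {V : Type u} [AddCommGroup V] [Module k V] (f : C.X n →ₗ[k] V)
    (h : ∀ z ∈ C.B n, f z = 0) : C.H n →ₗ[k] V :=
  Submodule.liftQ _ (f.comp (LinearMap.ker (C.d n)).subtype) fun z hz => LinearMap.mem_ker.2 (h z.1 hz)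

theorem descH_cls {n : ℕ} {V : Type u} [AddCommGroup V] [Module k V] (f : C.X n →ₗ[k] V)
    (h : ∀ z ∈ C.B n, f z = 0) (z : LinearMap.ker (C.d n)) : C.descH f h (C.cls n z) = f z.1 := rfl

/-- subcomplex -/
abbrev sub (S : ∀ n, Submodule k (C.X n)) (hS : ∀ n, ∀ x ∈ S n, C.d n x ∈ S (n + 1)) : Cx k where
  X n := ModuleCat.of k (S n)
  d n := ((C.d n).comp (S n).subtype).codRestrict (S (n + 1)) fun x => hS n x.1 x.2
  dd n x := Subtype.ext (C.dd n x.1)

/-- quotient complex -/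
abbrev quo (S : ∀ n, Submodule k (C.X n)) (hS : ∀ n, ∀ x ∈ S n, C.d n x ∈ S (n + 1)) : Cx k where
  X n := ModuleCat.of k (C.X n ⧸ S n)
  d n := (S n).mapQ (S (n + 1)) (C.d n) fun x hx => hS n x hx
  dd n x := by
    obtain ⟨x, rfl⟩ := (S n).mkQ_surjective x
    change Submodule.Quotient.mk (C.d (n + 1) (C.d n x)) = 0
    rw [C.dd, Submodule.Quotient.mk_zero]

section LES

variable {S : ∀ n, Submodule k (C.X n)} (hS : ∀ n, ∀ x ∈ S n, C.d n x ∈ S (n + 1))
variable (W : Cx k) (q : ∀ n, C.X n →ₗ[k] W.X n)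
  (hq : ∀ n x, q (n + 1) (C.d n x) = W.d n (q n x))
  (hqs : ∀ n, Function.Surjective (q n)) (hker : ∀ n, LinearMap.ker (q n) = S n)

include hq hqs hker in
/-- the connecting isomorphism in positive degrees for a complex exact there -/
theorem exists_connecting (n : ℕ) (h1 : Subsingleton (C.H (n + 1)))
    (h2 : Subsingleton (C.H (n + 2))) :
    ∃ e : W.H (n + 1) ≃ₗ[k] (C.sub S hS).H (n + 2),
      ∀ (w : LinearMap.ker (W.d (n + 1))) (v : C.X (n + 1))
        (z : LinearMap.ker ((C.sub S hS).d (n + 2))),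
        q (n + 1) v = w.1 → C.d (n + 1) v = z.1.1 → e (W.cls _ w) = (C.sub S hS).cls _ z := by
  let L : Submodule k (C.X (n + 1)) := (S (n + 2)).comap (C.d (n + 1))
  have hLW : ∀ v : L, W.d (n + 1) (q (n + 1) v.1) = 0 := fun v => by
    rw [← hq, ← LinearMap.mem_ker, hker]
    exact v.2
  let π : L →ₗ[k] W.H (n + 1) :=
    (W.cls (n + 1)).comp (((q (n + 1)).comp L.subtype).codRestrict _ hLW)
  let dS : L →ₗ[k] (C.sub S hS).X (n + 2) :=
    ((C.d (n + 1)).comp L.subtype).codRestrict (S (n + 2)) fun v => v.2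
  let δ : L →ₗ[k] (C.sub S hS).H (n + 2) :=
    ((C.sub S hS).cls (n + 2)).comp (dS.codRestrict _ fun v => Subtype.ext (C.dd (n + 1) v.1))
  have hπ : Function.Surjective π := by
    intro x
    obtain ⟨w, rfl⟩ := W.cls_surjective _ x
    obtain ⟨v, hv⟩ := hqs _ w.1
    refine ⟨⟨v, ?_⟩, congrArg (W.cls _) (Subtype.ext hv)⟩
    change C.d (n + 1) v ∈ S (n + 2)
    rw [← hker, LinearMap.mem_ker, hq, hv]
    exact w.2
  have hδ : Function.Surjective δ := by
    intro x
    obtain ⟨z, rfl⟩ := (C.sub S hS).cls_surjective _ x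
    have hz : C.d (n + 2) z.1.1 = 0 := congrArg Subtype.val z.2
    obtain ⟨v, hv⟩ := C.subsingleton_H_iff.1 h2 z.1.1 hz
    refine ⟨⟨v, ?_⟩, congrArg ((C.sub S hS).cls _) (Subtype.ext (Subtype.ext hv))⟩
    change C.d (n + 1) v ∈ S (n + 2)
    rw [hv]
    exact z.1.2
  have hk : LinearMap.ker π = LinearMap.ker δ := by
    ext v
    simp only [LinearMap.mem_ker, π, δ, LinearMap.comp_apply, W.cls_eq_zero_iff,
      (C.sub S hS).cls_eq_zero_iff]
    constructor
    · rintro ⟨w', hw'⟩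
      obtain ⟨v', rfl⟩ := hqs n w'
      rw [← hq] at hw'
      have hmem : v.1 - C.d n v' ∈ S (n + 1) := by
        rw [← hker, LinearMap.mem_ker, map_sub, sub_eq_zero]
        exact hw'.symm
      refine ⟨⟨v.1 - C.d n v', hmem⟩, Subtype.ext ?_⟩
      change C.d (n + 1) (v.1 - C.d n v') = C.d (n + 1) v.1
      rw [map_sub, C.dd, sub_zero]
    · rintro ⟨s, hs⟩
      have hs' : C.d (n + 1) s.1 = C.d (n + 1) v.1 := congrArg Subtype.val hs
      obtain ⟨v', hv'⟩ := C.subsingleton_H_iff.1 h1 (v.1 - s.1) (by rw [map_sub, hs', sub_self])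
      refine ⟨q n v', ?_⟩
      rw [← hq, hv']
      have hs0 : q (n + 1) s.1 = 0 := by rw [← LinearMap.mem_ker, hker]; exact s.2
      change q (n + 1) (v.1 - s.1) = q (n + 1) v.1
      rw [map_sub, hs0, sub_zero]
  let e : W.H (n + 1) ≃ₗ[k] (C.sub S hS).H (n + 2) :=
    (π.quotKerEquivOfSurjective hπ).symm.trans
      ((Submodule.quotEquivOfEq _ _ hk).trans (δ.quotKerEquivOfSurjective hδ))
  have he : ∀ v : L, e (π v) = δ v := fun v => by
    change (δ.quotKerEquivOfSurjective hδ) ((Submodule.quotEquivOfEq _ _ hk)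
      ((π.quotKerEquivOfSurjective hπ).symm (π v))) = _
    rw [show (π.quotKerEquivOfSurjective hπ).symm (π v) = Submodule.Quotient.mk v by
      rw [LinearEquiv.symm_apply_eq]; rfl]
    rfl
  refine ⟨e, fun w v z hv hz => ?_⟩
  have hvL : v ∈ L := by
    change C.d (n + 1) v ∈ S (n + 2)
    rw [hz]
    exact z.1.2
  have e1 : W.cls _ w = π ⟨v, hvL⟩ := congrArg (W.cls _) (Subtype.ext hv.symm)
  rw [e1, he]
  exact congrArg ((C.sub S hS).cls _) (Subtype.ext (Subtype.ext hz))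

variable {M : Type u} [AddCommGroup M] [Module k M] (ε : M →ₗ[k] C.X 0)
  (hε : Function.Injective ε) (h0 : LinearMap.ker (C.d 0) = LinearMap.range ε)

/-- `M → H⁰` of the quotient -/
def toH0 : M →ₗ[k] W.H 0 :=
  (W.cls 0).comp (((q 0).comp ε).codRestrict _ fun m => by
    rw [LinearMap.mem_ker, LinearMap.comp_apply, ← hq,
      show C.d 0 (ε m) = 0 from h0.ge ⟨m, rfl⟩, map_zero])

include hqs hker hε in
theorem toH0_bijective (hH0 : Subsingleton ((C.sub S hS).H 0))
    (hH1 : Subsingleton ((C.sub S hS).H 1)) : Function.Bijective (toH0 C W q hq ε h0) := by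
  refine ⟨(injective_iff_map_eq_zero _).2 fun m hm => hε ?_, fun x => ?_⟩
  · have h := (W.cls_eq_zero_iff _).1 hm
    have hm0 : ε m ∈ S 0 := by rw [← hker]; exact h
    have hd : C.d 0 (ε m) = 0 := h0.ge ⟨m, rfl⟩
    let z : LinearMap.ker ((C.sub S hS).d 0) := ⟨⟨ε m, hm0⟩, Subtype.ext hd⟩
    have hz : z = 0 := (C.sub S hS).cls_zero_injective (hH0.elim _ _)
    rw [map_zero]
    exact congrArg (fun y : LinearMap.ker ((C.sub S hS).d 0) => y.1.1) hz
  · obtain ⟨w, rfl⟩ := W.cls_surjective 0 x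
    obtain ⟨v, hv⟩ := hqs 0 w.1
    have hdv : C.d 0 v ∈ S 1 := by rw [← hker, LinearMap.mem_ker, hq, hv]; exact w.2
    obtain ⟨s, hs⟩ := (C.sub S hS).subsingleton_H_iff.1 hH1 ⟨C.d 0 v, hdv⟩ (Subtype.ext (C.dd 0 v))
    have hs' : C.d 0 s.1 = C.d 0 v := congrArg Subtype.val hs
    obtain ⟨m, hm⟩ := h0.le (show v - s.1 ∈ LinearMap.ker (C.d 0) by
      rw [LinearMap.mem_ker, map_sub, hs', sub_self])
    refine ⟨m, congrArg (W.cls 0) (Subtype.ext ?_)⟩
    change q 0 (ε m) = w.1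
    rw [hm, map_sub, show q 0 s.1 = 0 by rw [← LinearMap.mem_ker, hker]; exact s.2, sub_zero, hv]

include hε hker hqs in
theorem subsingleton_sub_H01 (hb : Function.Bijective (toH0 C W q hq ε h0))
    (h1 : Subsingleton (C.H 1)) :
    Subsingleton ((C.sub S hS).H 0) ∧ Subsingleton ((C.sub S hS).H 1) := by
  refine ⟨(C.sub S hS).subsingleton_H_iff.2 fun z hz => ?_,
    (C.sub S hS).subsingleton_H_iff.2 fun z hz => ?_⟩
  · obtain ⟨m, hm⟩ := h0.le (show z.1 ∈ LinearMap.ker (C.d 0) from congrArg Subtype.val hz)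
    have hm0 : m = 0 := hb.1 (by
      rw [map_zero]
      refine (W.cls_eq_zero_iff _).2 ?_
      change q 0 (ε m) = 0
      rw [hm, ← LinearMap.mem_ker, hker]
      exact z.2)
    subst hm0
    have hz0 : z = 0 := Subtype.ext (hm.symm.trans (map_zero ε))
    subst hz0
    exact zero_mem _
  · have hd : C.d 1 z.1 = 0 := congrArg Subtype.val hz
    obtain ⟨v, hv⟩ := C.subsingleton_H_iff.1 h1 z.1 hd
    have hw : W.d 0 (q 0 v) = 0 := by rw [← hq, hv, ← LinearMap.mem_ker, hker]; exact z.2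
    obtain ⟨m, hm⟩ := hb.2 (W.cls 0 ⟨q 0 v, hw⟩)
    have hm' : q 0 (ε m) = q 0 v := congrArg Subtype.val (W.cls_zero_injective hm)
    have hs : v - ε m ∈ S 0 := by rw [← hker, LinearMap.mem_ker, map_sub, hm', sub_self]
    refine ⟨⟨v - ε m, hs⟩, Subtype.ext ?_⟩
    change C.d 0 (v - ε m) = z.1
    rw [map_sub, show C.d 0 (ε m) = 0 from h0.ge ⟨m, rfl⟩, sub_zero, hv]

end LES

/-! ### Splittings -/

/-- a homotopy retracting the complex on its cohomology -/
theorem exists_splitting : ∃ (s : ∀ n, C.X (n + 1) →ₗ[k] C.X n), ∀ n x,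
    C.d n (s n (C.d n x)) = C.d n x := by
  have h : ∀ n, ∃ s : C.X (n + 1) →ₗ[k] C.X n, ∀ x, C.d n (s (C.d n x)) = C.d n x := by
    intro n
    obtain ⟨π, hπ⟩ := LinearMap.exists_leftInverse_of_injective (LinearMap.range (C.d n)).subtype
      (Submodule.ker_subtype _)
    obtain ⟨σ, hσ⟩ := LinearMap.exists_rightInverse_of_surjective (C.d n).rangeRestrict
      (LinearMap.range_rangeRestrict _)
    refine ⟨σ.comp π, fun x => ?_⟩
    have h1 : π (C.d n x) = ⟨C.d n x, x, rfl⟩ := LinearMap.congr_fun hπ ⟨C.d n x, x, rfl⟩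
    rw [LinearMap.comp_apply, h1]
    exact congrArg Subtype.val (LinearMap.congr_fun hσ ⟨C.d n x, x, rfl⟩)
  choose s hs using h
  exact ⟨s, hs⟩

/-- the homotopy -/
def hsp : ∀ n, C.X (n + 1) →ₗ[k] C.X n := C.exists_splitting.choose

theorem d_hsp_d (n : ℕ) (x : C.X n) : C.d n (C.hsp n (C.d n x)) = C.d n x :=
  C.exists_splitting.choose_spec n x

/-- the projection on representatives of classes -/
def prj : ∀ n, C.X n →ₗ[k] C.X n
  | 0 => LinearMap.id - (C.hsp 0).comp (C.d 0)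
  | n + 1 => LinearMap.id - (C.hsp (n + 1)).comp (C.d (n + 1)) - (C.d n).comp (C.hsp n)

theorem d_prj : ∀ n (x : C.X n), C.d n (C.prj n x) = 0
  | 0, x => by simp [prj, C.d_hsp_d]
  | n + 1, x => by simp [prj, C.d_hsp_d, C.dd]

theorem prj_d (n : ℕ) (x : C.X n) : C.prj (n + 1) (C.d n x) = 0 := by
  simp [prj, C.dd, C.d_hsp_d]

theorem prj_zero (x : C.X 0) : C.prj 0 x = x - C.hsp 0 (C.d 0 x) := rfl

theorem prj_succ (n : ℕ) (x : C.X (n + 1)) :
    C.prj (n + 1) x = x - C.hsp (n + 1) (C.d (n + 1) x) - C.d n (C.hsp n x) := rfl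

/-- the class of the projection -/
def pbar (n : ℕ) : C.X n →ₗ[k] C.H n :=
  (C.cls n).comp ((C.prj n).codRestrict _ (C.d_prj n))

theorem pbar_cocycle : ∀ {n : ℕ} (z : LinearMap.ker (C.d n)), C.pbar n z.1 = C.cls n z
  | 0, z => congrArg (C.cls 0) (Subtype.ext (by
      change C.prj 0 z.1 = z.1
      rw [prj_zero, LinearMap.mem_ker.1 z.2, map_zero, sub_zero]))
  | n + 1, z => by
      rw [← sub_eq_zero]
      refine (map_sub (C.cls (n + 1)) _ _).symm.trans ((C.cls_eq_zero_iff _).2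
        ⟨-C.hsp n z.1, ?_⟩)
      change C.d n (-C.hsp n z.1) = C.prj (n + 1) z.1 - z.1
      rw [prj_succ, LinearMap.mem_ker.1 z.2, map_zero, sub_zero, map_neg]
      abel

theorem pbar_d (n : ℕ) (x : C.X n) : C.pbar (n + 1) (C.d n x) = 0 := by
  refine (C.cls_eq_zero_iff _).2 ?_
  change C.prj (n + 1) (C.d n x) ∈ C.B (n + 1)
  rw [C.prj_d]
  exact zero_mem _

/-! ### Tensor products -/

/-- the index set of total degree `n` -/
abbrev Idx (n : ℕ) : Type := {p : ℕ × ℕ // p.1 + p.2 = n}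

noncomputable instance (n : ℕ) : Fintype (Idx n) :=
  Fintype.subtype (Finset.antidiagonal n) fun _ => Finset.mem_antidiagonal

variable (D : Cx k)

/-- the term -/
abbrev T (n : ℕ) : Type u := (p : Idx n) → (C.X p.1.1) ⊗[k] (D.X p.1.2)

/-- horizontal part -/
def hpart (n : ℕ) : ∀ p : Idx (n + 1), C.T D n →ₗ[k] (C.X p.1.1) ⊗[k] (D.X p.1.2)
  | ⟨(0, _), _⟩ => 0
  | ⟨(a + 1, b), h⟩ => (TensorProduct.map (C.d a) LinearMap.id).comp
      (LinearMap.proj (⟨(a, b), by omega⟩ : Idx n))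

/-- vertical part -/
def vpart (n : ℕ) : ∀ p : Idx (n + 1), C.T D n →ₗ[k] (C.X p.1.1) ⊗[k] (D.X p.1.2)
  | ⟨(_, 0), _⟩ => 0
  | ⟨(a, b + 1), h⟩ => (-1 : k) ^ a • (TensorProduct.map LinearMap.id (D.d b)).comp
      (LinearMap.proj (⟨(a, b), by omega⟩ : Idx n))

/-- the differential -/
def tD (n : ℕ) : C.T D n →ₗ[k] C.T D (n + 1) :=
  LinearMap.pi fun p => C.hpart D n p + C.vpart D n p

theorem tD_apply (n : ℕ) (z : C.T D n) (p : Idx (n + 1)) :
    C.tD D n z p = C.hpart D n p z + C.vpart D n p z := rfl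

theorem map_map' {U V W U' V' W' : Type u} [AddCommGroup U] [Module k U] [AddCommGroup V]
    [Module k V] [AddCommGroup W] [Module k W] [AddCommGroup U'] [Module k U'] [AddCommGroup V']
    [Module k V'] [AddCommGroup W'] [Module k W'] (f : V →ₗ[k] W) (f' : V' →ₗ[k] W')
    (g : U →ₗ[k] V) (g' : U' →ₗ[k] V') (x : U ⊗[k] U') :
    TensorProduct.map f f' (TensorProduct.map g g' x) = TensorProduct.map (f.comp g) (f'.comp g') x := by
  rw [TensorProduct.map_comp]; rfl

theorem d_comp_d (n : ℕ) : (C.d (n + 1)).comp (C.d n) = 0 := LinearMap.ext (C.dd n)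

theorem tD_tD (n : ℕ) (z : C.T D n) : C.tD D (n + 1) (C.tD D n z) = 0 := by
  funext p
  change C.tD D (n + 1) (C.tD D n z) p = 0
  obtain ⟨⟨a, b⟩, h⟩ := p
  rcases a with - | a <;> rcases b with - | b
  · exact absurd h (by dsimp only; omega)
  · rcases b with - | b
    · exact absurd h (by dsimp only; omega)
    · simp [tD_apply, hpart, vpart, map_map', d_comp_d]
  · rcases a with - | a
    · exact absurd h (by dsimp only; omega)
    · simp [tD_apply, hpart, vpart, map_map', d_comp_d]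
  · rcases a with - | a <;> rcases b with - | b <;>
      simp [tD_apply, hpart, vpart, map_map', d_comp_d, pow_succ, LinearMap.comp_id, LinearMap.id_comp]

/-- tensor product -/
abbrev tens : Cx k where
  X n := ModuleCat.of k (C.T D n)
  d := C.tD D
  dd := C.tD_tD D

/-- the homotopy -/
def th (n : ℕ) : C.T D (n + 1) →ₗ[k] C.T D n :=
  LinearMap.pi fun p =>
    (TensorProduct.map (C.hsp p.1.1) LinearMap.id).comp
      (LinearMap.proj (⟨(p.1.1 + 1, p.1.2), by have := p.2; omega⟩ : Idx (n + 1))) +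
    (-1 : k) ^ p.1.1 • (TensorProduct.map (C.prj p.1.1) (D.hsp p.1.2)).comp
      (LinearMap.proj (⟨(p.1.1, p.1.2 + 1), by have := p.2; omega⟩ : Idx (n + 1)))

/-- the projection -/
def tp (n : ℕ) : C.T D n →ₗ[k] C.T D n :=
  LinearMap.pi fun p => (TensorProduct.map (C.prj p.1.1) (D.prj p.1.2)).comp (LinearMap.proj p)

theorem tp_apply (n : ℕ) (z : C.T D n) (p : Idx n) :
    C.tp D n z p = TensorProduct.map (C.prj p.1.1) (D.prj p.1.2) (z p) := rfl

theorem th_apply (n : ℕ) (z : C.T D (n + 1)) (a b : ℕ) (h : a + b = n) :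
    C.th D n z ⟨(a, b), h⟩ =
      TensorProduct.map (C.hsp a) LinearMap.id (z ⟨(a + 1, b), by omega⟩) +
      (-1 : k) ^ a • TensorProduct.map (C.prj a) (D.hsp b) (z ⟨(a, b + 1), by omega⟩) := rfl

theorem d_comp_prj (n : ℕ) : (C.d n).comp (C.prj n) = 0 := LinearMap.ext (C.d_prj n)

theorem prj_comp_d (n : ℕ) : (C.prj (n + 1)).comp (C.d n) = 0 := LinearMap.ext (C.prj_d n)

theorem map_split {U V : Type u} [AddCommGroup U] [Module k U] [AddCommGroup V] [Module k V]
    {f a : U →ₗ[k] U} {g b : V →ₗ[k] V} (ha : a + f = LinearMap.id) (hb : b + g = LinearMap.id)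
    (x : U ⊗[k] V) :
    x = TensorProduct.map f g x + TensorProduct.map a LinearMap.id x + TensorProduct.map f b x := by
  have h : TensorProduct.map (LinearMap.id : U →ₗ[k] U) (LinearMap.id : V →ₗ[k] V) x =
      TensorProduct.map f g x + TensorProduct.map a LinearMap.id x + TensorProduct.map f b x := by
    conv_lhs => rw [← ha, TensorProduct.map_add_left, LinearMap.add_apply]
    conv_lhs => arg 2; rw [← hb, TensorProduct.map_add_right, LinearMap.add_apply]
    abel
  rw [TensorProduct.map_id] at h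
  exact h

theorem split_zero : (C.hsp 0).comp (C.d 0) + C.prj 0 = LinearMap.id := add_sub_cancel _ _

theorem split_succ (n : ℕ) :
    ((C.hsp (n + 1)).comp (C.d (n + 1)) + (C.d n).comp (C.hsp n)) + C.prj (n + 1) = LinearMap.id := by
  rw [prj]; abel

theorem homotopy_zero (z : C.T D 0) : z = C.tp D 0 z + C.th D 0 (C.tD D 0 z) := by
  funext p
  obtain ⟨⟨a, b⟩, h⟩ := p
  obtain ⟨rfl, rfl⟩ : a = 0 ∧ b = 0 := by dsimp only at h; omega
  rw [Pi.add_apply, tp_apply, th_apply]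
  simp only [tD_apply, hpart, vpart, LinearMap.comp_apply, LinearMap.proj_apply, map_add, map_map',
    LinearMap.zero_apply, add_zero, zero_add, pow_zero, one_smul, LinearMap.comp_id, LinearMap.id_comp]
  rw [← add_assoc]
  exact map_split (C.split_zero) (D.split_zero) _

theorem homotopy_succ (n : ℕ) (z : C.T D (n + 1)) :
    z = C.tp D (n + 1) z + C.tD D n (C.th D n z) + C.th D (n + 1) (C.tD D (n + 1) z) := by
  funext p
  obtain ⟨⟨a, b⟩, h⟩ := p
  rw [Pi.add_apply, Pi.add_apply, tp_apply, tD_apply, th_apply]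
  rcases a with - | a
  · rcases b with - | b
    · exact absurd h (by dsimp only; omega)
    simp only [hpart, vpart, tD_apply, th_apply, LinearMap.smul_apply, LinearMap.comp_apply,
      LinearMap.proj_apply, map_add, map_map', LinearMap.zero_apply, zero_add, pow_zero, pow_one,
      one_smul, LinearMap.comp_id, LinearMap.id_comp, map_smul, neg_smul, map_neg]
    conv_lhs => rw [map_split (C.split_zero) (D.split_succ b) (z ⟨(0, b + 1), h⟩)]
    rw [TensorProduct.map_add_right, LinearMap.add_apply]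
    abel
  · rcases b with - | b
    · simp only [hpart, vpart, tD_apply, th_apply, LinearMap.comp_apply, LinearMap.proj_apply, map_add,
        map_map', LinearMap.zero_apply, LinearMap.smul_apply, add_zero, zero_add, one_smul, LinearMap.comp_id,
        LinearMap.id_comp, map_smul, d_comp_prj, prj_comp_d, TensorProduct.map_zero_left, smul_zero,
        smul_smul, ← mul_pow, neg_mul, mul_neg, mul_one, neg_neg, one_pow]
      conv_lhs => rw [map_split (C.split_succ a) (D.split_zero) (z ⟨(a + 1, 0), h⟩)]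
      rw [TensorProduct.map_add_left, LinearMap.add_apply]
      match_scalars <;> simp [pow_succ, ← mul_pow]
    · simp only [hpart, vpart, tD_apply, th_apply, LinearMap.comp_apply, LinearMap.proj_apply, map_add,
        map_map', LinearMap.zero_apply, LinearMap.smul_apply, add_zero, zero_add, one_smul, LinearMap.comp_id,
        LinearMap.id_comp, map_smul, d_comp_prj, prj_comp_d, TensorProduct.map_zero_left, smul_zero,
        smul_smul, ← mul_pow, neg_mul, mul_neg, mul_one, neg_neg, one_pow]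
      conv_lhs => rw [map_split (C.split_succ a) (D.split_succ b) (z ⟨(a + 1, b + 1), h⟩)]
      rw [TensorProduct.map_add_left, LinearMap.add_apply, TensorProduct.map_add_right, LinearMap.add_apply]
      match_scalars <;> simp [pow_succ, ← mul_pow]

/-! ### Künneth -/

theorem sub_tp_mem_B : ∀ {n : ℕ} (z : C.T D n), C.tD D n z = 0 → z - C.tp D n z ∈ (C.tens D).B n
  | 0, z, hz => by
    have h := C.homotopy_zero D z
    rw [hz, map_zero, add_zero] at h
    rw [← h, sub_self]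
    exact zero_mem _
  | n + 1, z, hz => by
    have h := C.homotopy_succ D n z
    rw [hz, map_zero, add_zero] at h
    exact ⟨C.th D n z, (sub_eq_of_eq_add' h).symm⟩

theorem tD_eq_zero {n : ℕ} (z : C.T D n)
    (hl : ∀ p : Idx n, TensorProduct.map (C.d p.1.1) LinearMap.id (z p) = 0)
    (hr : ∀ p : Idx n, TensorProduct.map LinearMap.id (D.d p.1.2) (z p) = 0) : C.tD D n z = 0 := by
  funext p
  obtain ⟨⟨a, b⟩, h⟩ := p
  have e1 : ∀ q, C.hpart D n q z = 0 := by
    rintro ⟨⟨a, b⟩, h⟩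
    rcases a with - | a
    · rfl
    · exact hl ⟨(a, b), by dsimp only at h; omega⟩
  have e2 : ∀ q, C.vpart D n q z = 0 := by
    rintro ⟨⟨a, b⟩, h⟩
    rcases b with - | b
    · rfl
    · change (-1 : k) ^ a • TensorProduct.map LinearMap.id (D.d b) (z ⟨(a, b), _⟩) = 0
      rw [show TensorProduct.map LinearMap.id (D.d b) (z ⟨(a, b), _⟩) = 0 from
        hr ⟨(a, b), by dsimp only at h; omega⟩, smul_zero]
  rw [tD_apply, e1, e2, add_zero]
  rfl

theorem tD_tp (n : ℕ) (z : C.T D n) : C.tD D n (C.tp D n z) = 0 := by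
  refine C.tD_eq_zero D _ (fun p => ?_) (fun p => ?_) <;>
    simp [tp_apply, map_map', d_comp_prj]

/-- representatives -/
def rep (n : ℕ) : C.H n →ₗ[k] C.X n :=
  Submodule.liftQ _ ((C.prj n).comp (LinearMap.ker (C.d n)).subtype) fun z hz => by
    rw [LinearMap.mem_ker, LinearMap.comp_apply]
    rcases n with - | n
    · rw [show (LinearMap.ker (C.d 0)).subtype z = 0 from hz, map_zero]
    · obtain ⟨x, hx⟩ := hz
      rw [← hx, C.prj_d]

theorem rep_cls {n : ℕ} (z : LinearMap.ker (C.d n)) : C.rep n (C.cls n z) = C.prj n z.1 := rfl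

theorem pbar_comp_rep (n : ℕ) : (C.pbar n).comp (C.rep n) = LinearMap.id := by
  refine LinearMap.ext fun x => ?_
  obtain ⟨z, rfl⟩ := C.cls_surjective n x
  rw [LinearMap.comp_apply, rep_cls, C.pbar_cocycle ⟨_, C.d_prj n z.1⟩, LinearMap.id_apply]
  exact C.pbar_cocycle z

theorem prj_comp_prj (n : ℕ) : (C.prj n).comp (C.prj n) = (C.rep n).comp (C.pbar n) := rfl

theorem d_comp_rep (n : ℕ) : (C.d n).comp (C.rep n) = 0 := by
  refine LinearMap.ext fun x => ?_
  obtain ⟨z, rfl⟩ := C.cls_surjective n x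
  exact C.d_prj n z.1

/-- the Künneth map on cochains -/
def kP (n : ℕ) : C.T D n →ₗ[k] ((p : Idx n) → C.H p.1.1 ⊗[k] D.H p.1.2) :=
  LinearMap.pi fun p => (TensorProduct.map (C.pbar p.1.1) (D.pbar p.1.2)).comp (LinearMap.proj p)

theorem pbar_comp_d (n : ℕ) : (C.pbar (n + 1)).comp (C.d n) = 0 := LinearMap.ext (C.pbar_d n)

theorem kP_apply (n : ℕ) (z : C.T D n) (p : Idx n) :
    C.kP D n z p = TensorProduct.map (C.pbar p.1.1) (D.pbar p.1.2) (z p) := rfl

theorem kP_tD (n : ℕ) (z : C.T D n) : C.kP D (n + 1) (C.tD D n z) = 0 := by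
  funext p
  obtain ⟨⟨a, b⟩, h⟩ := p
  rcases a with - | a <;> rcases b with - | b <;>
    simp [kP_apply, tD_apply, hpart, vpart, map_map', pbar_comp_d]

theorem kP_vanish_B {n : ℕ} : ∀ z ∈ (C.tens D).B n, C.kP D n z = 0 := by
  intro z hz
  rcases n with - | n
  · rw [(Submodule.mem_bot k).1 hz, map_zero]
  · obtain ⟨x, rfl⟩ := hz
    exact C.kP_tD D n x

/-- the Künneth map -/
def kH (n : ℕ) : (C.tens D).H n →ₗ[k] ((p : Idx n) → C.H p.1.1 ⊗[k] D.H p.1.2) :=
  (C.tens D).descH (n := n) (V := (p : Idx n) → C.H p.1.1 ⊗[k] D.H p.1.2) (C.kP D n)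
    fun z hz => C.kP_vanish_B D z hz

theorem kH_cls {n : ℕ} (z : LinearMap.ker (C.tD D n)) : C.kH D n ((C.tens D).cls n z) = C.kP D n z.1 :=
  (C.tens D).descH_cls _ _ z

theorem tp_tp_eq_zero {n : ℕ} (z : C.T D n) (h : C.kP D n z = 0) : C.tp D n (C.tp D n z) = 0 := by
  funext p
  rw [tp_apply, tp_apply, map_map', prj_comp_prj, prj_comp_prj, ← map_map']
  have := congrFun h p
  rw [kP_apply] at this
  exact (congrArg _ this).trans (map_zero _)

theorem mem_B_of_kP {n : ℕ} (z : C.T D n) (hz : C.tD D n z = 0) (h : C.kP D n z = 0) :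
    z ∈ (C.tens D).B n := by
  have h1 := C.sub_tp_mem_B D z hz
  have h2 := C.sub_tp_mem_B D (C.tp D n z) (C.tD_tp D n z)
  rw [C.tp_tp_eq_zero D z h, sub_zero] at h2
  have h4 := add_mem h1 h2
  rwa [sub_add_cancel] at h4

theorem kH_injective (n : ℕ) : Function.Injective (C.kH D n) :=
  (injective_iff_map_eq_zero (C.kH D n)).2 fun x hx => by
    obtain ⟨z, rfl⟩ := (C.tens D).cls_surjective n x
    exact ((C.tens D).cls_eq_zero_iff z).2 (C.mem_B_of_kP D z.1 z.2 ((C.kH_cls D z).symm.trans hx))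

/-- tensor product of representatives -/
def trep (n : ℕ) (y : (p : Idx n) → C.H p.1.1 ⊗[k] D.H p.1.2) : C.T D n :=
  fun p => TensorProduct.map (C.rep p.1.1) (D.rep p.1.2) (y p)

theorem trep_apply (n : ℕ) (y : (p : Idx n) → C.H p.1.1 ⊗[k] D.H p.1.2) (p : Idx n) :
    C.trep D n y p = TensorProduct.map (C.rep p.1.1) (D.rep p.1.2) (y p) := rfl

theorem tD_trep (n : ℕ) (y : (p : Idx n) → C.H p.1.1 ⊗[k] D.H p.1.2) :
    C.tD D n (C.trep D n y) = 0 := by
  refine C.tD_eq_zero D _ (fun p => ?_) (fun p => ?_) <;> simp [trep_apply, map_map', d_comp_rep]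

theorem kP_trep (n : ℕ) (y : (p : Idx n) → C.H p.1.1 ⊗[k] D.H p.1.2) :
    C.kP D n (C.trep D n y) = y := by
  funext p
  rw [kP_apply, trep_apply, map_map', pbar_comp_rep, pbar_comp_rep, TensorProduct.map_id]
  rfl

theorem kH_surjective (n : ℕ) : Function.Surjective (C.kH D n) := fun y =>
  ⟨(C.tens D).cls n ⟨C.trep D n y, C.tD_trep D n y⟩,
    (C.kH_cls D ⟨C.trep D n y, C.tD_trep D n y⟩).trans (C.kP_trep D n y)⟩

/-- Künneth -/
theorem exists_kunneth (n : ℕ) :
    ∃ e : (C.tens D).H n ≃ₗ[k] ((p : Idx n) → C.H p.1.1 ⊗[k] D.H p.1.2),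
      ∀ z : LinearMap.ker (C.tD D n), e ((C.tens D).cls n z) = C.kP D n z.1 :=
  ⟨LinearEquiv.ofBijective (C.kH D n) ⟨C.kH_injective D n, C.kH_surjective D n⟩, fun z => C.kH_cls D z⟩

theorem subsingleton_tens (n : ℕ) (h : ∀ p : Idx n, Subsingleton (C.H p.1.1) ∨ Subsingleton (D.H p.1.2)) :
    Subsingleton ((C.tens D).H n) := by
  obtain ⟨e, -⟩ := C.exists_kunneth D n
  haveI : ∀ p : Idx n, Subsingleton (C.H p.1.1 ⊗[k] D.H p.1.2) := fun p => by
    refine subsingleton_of_forall_eq 0 fun x => ?_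
    induction x using TensorProduct.induction_on with
    | zero => rfl
    | add a b ha hb => rw [ha, hb, add_zero]
    | tmul a b =>
      rcases h p with hs | hs
      · rw [hs.elim a 0, TensorProduct.zero_tmul]
      · rw [hs.elim b 0, TensorProduct.tmul_zero]
  exact e.toEquiv.subsingleton

theorem finrank_tens (n : ℕ) (hC : ∀ i ≤ n, Module.Finite k (C.H i))
    (hD : ∀ i ≤ n, Module.Finite k (D.H i)) :
    Module.finrank k ((C.tens D).H n) = (Finset.range (n + 1)).sum fun i =>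
      Module.finrank k (C.H i) * Module.finrank k (D.H (n - i)) := by
  obtain ⟨e, -⟩ := C.exists_kunneth D n
  haveI : ∀ p : Idx n, Module.Finite k (C.H p.1.1) := fun p => hC _ (by have := p.2; omega)
  haveI : ∀ p : Idx n, Module.Finite k (D.H p.1.2) := fun p => hD _ (by have := p.2; omega)
  rw [e.finrank_eq, Module.finrank_pi_fintype k,
    ← Finset.Nat.sum_antidiagonal_eq_sum_range_succ
      (fun i j => Module.finrank k (C.H i) * Module.finrank k (D.H j)) n,
    Finset.sum_subtype (Finset.antidiagonal n) (p := fun x : ℕ × ℕ => x.1 + x.2 = n)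
      (fun _ => Finset.mem_antidiagonal) fun x : ℕ × ℕ =>
        Module.finrank k (C.H x.1) * Module.finrank k (D.H x.2)]
  exact Finset.sum_congr rfl fun p _ => Module.finrank_tensorProduct

end Cx

/-- A complex exact in positive degrees with a subcomplex. -/
structure Pair (k : Type u) [Field k] : Type (u + 1) where
  /-- the complex -/
  C : Cx k
  /-- the subcomplex -/
  S : ∀ n, Submodule k (C.X n)
  hS : ∀ n, ∀ x ∈ S n, C.d n x ∈ S (n + 1)
  /-- degree-zero cohomology -/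
  M : ModuleCat.{u} k
  /-- augmentation -/
  ε : M →ₗ[k] C.X 0
  hε : Function.Injective ε
  h0 : LinearMap.ker (C.d 0) = LinearMap.range ε
  hex : ∀ n, Subsingleton (C.H (n + 1))

namespace Pair

variable (P P' : Pair k)

/-- the subcomplex -/
abbrev A : Cx k := P.C.sub P.S P.hS

/-- the quotient complex -/
abbrev Q : Cx k := P.C.quo P.S P.hS

theorem connecting (n : ℕ) : ∃ e : P.Q.H (n + 1) ≃ₗ[k] P.A.H (n + 2),
    ∀ (w : LinearMap.ker (P.Q.d (n + 1))) (v : P.C.X (n + 1)) (z : LinearMap.ker (P.A.d (n + 2))),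
      (P.S (n + 1)).mkQ v = w.1 → P.C.d (n + 1) v = z.1.1 → e (P.Q.cls _ w) = P.A.cls _ z :=
  P.C.exists_connecting P.hS P.Q (fun n => (P.S n).mkQ) (fun _ _ => rfl)
    (fun n => (P.S n).mkQ_surjective) (fun n => (P.S n).ker_mkQ) n (P.hex n) (P.hex (n + 1))

/-- `M → H⁰` of the quotient -/
def toQ0 : P.M →ₗ[k] P.Q.H 0 :=
  Cx.toH0 P.C P.Q (fun n => (P.S n).mkQ) (fun _ _ => rfl) P.ε P.h0

theorem toQ0_bijective (h0 : Subsingleton (P.A.H 0)) (h1 : Subsingleton (P.A.H 1)) :
    Function.Bijective P.toQ0 :=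
  P.C.toH0_bijective P.hS P.Q (fun n => (P.S n).mkQ) (fun _ _ => rfl)
    (fun n => (P.S n).mkQ_surjective) (fun n => (P.S n).ker_mkQ) P.ε P.hε P.h0 h0 h1

/-- the quotient map of the tensor product -/
def tq (n : ℕ) : P.C.T P'.C n →ₗ[k] P.Q.T P'.Q n :=
  LinearMap.pi fun p => (TensorProduct.map (P.S p.1.1).mkQ (P'.S p.1.2).mkQ).comp (LinearMap.proj p)

theorem tq_apply (n : ℕ) (z : P.C.T P'.C n) (p : Cx.Idx n) :
    P.tq P' n z p = TensorProduct.map (P.S p.1.1).mkQ (P'.S p.1.2).mkQ (z p) := rfl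

theorem tq_surjective (n : ℕ) : Function.Surjective (P.tq P' n) := by
  intro y
  choose x hx using fun p : Cx.Idx n =>
    TensorProduct.map_surjective (P.S p.1.1).mkQ_surjective (P'.S p.1.2).mkQ_surjective (y p)
  exact ⟨x, funext hx⟩

theorem tq_tD (n : ℕ) (z : P.C.T P'.C n) :
    P.tq P' (n + 1) (P.C.tD P'.C n z) = P.Q.tD P'.Q n (P.tq P' n z) := by
  have e : ∀ (S : Pair k) (a : ℕ), (S.S (a + 1)).mkQ.comp (S.C.d a) = (S.Q.d a).comp (S.S a).mkQ :=
    fun _ _ => rfl
  funext p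
  obtain ⟨⟨a, b⟩, h⟩ := p
  rw [tq_apply, Cx.tD_apply, Cx.tD_apply, map_add]
  congr 1
  · rcases a with - | a
    · simp [Cx.hpart]
    · simp [Cx.hpart, tq_apply, Cx.map_map', e]
  · rcases b with - | b
    · simp [Cx.vpart]
    · simp [Cx.vpart, tq_apply, Cx.map_map', e]

theorem mem_ker_tq_iff (n : ℕ) (z : P.C.T P'.C n) :
    z ∈ LinearMap.ker (P.tq P' n) ↔ ∀ p : Cx.Idx n, z p ∈
      LinearMap.range (LinearMap.lTensor (P.C.X p.1.1) (P'.S p.1.2).subtype) ⊔
        LinearMap.range (LinearMap.rTensor (P'.C.X p.1.2) (P.S p.1.1).subtype) := by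
  rw [LinearMap.mem_ker]
  refine ⟨fun h p => ?_, fun h => funext fun p => ?_⟩
  · rw [← TensorProduct.map_ker (LinearMap.exact_subtype_mkQ (P.S p.1.1)) (P.S p.1.1).mkQ_surjective
      (LinearMap.exact_subtype_mkQ (P'.S p.1.2)) (P'.S p.1.2).mkQ_surjective]
    exact congrFun h p
  · have := h p
    rw [← TensorProduct.map_ker (LinearMap.exact_subtype_mkQ (P.S p.1.1)) (P.S p.1.1).mkQ_surjective
      (LinearMap.exact_subtype_mkQ (P'.S p.1.2)) (P'.S p.1.2).mkQ_surjective] at this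
    exact this

theorem range_prj_le : LinearMap.range (P.C.prj 0) ≤ LinearMap.range P.ε := by
  rintro _ ⟨x, rfl⟩
  exact P.h0.le (P.C.d_prj 0 x)

/-- the only index of total degree zero -/
def i00 : Cx.Idx 0 := ⟨(0, 0), rfl⟩

/-- the augmentation of the tensor product -/
def tε : P.M ⊗[k] P'.M →ₗ[k] P.C.T P'.C 0 :=
  LinearMap.pi fun p => match p with
    | ⟨(0, 0), _⟩ => TensorProduct.map P.ε P'.ε
    | ⟨(_ + 1, _), _⟩ => 0
    | ⟨(0, _ + 1), _⟩ => 0

theorem tε_apply (y : P.M ⊗[k] P'.M) : P.tε P' y i00 = TensorProduct.map P.ε P'.ε y := rfl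

/-- tensor product of pairs -/
abbrev tens : Pair k where
  C := P.C.tens P'.C
  S n := LinearMap.ker (P.tq P' n)
  hS n x hx := by
    rw [LinearMap.mem_ker] at hx ⊢
    refine (P.tq_tD P' n x).trans ?_
    rw [hx, map_zero]
  M := ModuleCat.of k (P.M ⊗[k] P'.M)
  ε := P.tε P'
  hε := fun x y h => TensorProduct.map_injective_of_flat_flat P.ε P'.ε P.hε P'.hε (congrFun h i00)
  h0 := by
    refine le_antisymm (fun z hz => ?_) ?_
    · have h := P.C.homotopy_zero P'.C z
      rw [LinearMap.mem_ker] at hz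
      rw [show P.C.tD P'.C 0 z = 0 from hz, map_zero, add_zero] at h
      obtain ⟨u, hu⟩ : P.C.tp P'.C 0 z i00 ∈ LinearMap.range (TensorProduct.map P.ε P'.ε) := by
        rw [Cx.tp_apply]
        generalize z i00 = v
        induction v using TensorProduct.induction_on with
        | zero => rw [map_zero]; exact zero_mem _
        | add a b ha hb => rw [map_add]; exact add_mem ha hb
        | tmul a b =>
          obtain ⟨x, hx⟩ := P.range_prj_le ⟨a, rfl⟩
          obtain ⟨y, hy⟩ := P'.range_prj_le ⟨b, rfl⟩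
          exact ⟨x ⊗ₜ y, by rw [TensorProduct.map_tmul, TensorProduct.map_tmul, hx, hy]; rfl⟩
      refine ⟨u, funext fun p => ?_⟩
      obtain ⟨⟨a, b⟩, hab⟩ := p
      obtain ⟨rfl, rfl⟩ : a = 0 ∧ b = 0 := by dsimp only at hab; omega
      exact hu.trans (congrFun h i00).symm
    · rintro _ ⟨u, rfl⟩
      refine P.C.tD_eq_zero P'.C _ (fun p => ?_) (fun p => ?_) <;> obtain ⟨⟨a, b⟩, hab⟩ := p <;>
        obtain ⟨rfl, rfl⟩ : a = 0 ∧ b = 0 := (by dsimp only at hab; omega) <;>
        change TensorProduct.map _ _ (TensorProduct.map P.ε P'.ε u) = 0 <;>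
        rw [Cx.map_map']
      · rw [show (P.C.d 0).comp P.ε = 0 from LinearMap.ext fun m => P.h0.ge ⟨m, rfl⟩,
          TensorProduct.map_zero_left]
        rfl
      · rw [show (P'.C.d 0).comp P'.ε = 0 from LinearMap.ext fun m => P'.h0.ge ⟨m, rfl⟩,
          TensorProduct.map_zero_right]
        rfl
  hex n := P.C.subsingleton_tens P'.C (n + 1) fun p => by
    obtain ⟨⟨a, b⟩, h⟩ := p
    rcases a with - | a
    · obtain rfl : b = n + 1 := by dsimp only at h; omega
      exact Or.inr (P'.hex n)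
    · exact Or.inl (P.hex a)

theorem tens_connecting (n : ℕ) : ∃ e : (P.Q.tens P'.Q).H (n + 1) ≃ₗ[k] (P.tens P').A.H (n + 2),
    ∀ (w : LinearMap.ker ((P.Q.tens P'.Q).d (n + 1))) (v : P.C.T P'.C (n + 1))
      (z : LinearMap.ker ((P.tens P').A.d (n + 2))),
      P.tq P' (n + 1) v = w.1 → P.C.tD P'.C (n + 1) v = z.1.1 →
        e ((P.Q.tens P'.Q).cls _ w) = (P.tens P').A.cls _ z :=
  (P.tens P').C.exists_connecting (P.tens P').hS (P.Q.tens P'.Q) (P.tq P') (P.tq_tD P')
    (P.tq_surjective P') (fun _ => rfl) n ((P.tens P').hex n) ((P.tens P').hex (n + 1))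

theorem finrank_Q_succ (n : ℕ) : Module.finrank k (P.Q.H (n + 1)) = Module.finrank k (P.A.H (n + 2)) :=
  let ⟨e, _⟩ := P.connecting n; e.finrank_eq

theorem subsingleton_tens_A01 (hP0 : Subsingleton (P.A.H 0)) (hP1 : Subsingleton (P.A.H 1))
    (hP'0 : Subsingleton (P'.A.H 0)) (hP'1 : Subsingleton (P'.A.H 1)) :
    Subsingleton ((P.tens P').A.H 0) ∧ Subsingleton ((P.tens P').A.H 1) := by
  refine (P.tens P').C.subsingleton_sub_H01 (P.tens P').hS (P.Q.tens P'.Q) (P.tq P') (P.tq_tD P')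
    (P.tq_surjective P') (fun _ => rfl) (P.tens P').ε (P.tens P').hε (P.tens P').h0 ?_
    ((P.tens P').hex 0)
  obtain ⟨e, he⟩ := P.Q.exists_kunneth P'.Q 0
  let g := LinearEquiv.ofBijective _ (P.toQ0_bijective hP0 hP1)
  let g' := LinearEquiv.ofBijective _ (P'.toQ0_bijective hP'0 hP'1)
  let ev : ((p : Cx.Idx 0) → P.Q.H p.1.1 ⊗[k] P'.Q.H p.1.2) →ₗ[k] P.Q.H 0 ⊗[k] P'.Q.H 0 :=
    LinearMap.proj i00
  have hev : Function.Bijective ev := by
    refine ⟨fun x y h => funext fun p => ?_, fun x => ⟨fun p => ?_, ?_⟩⟩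
    · obtain ⟨⟨a, b⟩, hab⟩ := p
      obtain ⟨rfl, rfl⟩ : a = 0 ∧ b = 0 := by dsimp only at hab; omega
      exact h
    · exact match p with
        | ⟨(0, 0), _⟩ => x
        | ⟨(_ + 1, _), _⟩ => 0
        | ⟨(0, _ + 1), _⟩ => 0
    · rfl
  have key : ∀ y, ev (e (Cx.toH0 (P.tens P').C (P.Q.tens P'.Q) (P.tq P') (P.tq_tD P')
      (P.tens P').ε (P.tens P').h0 y)) = TensorProduct.congr g g' y := by
    intro y
    refine (congrArg ev (he _)).trans ?_
    change TensorProduct.map (P.Q.pbar 0) (P'.Q.pbar 0)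
      (TensorProduct.map (P.S 0).mkQ (P'.S 0).mkQ (TensorProduct.map P.ε P'.ε y)) = _
    rw [Cx.map_map', Cx.map_map']
    refine LinearMap.congr_fun (f := TensorProduct.map _ _) (g := TensorProduct.map _ _) ?_ y
    have hp : ∀ S : Pair k, ((S.Q.pbar 0).comp (S.S 0).mkQ).comp S.ε = S.toQ0 := fun S =>
      LinearMap.ext fun m => S.Q.pbar_cocycle ⟨(S.S 0).mkQ (S.ε m), by
        rw [LinearMap.mem_ker]
        change Submodule.Quotient.mk (S.C.d 0 (S.ε m)) = 0
        rw [show S.C.d 0 (S.ε m) = 0 from S.h0.ge ⟨m, rfl⟩, Submodule.Quotient.mk_zero]⟩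
    rw [hp, hp]
    rfl
  refine ((hev.comp e.bijective).of_comp_iff' _).1 ?_
  have hfun : (ev ∘ e) ∘ (Cx.toH0 (P.tens P').C (P.Q.tens P'.Q) (P.tq P') (P.tq_tD P')
      (P.tens P').ε (P.tens P').h0) = TensorProduct.congr g g' := funext key
  rw [hfun]
  exact (TensorProduct.congr g g').bijective

set_option maxHeartbeats 1000000 in
/-- dimensions of the cohomology of the tensor product of two pairs -/
theorem finrank_tens_A (hP0 : Subsingleton (P.A.H 0)) (hP1 : Subsingleton (P.A.H 1))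
    (hP'0 : Subsingleton (P'.A.H 0)) (hP'1 : Subsingleton (P'.A.H 1))
    [Module.Finite k P.M] [Module.Finite k P'.M]
    (hf : ∀ i, Module.Finite k (P.A.H i)) (hf' : ∀ i, Module.Finite k (P'.A.H i)) (n : ℕ) :
    Module.finrank k ((P.tens P').A.H n) =
      Module.finrank k P.M * Module.finrank k (P'.A.H n) +
      Module.finrank k (P.A.H n) * Module.finrank k P'.M +
      (Finset.range (n + 2)).sum fun i =>
        Module.finrank k (P.A.H i) * Module.finrank k (P'.A.H (n + 1 - i)) := by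
  have z0 : ∀ S : Pair k, Subsingleton (S.A.H 0) → Module.finrank k (S.A.H 0) = 0 :=
    fun S h => @Module.finrank_zero_of_subsingleton k _ _ _ _ _ h
  have z1 : ∀ S : Pair k, Subsingleton (S.A.H 1) → Module.finrank k (S.A.H 1) = 0 :=
    fun S h => @Module.finrank_zero_of_subsingleton k _ _ _ _ _ h
  obtain ⟨h01, h11⟩ := P.subsingleton_tens_A01 P' hP0 hP1 hP'0 hP'1
  rcases n with - | - | n
  · rw [z0 _ h01]; simp [Finset.sum_range_succ, z0 P hP0, z0 P' hP'0, z1 P hP1]
  · rw [z1 _ h11]; simp [Finset.sum_range_succ, z0 P hP0, z1 P' hP'1, z1 P hP1, z0 P' hP'0]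
  let g := LinearEquiv.ofBijective _ (P.toQ0_bijective hP0 hP1)
  let g' := LinearEquiv.ofBijective _ (P'.toQ0_bijective hP'0 hP'1)
  have hQ : ∀ (S : Pair k), Module.Finite k (S.Q.H 0) → (∀ i, Module.Finite k (S.A.H i)) →
      ∀ i, Module.Finite k (S.Q.H i) := fun S h h' i => by
    rcases i with - | i
    · exact h
    · obtain ⟨e, -⟩ := S.connecting i
      haveI := h' (i + 2)
      exact Module.Finite.equiv e.symm
  obtain ⟨e, -⟩ := P.tens_connecting P' n
  rw [← e.finrank_eq, P.Q.finrank_tens P'.Q (n + 1) (fun i _ => hQ P (Module.Finite.equiv g) hf i)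
    (fun i _ => hQ P' (Module.Finite.equiv g') hf' i)]
  rw [Finset.sum_range_succ _ (n + 1), Finset.sum_range_succ']
  rw [Finset.sum_range_succ _ (n + 3), Finset.sum_range_succ _ (n + 2), Finset.sum_range_succ',
    Finset.sum_range_succ']
  simp only [Nat.sub_self, Nat.sub_zero, P.finrank_Q_succ, z0 P hP0, z1 P hP1, z0 P' hP'0,
    z1 P' hP'1, ← g.finrank_eq, ← g'.finrank_eq, zero_mul, mul_zero, add_zero, P'.finrank_Q_succ,
    show n + 2 + 1 - (n + 2) = 1 by omega, zero_add]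
  have hsum : (Finset.range n).sum (fun i =>
      Module.finrank k (P.A.H (i + 2)) * Module.finrank k (P'.Q.H (n + 1 - (i + 1)))) =
      (Finset.range n).sum fun i =>
      Module.finrank k (P.A.H (i + 2)) * Module.finrank k (P'.A.H (n + 2 + 1 - (i + 1 + 1))) := by
    refine Finset.sum_congr rfl fun i hi => ?_
    have hi := Finset.mem_range.1 hi
    rw [show n + 1 - (i + 1) = (n - i - 1) + 1 by omega, P'.finrank_Q_succ,
      show n + 2 + 1 - (i + 1 + 1) = n - i - 1 + 2 by omega]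
  rw [hsum]
  have hg' := g'.finrank_eq
  rw [show n + 1 - (n + 1) = 0 by omega]
  rw [← hg']
  have e1 : ∀ j, j = 1 → Module.finrank k (P'.A.H j) = 0 := fun j h => h ▸ z1 P' hP'1
  have e0 : ∀ j, j = 0 → Module.finrank k (P'.A.H j) = 0 := fun j h => h ▸ z0 P' hP'0
  rw [e1 (n + 1 + 1 + 1 - (n + 2)) (by omega), e0 (n + 1 + 1 + 1 - (n + 3)) (by omega)]
  ring

set_option maxHeartbeats 1000000 in
/-- top degree -/
theorem exists_top (a b : ℕ) (hP : ∀ i, a + 2 < i → Subsingleton (P.A.H i))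
    (hP' : ∀ i, b + 2 < i → Subsingleton (P'.A.H i)) :
    ∃ e : P.A.H (a + 2) ⊗[k] P'.A.H (b + 2) ≃ₗ[k] (P.tens P').A.H (a + b + 3),
      ∀ (z : LinearMap.ker (P.A.d (a + 2))) (z' : LinearMap.ker (P'.A.d (b + 2)))
        (w : P.C.X (a + 1)) (w' : P'.C.X (b + 1)) (Z : LinearMap.ker ((P.tens P').A.d (a + b + 3))),
        P.C.d (a + 1) w = z.1.1 → P'.C.d (b + 1) w' = z'.1.1 →
        P.C.tD P'.C (a + b + 2)
          (Pi.single (⟨(a + 1, b + 1), by omega⟩ : Cx.Idx (a + b + 2)) (w ⊗ₜ[k] w')) = Z.1.1 →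
        e (P.A.cls _ z ⊗ₜ P'.A.cls _ z') = (P.tens P').A.cls _ Z := by
  obtain ⟨c, hc⟩ := P.connecting a
  obtain ⟨c', hc'⟩ := P'.connecting b
  obtain ⟨eK, heK⟩ := P.Q.exists_kunneth P'.Q (a + b + 2)
  obtain ⟨δ, hδ⟩ := P.tens_connecting P' (a + b + 1)
  let p₀ : Cx.Idx (a + b + 2) := ⟨(a + 1, b + 1), by omega⟩
  have hothers : ∀ p : Cx.Idx (a + b + 2), p ≠ p₀ →
      Subsingleton (P.Q.H p.1.1 ⊗[k] P'.Q.H p.1.2) := by
    rintro ⟨⟨i, j⟩, hij⟩ hne
    dsimp only at hij ⊢
    have h12 : a + 1 < i ∨ b + 1 < j := by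
      by_contra h
      refine hne (Subtype.ext (Prod.ext ?_ ?_)) <;> dsimp only [p₀] <;> omega
    refine subsingleton_of_forall_eq 0 fun x => ?_
    induction x using TensorProduct.induction_on with
    | zero => rfl
    | add u v hu hv => rw [hu, hv, add_zero]
    | tmul u v =>
      rcases h12 with h | h
      · obtain ⟨i, rfl⟩ : ∃ l, i = l + 1 := ⟨i - 1, by omega⟩
        obtain ⟨e, -⟩ := P.connecting i
        haveI := hP (i + 2) (by omega)
        rw [show u = 0 from e.injective (Subsingleton.elim _ _), TensorProduct.zero_tmul]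
      · obtain ⟨j, rfl⟩ : ∃ l, j = l + 1 := ⟨j - 1, by omega⟩
        obtain ⟨e, -⟩ := P'.connecting j
        haveI := hP' (j + 2) (by omega)
        rw [show v = 0 from e.injective (Subsingleton.elim _ _), TensorProduct.tmul_zero]
  let s : P.Q.H (a + 1) ⊗[k] P'.Q.H (b + 1) →ₗ[k]
      ((p : Cx.Idx (a + b + 2)) → P.Q.H p.1.1 ⊗[k] P'.Q.H p.1.2) :=
    LinearMap.single k (fun p : Cx.Idx (a + b + 2) => P.Q.H p.1.1 ⊗[k] P'.Q.H p.1.2) p₀
  have hs : Function.Bijective s := by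
    refine ⟨fun x y h => Pi.single_injective (M := fun p : Cx.Idx (a + b + 2) => P.Q.H p.1.1 ⊗[k] P'.Q.H p.1.2) p₀ h, fun y => ⟨y p₀, funext fun p => ?_⟩⟩
    by_cases hp : p = p₀
    · subst hp
      exact Pi.single_eq_same (M := fun p : Cx.Idx (a + b + 2) => P.Q.H p.1.1 ⊗[k] P'.Q.H p.1.2) p₀ _
    · exact (hothers p hp).elim _ _
  let e : P.A.H (a + 2) ⊗[k] P'.A.H (b + 2) ≃ₗ[k] (P.tens P').A.H (a + b + 3) :=
    (TensorProduct.congr c.symm c'.symm).trans ((LinearEquiv.ofBijective s hs).trans (eK.symm.trans δ))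
  refine ⟨e, fun z z' w w' Z hw hw' hZ => ?_⟩
  have hq : ∀ (S : Pair k) {m : ℕ} (x : S.C.X m) (y : S.S (m + 1)), S.C.d m x = y.1 →
      S.Q.d m ((S.S m).mkQ x) = 0 := fun S m x y h => by
    change Submodule.Quotient.mk (S.C.d m x) = 0
    rw [Submodule.Quotient.mk_eq_zero, h]
    exact y.2
  let wq : LinearMap.ker (P.Q.d (a + 1)) := ⟨_, hq P w z.1 hw⟩
  let wq' : LinearMap.ker (P'.Q.d (b + 1)) := ⟨_, hq P' w' z'.1 hw'⟩
  have e1 : c.symm (P.A.cls _ z) = P.Q.cls _ wq := by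
    rw [LinearEquiv.symm_apply_eq, hc wq w z rfl hw]
  have e2 : c'.symm (P'.A.cls _ z') = P'.Q.cls _ wq' := by
    rw [LinearEquiv.symm_apply_eq, hc' wq' w' z' rfl hw']
  let V : P.C.T P'.C (a + b + 2) := Pi.single p₀ (w ⊗ₜ[k] w')
  have hV : P.Q.tD P'.Q (a + b + 2) (P.tq P' _ V) = 0 := by
    rw [← P.tq_tD, show P.C.tD P'.C (a + b + 2) V = Z.1.1 from hZ]
    exact Z.1.2
  rw [← hδ ⟨_, hV⟩ V Z rfl hZ]
  change δ (eK.symm (s ((TensorProduct.congr c.symm c'.symm) (P.A.cls _ z ⊗ₜ P'.A.cls _ z')))) = _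
  refine congrArg δ ?_
  rw [LinearEquiv.symm_apply_eq, heK, TensorProduct.congr_tmul, e1, e2]
  funext p
  change (Pi.single (M := fun p : Cx.Idx (a + b + 2) => P.Q.H p.1.1 ⊗[k] P'.Q.H p.1.2) p₀
      (P.Q.cls _ wq ⊗ₜ[k] P'.Q.cls _ wq')) p =
    TensorProduct.map (P.Q.pbar p.1.1) (P'.Q.pbar p.1.2) (P.tq P' _ V p)
  rw [tq_apply]
  by_cases hp : p = p₀
  · subst hp
    rw [Pi.single_eq_same]
    simp only [V, Pi.single_eq_same, TensorProduct.map_tmul]
    rw [← P.Q.pbar_cocycle wq, ← P'.Q.pbar_cocycle wq']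
  · exact (hothers p hp).elim _ _

end Pair

end Groth.Agent.GrSegre
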