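import Groth.Agent.GrSegre.CritRing
import Groth.Agent.GrLC.EndShift
import Groth.Agent.GrTransfer.Zero
import Mathlib.RingTheory.PrincipalIdealDomain
import Mathlib.Algebra.Polynomial.AlgebraMap

/-!
# Standard graded one-dimensional Cohen–Macaulay algebras with negative `a`-invariant are `k[x]`
-/

set_option autoImplicit false
set_option linter.unusedSectionVars false
set_option linter.style.haveILetI false
universe u

open DirectSum
open Groth.Agent.GrLC

namespace Groth.Agent.GrSegre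

variable {k : Type u} [Field k] {R : Type u} [CommRing R] [Algebra k R]
  (𝒜 : ℤ → Submodule k R) [GradedAlgebra 𝒜]
  (hpos : ∀ n : ℤ, n < 0 → 𝒜 n = ⊥) (h0 : 𝒜 0 = Submodule.span k {(1 : R)})
  (hstd : Ideal.span (⋃ n ∈ Set.Ioi (0 : ℤ), (𝒜 n : Set R)) =
    Ideal.span ((𝒜 1 : Submodule k R) : Set R))

include hstd in
/-- A homogeneous element of degree `n + 1` is a combination of products of degrees `n` and `1`. -/
theorem mem_succ_of_std {n : ℤ} (hn : 0 ≤ n) {c : R} (hc : c ∈ 𝒜 (n + 1)) :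
    c ∈ Submodule.span k {z : R | ∃ b ∈ 𝒜 n, ∃ g ∈ 𝒜 1, z = b * g} := by
  have hc1 : c ∈ Ideal.span ((𝒜 1 : Submodule k R) : Set R) := by
    rw [← hstd]
    exact Ideal.subset_span (Set.mem_biUnion (x := n + 1) (Set.mem_Ioi.2 (by omega)) hc)
  obtain ⟨l, co, g, hg⟩ := Submodule.mem_span_set'.1 hc1
  rw [← cpt_of_mem 𝒜 hc, ← hg, map_sum]
  refine sum_mem fun i _ => Submodule.subset_span ⟨cpt 𝒜 n (co i), cpt_mem 𝒜 _ _, (g i).1, (g i).2, ?_⟩
  rw [cpt_smul_right' (𝒜 := 𝒜) 𝒜 (g i).2, add_sub_cancel_right, smul_eq_mul]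

include hpos h0 in
theorem irrI_le_radical [IsNoetherianRing R] (hr : ringKrullDim R = 1) {d : ℤ} {x : R} (hx : x ∈ 𝒜 d)
    (hxr : ∀ y : R, x * y = 0 → y = 0) : irrI 𝒜 ≤ (Ideal.span {x}).radical := by
  rw [Ideal.radical_eq_sInf]
  refine le_sInf fun P ⟨hP, hPp⟩ => ?_
  haveI := hPp
  have hJ : (Ideal.span {x}).IsHomogeneous 𝒜 := Ideal.homogeneous_span _ _ fun y hy => by
    rw [Set.mem_singleton_iff.1 hy]; exact ⟨d, hx⟩
  obtain ⟨q, hq, hqP⟩ := Ideal.exists_minimalPrimes_le hP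
  haveI := hq.1.1
  have hnzd : x ∈ nonZeroDivisors R :=
    mem_nonZeroDivisors_iff.2 ⟨fun y hy => hxr y hy, fun y hy => hxr y (by rwa [mul_comm] at hy)⟩
  have h1 := ringKrullDim_quotient_succ_le_of_nonZeroDivisor (R := R) hnzd
  rw [hr] at h1
  have h2 : ringKrullDim (R ⧸ Ideal.span {x}) ≤ 0 := by
    cases hd : ringKrullDim (R ⧸ Ideal.span {x}) with
    | bot => exact bot_le
    | coe a =>
      rw [hd] at h1
      have h3 : a + 1 ≤ (1 : ℕ∞) := by exact_mod_cast h1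
      rcases eq_or_ne a 0 with rfl | ha
      · rfl
      · exfalso
        have h4 : (1 : ℕ∞) ≤ a := Order.one_le_iff_pos.2 (pos_iff_ne_zero.2 ha)
        have h5 := (add_le_add h4 (le_refl (1 : ℕ∞))).trans h3
        exact absurd h5 (by decide)
  haveI : Ring.KrullDimLE 0 (R ⧸ Ideal.span {x}) := Ring.krullDimLE_iff.2 h2
  have hmax : q.IsMaximal := by
    haveI hp : (q.map (Ideal.Quotient.mk (Ideal.span {x}))).IsPrime :=
      Ideal.map_isPrime_of_surjective Ideal.Quotient.mk_surjective (by rw [Ideal.mk_ker]; exact hq.1.2)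
    haveI := Ideal.isMaximal_of_isPrime (I := q.map (Ideal.Quotient.mk (Ideal.span {x})))
    have := Ideal.comap_isMaximal_of_surjective (Ideal.Quotient.mk (Ideal.span {x}))
      Ideal.Quotient.mk_surjective (K := q.map (Ideal.Quotient.mk (Ideal.span {x})))
    rwa [Ideal.comap_map_of_surjective _ Ideal.Quotient.mk_surjective, ← RingHom.ker_eq_comap_bot,
      Ideal.mk_ker, sup_eq_left.2 hq.1.2] at this
  haveI : Nontrivial R := nontrivial_of_ne (0 : R) 1 fun h => hq.1.1.ne_top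
    (Ideal.eq_top_of_isUnit_mem q (h ▸ q.zero_mem) isUnit_one)
  have hqm : q = irrI 𝒜 := hmax.eq_of_le (irrI_isMaximal 𝒜 hpos h0).ne_top
    (le_irrI 𝒜 hpos h0 (isHomogeneous_of_mem_minimalPrimes 𝒜 hJ hq) hq.1.1.ne_top)
  exact hqm ▸ hqP

include hpos h0 in
/-- `H^1(R)` vanishes in degrees `≥ 0` iff `R_e = x R_{e-d}` for `e ≥ d`. -/
theorem gr_one_iff [IsNoetherianRing R] (hr : ringKrullDim R = 1) (m : HomogeneousIdeal 𝒜)
    (hm : m.toIdeal = irrI 𝒜) (hH0 : Subsingleton (LocCoh.H m.toIdeal 0 R)) {d : ℤ} (hd : 0 < d)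
    {x : R} (hx : x ∈ 𝒜 d) (hxr : ∀ y : R, x * y = 0 → y = 0) :
    (∀ e : ℤ, 0 ≤ e → LC.gr 𝒜 m 1 e = ⊥) ↔
      ∀ e : ℤ, d ≤ e → ∀ y ∈ 𝒜 e, ∃ z ∈ 𝒜 (e - d), y = x * z := by
  let P : Submodule R R := LinearMap.range (x • (LinearMap.id : R →ₗ[R] R))
  have hmemP : ∀ y, y ∈ P ↔ ∃ z, y = x * z := fun y =>
    ⟨fun ⟨z, hz⟩ => ⟨z, hz.symm⟩, fun ⟨z, hz⟩ => ⟨z, hz.symm⟩⟩
  have hP : P.IsHomogeneous 𝒜 := by
    intro g y hy
    obtain ⟨z, rfl⟩ := (hmemP _).1 hy
    refine (hmemP _).2 ⟨cpt 𝒜 (g - d) z, ?_⟩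
    change cpt 𝒜 g (x * z) = _
    rw [← smul_eq_mul, cpt_smul_left' (𝒜 := 𝒜) 𝒜 hx z g]
    rfl
  letI := quoDec 𝒜 hP
  haveI := quoGr_gradedSMul (𝒜 := 𝒜) 𝒜 P
  have hinj : Function.Injective fun y : R => x • y := fun y y' h => by
    have h' : x * (y - y') = 0 := by rw [mul_sub]; exact sub_eq_zero.2 h
    exact sub_eq_zero.1 (hxr _ h')
  have hpos' : ∀ n : ℤ, n < 0 → ∀ y ∈ 𝒜 n, y = 0 := fun n hn y hy => eq_zero_of_neg 𝒜 hpos hn hy
  have hshift := top_shift (M := R) (ℳ := 𝒜) (N := R ⧸ P) (𝒩 := quoGr 𝒜 P) hpos' m hx hinj P.mkQ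
    P.mkQ_surjective (isGrHom_mkQ 𝒜 P) (Submodule.ker_mkQ P) (hm ▸ irr_irrI 𝒜 d hd x hx)
    (p := 0) hH0 (d - 1)
  have hgam : ∀ w : R ⧸ P, w ∈ _root_.GrLC.gam m.toIdeal (R ⧸ P) := by
    obtain ⟨n, hn⟩ := Ideal.exists_pow_le_of_le_radical_of_fg (irrI_le_radical 𝒜 hpos h0 hr hx hxr)
      (IsNoetherian.noetherian _)
    intro w
    refine ⟨n, fun t ht => ?_⟩
    obtain ⟨y, rfl⟩ := P.mkQ_surjective w
    rw [hm] at ht
    obtain ⟨c, rfl⟩ := Ideal.mem_span_singleton'.1 (hn ht)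
    rw [← map_smul]
    exact (Submodule.Quotient.mk_eq_zero _).2 ((hmemP _).2 ⟨c * y, by rw [smul_eq_mul]; ring⟩)
  have hzero : ∀ e : ℤ, LC.gr (quoGr 𝒜 P) m 0 e = ⊥ ↔ ∀ y ∈ 𝒜 e, y ∈ P := by
    intro e
    rw [AddSubgroup.eq_bot_iff_forall]
    constructor
    · intro h y hy
      have h1 := h _ ((GrTransfer.z0_mem_iff m (quoGr 𝒜 P) e ⟨P.mkQ y, hgam _⟩).2 ⟨y, hy, rfl⟩)
      have h2 : (⟨P.mkQ y, hgam _⟩ : _root_.GrLC.gam m.toIdeal (R ⧸ P)) = 0 :=
        (GrTransfer.z0_bijective m (quoGr 𝒜 P)).1 (h1.trans (map_zero _).symm)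
      exact (Submodule.Quotient.mk_eq_zero _).1 (congrArg Subtype.val h2)
    · intro h w hw
      obtain ⟨z, rfl⟩ := (GrTransfer.z0_bijective m (quoGr 𝒜 P)).2 w
      obtain ⟨y, hy, hyz⟩ := (GrTransfer.z0_mem_iff m (quoGr 𝒜 P) e z).1 hw
      have : z = 0 := Subtype.ext (by rw [← hyz]; exact (Submodule.Quotient.mk_eq_zero _).2 (h y hy))
      rw [this, map_zero]
  have key : (∀ e : ℤ, 0 ≤ e → LC.gr 𝒜 m 1 e = ⊥) ↔ ∀ e : ℤ, d ≤ e → ∀ y ∈ 𝒜 e, y ∈ P := by
    constructor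
    · intro h e he
      exact (hzero e).1 (hshift.1 (fun e' he' => h e' (by omega)) e (by omega))
    · intro h e he
      exact hshift.2 (fun e' he' => (hzero e').2 (h e' (by omega))) e (by omega)
  rw [key]
  refine forall_congr' fun e => imp_congr_right fun _ => forall_congr' fun y => imp_congr_right fun hy => ?_
  rw [hmemP]
  refine ⟨fun ⟨z, hz⟩ => ⟨cpt 𝒜 (e - d) z, cpt_mem 𝒜 _ _, ?_⟩, fun ⟨z, _, hz⟩ => ⟨z, hz⟩⟩
  have h1 := congrArg (cpt 𝒜 e) hz
  rwa [cpt_of_mem 𝒜 hy, ← smul_eq_mul, cpt_smul_left' (𝒜 := 𝒜) 𝒜 hx z e] at h1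

include hpos h0 in
theorem forall_piece_eq_span {a : R}
    (h : ∀ e : ℤ, 1 ≤ e → ∀ y ∈ 𝒜 e, ∃ z ∈ 𝒜 (e - 1), y = a * z) (n : ℕ) {y : R}
    (hy : y ∈ 𝒜 (n : ℤ)) : ∃ c : k, y = c • a ^ n := by
  induction n generalizing y with
  | zero =>
    obtain ⟨c, rfl⟩ := exists_eq_algebraMap 𝒜 hpos h0 hy
    exact ⟨c, by rw [pow_zero, Algebra.algebraMap_eq_smul_one]⟩
  | succ n ih =>
    obtain ⟨z, hz, rfl⟩ := h _ (by push_cast; omega) y hy
    rw [Nat.cast_succ, add_sub_cancel_right] at hz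
    obtain ⟨c, rfl⟩ := ih hz
    exact ⟨c, by rw [mul_smul_comm, pow_succ']⟩

include hpos h0 hstd in
/-- The characterisation of `k[x]`. -/
theorem gr_one_iff_polynomial [Algebra.FiniteType k R] [LocCoh.IsCohenMacaulayRing R]
    (hr : ringKrullDim R = 1) (m : HomogeneousIdeal 𝒜) (hm : m.toIdeal = irrI 𝒜) :
    (∀ e : ℤ, 0 ≤ e → LC.gr 𝒜 m 1 e = ⊥) ↔ Nonempty (R ≃ₐ[k] Polynomial k) := by
  classical
  haveI := Algebra.FiniteType.isNoetherianRing k R
  have hsd : Module.supportDim R R = ((1 : ℕ) : WithBot ℕ∞) := by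
    rw [Module.supportDim_self_eq_ringKrullDim, hr]; rfl
  haveI : Nontrivial R := (Module.supportDim_ne_bot_iff_nontrivial R R).1 (by rw [hsd]; simp)
  have hcm : ∀ (q : Ideal R) [q.IsPrime], Subsingleton (LocalizedModule q.primeCompl R) ∨
      LocCoh.IsCohenMacaulayModule (Localization.AtPrime q) (LocalizedModule q.primeCompl R) :=
    fun q _ => cm_module_self q
  have hH0 : Subsingleton (LocCoh.H m.toIdeal 0 R) := by
    rw [hm]; exact subsingleton_H_of_cm 𝒜 hpos h0 𝒜 hsd hcm Nat.one_pos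
  constructor
  · intro h
    obtain ⟨D, hD, hsop⟩ := exists_sop 𝒜 hpos h0 (M := R) 𝒜 hsd
    obtain ⟨f, hf, hfin, -⟩ := hsop 1 one_pos
    rw [mul_one] at hf
    have hxr : ∀ y : R, f 0 * y = 0 → y = 0 := by
      intro y hy
      refine eq_zero_of_cpt 𝒜 fun g => ?_
      by_contra hne
      refine MvPolynomial.X_ne_zero (R := k) (0 : Fin 1)
        (torsionFree_of_cm 𝒜 hpos h0 𝒜 hsd hcm f hfin (cpt_mem 𝒜 g y) hne (MvPolynomial.X 0) ?_)
      rw [MvPolynomial.aeval_X, smul_eq_mul]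
      have h1 := congrArg (cpt 𝒜 (g + D)) hy
      rw [← smul_eq_mul, cpt_smul_left' (𝒜 := 𝒜) 𝒜 (hf 0) y, add_sub_cancel_right, map_zero] at h1
      exact h1
    have hD' : (0 : ℤ) < D := by exact_mod_cast hD
    have hsh := (gr_one_iff 𝒜 hpos h0 hr m hm hH0 hD' (hf 0) hxr).1 h
    -- a regular linear form
    obtain ⟨a, ha, har⟩ : ∃ a ∈ 𝒜 1, ∀ y : R, a * y = 0 → y = 0 := by
      by_contra hno
      push Not at hno
      have hmem := mem_succ_of_std 𝒜 hstd (n := (D : ℤ) - 1) (by omega)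
        (show f 0 ∈ 𝒜 ((D : ℤ) - 1 + 1) by rw [sub_add_cancel]; exact hf 0)
      have hzero : ∀ z ∈ Submodule.span k {z : R | ∃ b ∈ 𝒜 ((D : ℤ) - 1), ∃ g ∈ 𝒜 1, z = b * g}, z = 0 := by
        intro z hz
        induction hz using Submodule.span_induction with
        | mem z hz =>
          obtain ⟨b, hb, g, hg, rfl⟩ := hz
          obtain ⟨y, hy, hy0⟩ := hno g hg
          by_contra hne
          have hbg : b * g ∈ 𝒜 (D : ℤ) := by
            have := SetLike.mul_mem_graded hb hg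
            rwa [sub_add_cancel] at this
          obtain ⟨w, hw, hw'⟩ := hsh _ le_rfl _ hbg
          rw [sub_self] at hw
          obtain ⟨c, rfl⟩ := exists_eq_algebraMap 𝒜 hpos h0 hw
          have hc : c ≠ 0 := fun e => hne (by rw [hw', e, map_zero, mul_zero])
          refine hy0 (hxr y (((IsUnit.mk0 c hc).map (algebraMap k R)).mul_right_injective ?_))
          change algebraMap k R c * (f 0 * y) = algebraMap k R c * 0
          rw [mul_zero, ← mul_assoc, mul_comm (algebraMap k R c), ← hw', mul_assoc, hy, mul_zero]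
        | zero => rfl
        | add u v _ _ hu hv => rw [hu, hv, add_zero]
        | smul c u _ hu => rw [hu, smul_zero]
      exact one_ne_zero (hxr 1 (by rw [mul_one]; exact hzero _ hmem))
    have hsa := (gr_one_iff 𝒜 hpos h0 hr m hm hH0 one_pos ha har).1 h
    have hpow : ∀ n : ℕ, a ^ n ≠ 0 := by
      intro n
      induction n with
      | zero => rw [pow_zero]; exact one_ne_zero
      | succ n ih => rw [pow_succ']; exact fun h => ih (har _ h)
    let φ : Polynomial k →ₐ[k] R := Polynomial.aeval a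
    have hmemA : ∀ n : ℕ, a ^ n ∈ 𝒜 (n : ℤ) := fun n => by
      have := SetLike.pow_mem_graded n ha
      rwa [nsmul_eq_mul, mul_one] at this
    have hbij : Function.Bijective φ := by
      constructor
      · rw [injective_iff_map_eq_zero]
        intro p hp
        refine Polynomial.ext fun n => ?_
        have h1 := congrArg (cpt 𝒜 (n : ℤ)) hp
        rw [map_zero, show φ p = ∑ i ∈ p.support, p.coeff i • a ^ i by
          simp [φ, Polynomial.aeval_def, Polynomial.eval₂_eq_sum, Polynomial.sum_def, Algebra.smul_def]] at h1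
        rw [map_sum] at h1
        simp only [cpt_of_mem_ite 𝒜 _ (Submodule.smul_mem _ _ (hmemA _)), Nat.cast_inj, Finset.sum_ite_eq'] at h1
        rw [Polynomial.coeff_zero]
        by_cases hn : n ∈ p.support
        · rw [if_pos hn] at h1
          exact (smul_eq_zero.1 h1).resolve_right (hpow n)
        · simpa using hn
      · intro y
        induction y using homogeneous_induction 𝒜 with
        | zero => exact ⟨0, map_zero _⟩
        | add u v hu hv =>
          obtain ⟨p, rfl⟩ := hu; obtain ⟨q, rfl⟩ := hv; exact ⟨p + q, map_add _ _ _⟩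
        | hom g y hy =>
          rcases lt_or_ge g 0 with hg | hg
          · exact ⟨0, by rw [map_zero, eq_zero_of_neg 𝒜 hpos hg hy]⟩
          · obtain ⟨n, rfl⟩ : ∃ n : ℕ, g = n := ⟨g.toNat, by omega⟩
            obtain ⟨c, rfl⟩ := forall_piece_eq_span 𝒜 hpos h0 hsa n hy
            exact ⟨c • Polynomial.X ^ n, by simp [φ]⟩
    exact ⟨(AlgEquiv.ofBijective φ hbij).symm⟩
  · rintro ⟨e⟩
    haveI : IsDomain R := e.toRingEquiv.toMulEquiv.isDomain (Polynomial k)
    haveI : IsPrincipalIdealRing R :=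
      IsPrincipalIdealRing.of_surjective e.symm.toRingEquiv.toRingHom e.symm.surjective
    obtain ⟨a, ha, ha0⟩ := (Submodule.ne_bot_iff _).1
      (ne_bot_of_std 𝒜 hpos h0 hstd le_rfl (by rw [hr]; rfl) (n := 1) zero_le_one)
    have har : ∀ y : R, a * y = 0 → y = 0 := fun y hy => (mul_eq_zero.1 hy).resolve_left ha0
    obtain ⟨g, hg⟩ := (IsPrincipalIdealRing.principal (irrI 𝒜)).principal
    have hone : ∀ y ∈ 𝒜 1, ∃ c : k, y = c • a := by
      intro y hy
      have hmemg : ∀ z ∈ 𝒜 1, ∃ u : R, u * g = z := fun z hz => by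
        have h1 : z ∈ Ideal.span {g} := (le_of_eq hg : irrI 𝒜 ≤ Ideal.span {g}) (irr_irrI 𝒜 1 one_pos z hz)
        exact Ideal.mem_span_singleton'.1 h1
      obtain ⟨u, hu⟩ := hmemg a ha
      obtain ⟨v, hv⟩ := hmemg y hy
      have hres : ∀ w : R, ∃ c : k, w - algebraMap k R c ∈ irrI 𝒜 := by
        intro w
        induction w using homogeneous_induction 𝒜 with
        | zero => exact ⟨0, by simp⟩
        | add w w' hw hw' =>
          obtain ⟨c, hc⟩ := hw; obtain ⟨c', hc'⟩ := hw'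
          exact ⟨c + c', by rw [map_add, add_sub_add_comm]; exact add_mem hc hc'⟩
        | hom i w hw =>
          rcases lt_trichotomy i 0 with hi | rfl | hi
          · exact ⟨0, by rw [eq_zero_of_neg 𝒜 hpos hi hw]; simp⟩
          · obtain ⟨c, rfl⟩ := exists_eq_algebraMap 𝒜 hpos h0 hw
            exact ⟨c, by simp⟩
          · exact ⟨0, by rw [map_zero, sub_zero]; exact irr_irrI 𝒜 i hi w hw⟩
      obtain ⟨α, hα⟩ := hres u
      obtain ⟨β, hβ⟩ := hres v
      -- degree one elements of the square of the irrelevant ideal vanish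
      have hsq : ∀ z ∈ irrI 𝒜 * irrI 𝒜, cpt 𝒜 1 z = 0 := by
        intro z hz
        refine Submodule.smul_induction_on hz (fun p hp q hq => ?_) fun p q hp hq => by
          rw [map_add, hp, hq, add_zero]
        induction hp using Submodule.span_induction generalizing q with
        | mem p hp =>
          obtain ⟨i, hi, hpi⟩ := Set.mem_iUnion₂.1 hp
          rw [Set.mem_Ioi] at hi
          rw [cpt_smul_left' (𝒜 := 𝒜) 𝒜 hpi q 1]
          rcases eq_or_lt_of_le (show (1 : ℤ) ≤ i by omega) with h1 | h1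
          · rw [← h1, sub_self, cpt_zero_of_mem_irrI 𝒜 hpos h0 hq, smul_zero]
          · rw [eq_zero_of_neg 𝒜 hpos (by omega) (cpt_mem 𝒜 (1 - i) q), smul_zero]
        | zero => simp
        | add p p' _ _ hp hp' => rw [add_smul, map_add, hp q hq, hp' q hq, add_zero]
        | smul t p _ hp =>
          rw [show (t • p) • q = p • (t * q) by simp only [smul_eq_mul]; ring]
          exact hp _ (Ideal.mul_mem_left _ _ hq)
      have hgm : g ∈ irrI 𝒜 := by rw [hg]; exact Submodule.mem_span_singleton_self g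
      have h2 : α • y - β • a = 0 := by
        have h3 : α • y - β • a ∈ irrI 𝒜 * irrI 𝒜 := by
          have : α • y - β • a = ((v - algebraMap k R β) * g) * algebraMap k R α -
              ((u - algebraMap k R α) * g) * algebraMap k R β := by
            rw [← hu, ← hv, Algebra.smul_def, Algebra.smul_def]; ring
          rw [this]
          exact sub_mem (Ideal.mul_mem_right _ _ (Ideal.mul_mem_mul hβ hgm))
            (Ideal.mul_mem_right _ _ (Ideal.mul_mem_mul hα hgm))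
        have h4 := hsq _ h3
        rwa [cpt_of_mem 𝒜 (sub_mem (Submodule.smul_mem _ _ hy) (Submodule.smul_mem _ _ ha))] at h4
      have hα0 : α ≠ 0 := by
        rintro rfl
        rw [map_zero, sub_zero] at hα
        refine ha0 ?_
        have h5 := hsq _ (hu ▸ Ideal.mul_mem_mul hα hgm)
        rwa [cpt_of_mem 𝒜 ha] at h5
      exact ⟨α⁻¹ * β, by rw [mul_smul, ← sub_eq_zero.1 h2, inv_smul_smul₀ hα0]⟩
    refine (gr_one_iff 𝒜 hpos h0 hr m hm hH0 one_pos ha har).2 fun n hn y hy => ?_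
    have hmem := mem_succ_of_std 𝒜 hstd (n := n - 1) (by omega) (by rwa [sub_add_cancel])
    clear hy
    induction hmem using Submodule.span_induction with
    | mem z hz =>
      obtain ⟨b, hb, g', hg', rfl⟩ := hz
      obtain ⟨c, rfl⟩ := hone g' hg'
      exact ⟨c • b, Submodule.smul_mem _ _ hb, by rw [mul_smul_comm, mul_smul_comm, mul_comm b a]⟩
    | zero => exact ⟨0, zero_mem _, (mul_zero a).symm⟩
    | add u v _ _ hu hv =>
      obtain ⟨p, hp, rfl⟩ := hu; obtain ⟨q, hq, rfl⟩ := hv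
      exact ⟨p + q, add_mem hp hq, (mul_add a p q).symm⟩
    | smul c u _ hu =>
      obtain ⟨p, hp, rfl⟩ := hu
      exact ⟨c • p, Submodule.smul_mem _ _ hp, (mul_smul_comm c a p).symm⟩

end Groth.Agent.GrSegre
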