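import Groth.Agent.GrSegre.SegreGor
import Groth.Agent.GrSegre.DimOne
import Groth.Agent.GrDual.Pairing

/-!
# One-dimensional Gorenstein Segre products

* `exists_socle_degree`: the Hilbert function of a one-dimensional graded Gorenstein algebra modulo a
  homogeneous nonzerodivisor has a one-dimensional top;
* `exists_linear_of_finrank_eq_one`: a one-dimensional standard algebra with a one-dimensional
  positive piece is `k[x]`.
-/

set_option autoImplicit false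
set_option linter.unusedSectionVars false
set_option linter.style.haveILetI false
universe u

open DirectSum TensorProduct
open Groth.Agent.GrLC
open Groth.Agent.GrDual (Base shA base_of_span pieceK finite_pieceK)

noncomputable section

namespace Groth.Agent.GrSegre

variable {k : Type u} [Field k]

section One

variable {R : Type u} [CommRing R] [Algebra k R] (𝒜 : ℤ → Submodule k R) [GradedAlgebra 𝒜]
  (hpos : ∀ n : ℤ, n < 0 → 𝒜 n = ⊥) (h0 : 𝒜 0 = Submodule.span k {(1 : R)})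

include hpos h0 in
theorem finite_piece [Algebra.FiniteType k R] (n : ℤ) : Module.Finite k (𝒜 n) := by
  haveI := Algebra.FiniteType.isNoetherianRing k R
  have hB := base_of_span hpos h0
  have h : pieceK hB 𝒜 n = 𝒜 n := SetLike.ext fun x => Iff.rfl
  rw [← h]
  exact finite_pieceK hB 𝒜 n

include hpos h0 in
/-- A homogeneous nonzerodivisor of positive degree. -/
theorem exists_nzd [Algebra.FiniteType k R] [LocCoh.IsCohenMacaulayRing R] (hr : ringKrullDim R = 1) :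
    ∃ d : ℕ, 0 < d ∧ ∃ x ∈ 𝒜 (d : ℤ), ∀ y : R, x * y = 0 → y = 0 := by
  have hsd : Module.supportDim R R = ((1 : ℕ) : WithBot ℕ∞) := by
    rw [Module.supportDim_self_eq_ringKrullDim, hr]; rfl
  obtain ⟨D, hD, hsop⟩ := exists_sop 𝒜 hpos h0 (M := R) 𝒜 hsd
  obtain ⟨f, hf, hfin, -⟩ := hsop 1 one_pos
  rw [mul_one] at hf
  refine ⟨D, hD, f 0, hf 0, fun y hy => eq_zero_of_cpt 𝒜 fun g => ?_⟩
  by_contra hne
  refine MvPolynomial.X_ne_zero (R := k) (0 : Fin 1)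
    (torsionFree_of_cm 𝒜 hpos h0 𝒜 hsd (fun q _ => cm_module_self q) f hfin (cpt_mem 𝒜 g y) hne
      (MvPolynomial.X 0) ?_)
  rw [MvPolynomial.aeval_X, smul_eq_mul]
  have h1 := congrArg (cpt 𝒜 (g + D)) hy
  rw [← smul_eq_mul, cpt_smul_left' (𝒜 := 𝒜) 𝒜 (hf 0) y, add_sub_cancel_right, map_zero] at h1
  exact h1

theorem nzd_pow {x : R} (hx : ∀ y : R, x * y = 0 → y = 0) (n : ℕ) :
    ∀ y : R, x ^ n * y = 0 → y = 0 := by
  induction n with
  | zero => simp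
  | succ n ih => intro y hy; exact hx y (ih _ (by rw [← mul_assoc, ← pow_succ]; exact hy))

include hpos h0 in
theorem finrank_zero [Nontrivial R] : Module.finrank k (𝒜 0) = 1 := by
  rw [h0]; exact finrank_span_singleton one_ne_zero

include hpos h0 in
theorem finrank_le_of_nzd [Algebra.FiniteType k R] {d : ℤ} {x : R} (hx : x ∈ 𝒜 d)
    (hxr : ∀ y : R, x * y = 0 → y = 0) (n : ℤ) :
    Module.finrank k (𝒜 (n - d)) ≤ Module.finrank k (𝒜 n) := by
  haveI := finite_piece 𝒜 hpos h0 n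
  let f : 𝒜 (n - d) →ₗ[k] 𝒜 n :=
    ((LinearMap.mulLeft k x).comp (𝒜 (n - d)).subtype).codRestrict _ fun y => by
      have h := SetLike.GradedMul.mul_mem (A := 𝒜) hx y.2
      rw [add_sub_cancel] at h
      exact h
  exact LinearMap.finrank_le_finrank_of_injective (f := f) ((injective_iff_map_eq_zero _).2
    fun y hy => Subtype.ext (hxr _ (congrArg Subtype.val hy)))

variable (hstd : Ideal.span (⋃ n ∈ Set.Ioi (0 : ℤ), (𝒜 n : Set R)) =
    Ideal.span ((𝒜 1 : Submodule k R) : Set R))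

include hpos h0 hstd in
theorem one_le_finrank [Algebra.FiniteType k R] (hr : ringKrullDim R = 1) {n : ℤ} (hn : 0 ≤ n) :
    1 ≤ Module.finrank k (𝒜 n) := by
  haveI := finite_piece 𝒜 hpos h0 n
  exact Submodule.one_le_finrank_iff.2
    (ne_bot_of_std 𝒜 hpos h0 hstd le_rfl (by rw [hr]; rfl) hn)

include hpos h0 hstd in
/-- A one-dimensional piece of positive degree forces a polynomial ring. -/
theorem exists_linear_of_finrank_eq_one [Algebra.FiniteType k R] [LocCoh.IsCohenMacaulayRing R]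
    (hr : ringKrullDim R = 1) {N : ℕ} (h1 : Module.finrank k (𝒜 ((N + 1 : ℕ) : ℤ)) = 1) :
    ∃ g ∈ 𝒜 1, (∀ y : R, g * y = 0 → y = 0) ∧
      ∀ e : ℤ, 1 ≤ e → ∀ y ∈ 𝒜 e, ∃ z ∈ 𝒜 (e - 1), y = g * z := by
  -- a regular element spanning the piece of degree `N + 1`
  obtain ⟨u, hu, hur, huspan⟩ : ∃ u ∈ 𝒜 ((N + 1 : ℕ) : ℤ), (∀ y : R, u * y = 0 → y = 0) ∧
      ∀ v ∈ 𝒜 ((N + 1 : ℕ) : ℤ), ∃ c : k, v = c • u := by
    obtain ⟨⟨u, hu⟩, -, hspan⟩ := finrank_eq_one_iff'.1 h1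
    have huspan : ∀ v ∈ 𝒜 ((N + 1 : ℕ) : ℤ), ∃ c : k, v = c • u := fun v hv =>
      (hspan ⟨v, hv⟩).imp fun c hc => (congrArg Subtype.val hc).symm
    refine ⟨u, hu, fun y hy => ?_, huspan⟩
    obtain ⟨d, hd, a, ha, har⟩ := exists_nzd 𝒜 hpos h0 hr
    have hspanpow : ∀ j : ℕ, Ideal.span ((𝒜 1 : Submodule k R) : Set R) ^ j ≤
        Ideal.span ((𝒜 (j : ℤ) : Submodule k R) : Set R) := by
      intro j
      induction j with
      | zero =>
        rw [pow_zero, Ideal.one_eq_top]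
        refine le_of_eq (Ideal.eq_top_of_isUnit_mem _ (x := 1) (Ideal.subset_span ?_) isUnit_one).symm
        exact SetLike.GradedOne.one_mem (A := 𝒜)
      | succ j ih =>
        rw [pow_succ]
        refine (Ideal.mul_mono_left ih).trans ?_
        rw [Ideal.span_mul_span', Ideal.span_le]
        rintro _ ⟨p, hp, q, hq, rfl⟩
        refine Ideal.subset_span ?_
        change p * q ∈ 𝒜 _
        rw [Nat.cast_succ]
        exact SetLike.GradedMul.mul_mem hp hq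
    have hmem : a ^ (N + 1) ∈ Ideal.span {u} := by
      refine (Ideal.span_le.2 fun v hv => ?_ :
        Ideal.span ((𝒜 ((N + 1 : ℕ) : ℤ) : Submodule k R) : Set R) ≤ Ideal.span {u})
        (hspanpow _ (Ideal.pow_mem_pow ?_ _))
      · obtain ⟨c, rfl⟩ := huspan v hv
        exact Ideal.mem_span_singleton'.2 ⟨algebraMap k R c, (Algebra.smul_def c u).symm⟩
      · rw [← hstd]
        exact Ideal.subset_span (Set.mem_biUnion (x := (d : ℤ)) (Set.mem_Ioi.2 (by omega)) ha)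
    obtain ⟨w, hw⟩ := Ideal.mem_span_singleton'.1 hmem
    exact nzd_pow har (N + 1) y (by rw [← hw, mul_assoc, hy, mul_zero])
  clear h1
  -- descend to degree one
  have key : ∃ g ∈ 𝒜 1, (∀ y : R, g * y = 0 → y = 0) ∧ ∀ v ∈ 𝒜 1, ∃ c : k, v = c • g := by
    induction N generalizing u with
    | zero => exact ⟨u, by simpa using hu, hur, fun v hv => huspan v (by simpa using hv)⟩
    | succ N ih =>
      obtain ⟨b, hb, g, hg, hne⟩ : ∃ b ∈ 𝒜 ((N + 1 : ℕ) : ℤ), ∃ g ∈ 𝒜 1, b * g ≠ 0 := by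
        by_contra hc
        push Not at hc
        have hm := mem_succ_of_std 𝒜 hstd (n := ((N + 1 : ℕ) : ℤ)) (by omega)
          (show u ∈ 𝒜 (((N + 1 : ℕ) : ℤ) + 1) by
            rw [show ((N + 1 : ℕ) : ℤ) + 1 = ((N + 1 + 1 : ℕ) : ℤ) by push_cast; ring]; exact hu)
        have hz : u = 0 := (Submodule.mem_bot k).1 ((Submodule.span_le.2 fun z hz => by
          obtain ⟨b, hb, g, hg, rfl⟩ := hz
          exact (Submodule.mem_bot k).2 (hc b hb g hg) :
          Submodule.span k {z : R | ∃ b ∈ 𝒜 ((N + 1 : ℕ) : ℤ), ∃ g ∈ 𝒜 1, z = b * g} ≤ ⊥) hm)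
        haveI : Nontrivial R := by
          refine not_subsingleton_iff_nontrivial.1 fun h => ?_
          simp [ringKrullDim_eq_bot_of_subsingleton] at hr
        exact one_ne_zero (hur 1 (by rw [hz, zero_mul]))
      have hbg : b * g ∈ 𝒜 ((N + 1 + 1 : ℕ) : ℤ) := by
        rw [show ((N + 1 + 1 : ℕ) : ℤ) = ((N + 1 : ℕ) : ℤ) + 1 by push_cast; ring]
        exact SetLike.GradedMul.mul_mem hb hg
      obtain ⟨c, hc⟩ := huspan _ hbg
      have hc0 : c ≠ 0 := fun h => hne (by rw [hc, h, zero_smul])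
      have hbr : ∀ y : R, b * y = 0 → y = 0 := fun y hy => hur y <| by
        have : c • (u * y) = 0 := by rw [← smul_mul_assoc, ← hc, mul_right_comm, hy, zero_mul]
        exact (smul_eq_zero.1 this).resolve_left hc0
      have hgr : ∀ y : R, g * y = 0 → y = 0 := fun y hy => hur y <| by
        have : c • (u * y) = 0 := by rw [← smul_mul_assoc, ← hc, mul_assoc, hy, mul_zero]
        exact (smul_eq_zero.1 this).resolve_left hc0
      refine ih b hb hbr fun v hv => ?_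
      have hvg : v * g ∈ 𝒜 ((N + 1 + 1 : ℕ) : ℤ) := by
        rw [show ((N + 1 + 1 : ℕ) : ℤ) = ((N + 1 : ℕ) : ℤ) + 1 by push_cast; ring]
        exact SetLike.GradedMul.mul_mem hv hg
      obtain ⟨c', hc'⟩ := huspan _ hvg
      refine ⟨c' / c, sub_eq_zero.1 (hgr _ ?_)⟩
      rw [mul_sub, mul_smul_comm, mul_comm g v, mul_comm g b, hc', hc, smul_smul,
        div_mul_cancel₀ _ hc0, sub_self]
  obtain ⟨g, hg, hgr, hspan⟩ := key
  refine ⟨g, hg, hgr, fun e he y hy => ?_⟩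
  have hm := mem_succ_of_std 𝒜 hstd (n := e - 1) (by omega) (by rwa [sub_add_cancel])
  clear hy
  induction hm using Submodule.span_induction with
  | mem z hz =>
    obtain ⟨b, hb, g', hg', rfl⟩ := hz
    obtain ⟨c, rfl⟩ := hspan g' hg'
    exact ⟨c • b, Submodule.smul_mem _ _ hb, by rw [mul_smul_comm, mul_smul_comm, mul_comm b g]⟩
  | zero => exact ⟨0, zero_mem _, (mul_zero g).symm⟩
  | add p q _ _ hp hq =>
    obtain ⟨p', hp', rfl⟩ := hp; obtain ⟨q', hq', rfl⟩ := hq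
    exact ⟨p' + q', add_mem hp' hq', (mul_add g p' q').symm⟩
  | smul c p _ hp =>
    obtain ⟨p', hp', rfl⟩ := hp
    exact ⟨c • p', Submodule.smul_mem _ _ hp', (mul_smul_comm c g p').symm⟩

include hpos h0 in
/-- Evaluation at a regular linear form generating the algebra is bijective. -/
theorem aeval_bijective [Nontrivial R] {a : R} (ha : a ∈ 𝒜 1) (har : ∀ y : R, a * y = 0 → y = 0)
    (h : ∀ e : ℤ, 1 ≤ e → ∀ y ∈ 𝒜 e, ∃ z ∈ 𝒜 (e - 1), y = a * z) :
    Function.Bijective (Polynomial.aeval (R := k) a) := by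
  have hpow : ∀ n : ℕ, a ^ n ≠ 0 := fun n hn => one_ne_zero (nzd_pow har n 1 (by rw [hn, zero_mul]))
  have hmemA : ∀ n : ℕ, a ^ n ∈ 𝒜 (n : ℤ) := fun n => by
    have := SetLike.pow_mem_graded n ha
    rwa [nsmul_eq_mul, mul_one] at this
  constructor
  · rw [injective_iff_map_eq_zero]
    intro p hp
    refine Polynomial.ext fun n => ?_
    have h1 := congrArg (cpt 𝒜 (n : ℤ)) hp
    rw [map_zero, show Polynomial.aeval a p = ∑ i ∈ p.support, p.coeff i • a ^ i by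
      simp [Polynomial.aeval_def, Polynomial.eval₂_eq_sum, Polynomial.sum_def, Algebra.smul_def],
      map_sum] at h1
    simp only [cpt_of_mem_ite 𝒜 _ (Submodule.smul_mem _ _ (hmemA _)), Nat.cast_inj,
      Finset.sum_ite_eq'] at h1
    rw [Polynomial.coeff_zero]
    by_cases hn : n ∈ p.support
    · rw [if_pos hn] at h1
      exact (smul_eq_zero.1 h1).resolve_right (hpow n)
    · simpa using hn
  · intro y
    induction y using homogeneous_induction 𝒜 with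
    | zero => exact ⟨0, map_zero _⟩
    | add u v hu hv =>
      obtain ⟨p, rfl⟩ := hu; obtain ⟨q, rfl⟩ := hv; exact ⟨p + q, map_add _ _ _⟩
    | hom g y hy =>
      rcases lt_or_ge g 0 with hg | hg
      · exact ⟨0, by rw [map_zero, eq_zero_of_neg 𝒜 hpos hg hy]⟩
      · obtain ⟨n, rfl⟩ : ∃ n : ℕ, g = n := ⟨g.toNat, by omega⟩
        obtain ⟨c, rfl⟩ := forall_piece_eq_span 𝒜 hpos h0 h n hy
        exact ⟨c • Polynomial.X ^ n, by simp⟩

end One

section Socle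

variable {T : Type u} [CommRing T] [Algebra k T] (𝒯 : ℤ → Submodule k T) [GradedAlgebra 𝒯]
  [Algebra.FiniteType k T] [Nontrivial T] [LocCoh.IsGorensteinRing T]

set_option maxRecDepth 20000 in
set_option maxHeartbeats 800000 in
/-- The quotient of a one-dimensional Gorenstein graded algebra by a regular form has one-dimensional top. -/
theorem exists_socle_degree (hpos : ∀ n : ℤ, n < 0 → 𝒯 n = ⊥)
    (h0 : 𝒯 0 = Submodule.span k {(1 : T)}) (hdim : ringKrullDim T = 1) {d : ℤ} (hd : 0 < d) {f : T}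
    (hf : f ∈ 𝒯 d) (hfr : ∀ y : T, f * y = 0 → y = 0) :
    ∃ c : ℤ, 0 ≤ c ∧ Module.finrank k (𝒯 c) = Module.finrank k (𝒯 (c - d)) + 1 ∧
      ∀ x, c < x → Module.finrank k (𝒯 x) = Module.finrank k (𝒯 (x - d)) := by
  classical
  haveI := Algebra.FiniteType.isNoetherianRing k T
  let m : HomogeneousIdeal 𝒯 := ⟨irrI 𝒯, Ideal.homogeneous_span _ _ fun x hx => by
    obtain ⟨n, -, hn⟩ := Set.mem_iUnion₂.1 hx
    exact ⟨n, hn⟩⟩
  obtain ⟨I⟩ := exists_res 𝒯 𝒯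
  letI := Hdec I m 1
  haveI := Hgr_gradedSMul I m 1
  obtain ⟨g, β, hβ, -⟩ := exists_shiftDual_ring hpos h0 m rfl I (r := 1) (by rw [hdim]; rfl)
  have hinj : Function.Injective fun y : T => f • y := fun y y' h =>
    sub_eq_zero.1 (hfr _ (by rw [mul_sub]; exact sub_eq_zero.2 h))
  let P : Submodule T T := LinearMap.range (f • (LinearMap.id : T →ₗ[T] T))
  have hmemP : ∀ y, y ∈ P ↔ ∃ z, y = f * z := fun y =>
    ⟨fun ⟨z, hz⟩ => ⟨z, hz.symm⟩, fun ⟨z, hz⟩ => ⟨z, hz.symm⟩⟩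
  have hP : P.IsHomogeneous 𝒯 := by
    intro i y hy
    obtain ⟨z, rfl⟩ := (hmemP _).1 hy
    refine (hmemP _).2 ⟨cpt 𝒯 (i - d) z, ?_⟩
    change cpt 𝒯 i (f * z) = _
    rw [← smul_eq_mul, cpt_smul_left' (𝒜 := 𝒯) 𝒯 hf z i]
    rfl
  letI := quoDec 𝒯 hP
  haveI := quoGr_gradedSMul (𝒜 := 𝒯) 𝒯 P
  have hex : Function.Exact (f • (LinearMap.id : T →ₗ[T] T)) P.mkQ :=
    LinearMap.exact_iff.2 (Submodule.ker_mkQ P)
  have hgam : ∀ w : T ⧸ P, w ∈ _root_.GrLC.gam m.toIdeal (T ⧸ P) := by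
    obtain ⟨n, hn⟩ := Ideal.exists_pow_le_of_le_radical_of_fg
      (irrI_le_radical 𝒯 hpos h0 hdim hf hfr) (IsNoetherian.noetherian _)
    intro w
    refine ⟨n, fun t ht => ?_⟩
    obtain ⟨y, rfl⟩ := P.mkQ_surjective w
    obtain ⟨c, rfl⟩ := Ideal.mem_span_singleton'.1 (hn ht)
    rw [← map_smul]
    exact (Submodule.Quotient.mk_eq_zero _).2 ((hmemP _).2 ⟨c * y, by rw [smul_eq_mul]; ring⟩)
  have hfm : f ∈ m.toIdeal := irr_irrI 𝒯 d hd f hf
  have hH0 : Subsingleton (LocCoh.H m.toIdeal 0 T) := by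
    refine subsingleton_of_forall_eq 0 fun x => ?_
    obtain ⟨⟨z, n, hn⟩, rfl⟩ := (GrTransfer.z0_bijective m 𝒯).2 x
    have hz : z = 0 := nzd_pow hfr n z (hn _ (Ideal.pow_mem_pow hfm n))
    rw [show (⟨z, n, hn⟩ : _root_.GrLC.gam m.toIdeal T) = 0 from Subtype.ext hz, map_zero]
  let Φ : T →ₗ[T] I.H m 1 :=
    (Hequiv I m 1).symm.toLinearMap ∘ₗ
      (LocCohElt.δ m.toIdeal 0 (f := f • (LinearMap.id : T →ₗ[T] T)) (g := P.mkQ) hinj hex
        P.mkQ_surjective) ∘ₗ (GrTransfer.z0 m (quoGr 𝒯 P)) ∘ₗ P.mkQ.codRestrict _ (fun y => hgam _)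
  have hker : ∀ y, Φ y = 0 ↔ y ∈ P := by
    intro y
    change (Hequiv I m 1).symm (LocCohElt.δ m.toIdeal 0 hinj hex P.mkQ_surjective
      (GrTransfer.z0 m (quoGr 𝒯 P) ⟨P.mkQ y, hgam _⟩)) = 0 ↔ _
    rw [LinearEquiv.map_eq_zero_iff]
    refine ⟨fun h => ?_, fun hy => ?_⟩
    · obtain ⟨z, hz⟩ := (LocCohElt.exact_map_δ m.toIdeal 0 hinj hex P.mkQ_surjective _).1 h
      rw [hH0.elim z 0, map_zero] at hz
      have h2 := (GrTransfer.z0_bijective m (quoGr 𝒯 P)).1 (hz.symm.trans (map_zero _).symm)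
      exact (Submodule.Quotient.mk_eq_zero _).1 (congrArg Subtype.val h2)
    · have : (⟨P.mkQ y, hgam _⟩ : _root_.GrLC.gam m.toIdeal (T ⧸ P)) = 0 :=
        Subtype.ext ((Submodule.Quotient.mk_eq_zero _).2 hy)
      rw [this, map_zero, map_zero]
  have hΦdeg : ∀ i, ∀ y ∈ 𝒯 i, Φ y ∈ I.Hgr m 1 (i - d) := by
    intro i y hy
    have h1 : GrTransfer.z0 m (quoGr 𝒯 P) ⟨P.mkQ y, hgam _⟩ ∈ LC.gr (quoGr 𝒯 P) m 0 i :=
      (GrTransfer.z0_mem_iff m (quoGr 𝒯 P) i _).2 ⟨y, hy, rfl⟩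
    have h2 := LC.δ_mem_gr_deg (f := f • (LinearMap.id : T →ₗ[T] T)) (g := P.mkQ) (ℳ := 𝒯)
      (𝒩 := 𝒯) m 0 hinj hex P.mkQ_surjective (LC.isGrHomDeg_smul (M := T) (ℳ := 𝒯) hf)
      (isGrHom_mkQ 𝒯 P) h1
    rw [LC.gr_eq m 1 I] at h2
    obtain ⟨z, hz, hze⟩ := h2
    have : Φ y = z := by
      change (Hequiv I m 1).symm _ = z
      rw [LinearEquiv.symm_apply_eq]
      exact hze.symm
    rw [this]
    exact hz
  -- duality
  have hneg : ∀ i, i < 0 → ∀ r ∈ 𝒯 i, r = 0 := fun i hi r hr => eq_zero_of_neg 𝒯 hpos hi hr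
  have hB' := base_addGr (base_of_span hpos h0)
  haveI : SetLike.GradedSMul (addGr 𝒯) (I.Hgr m 1) :=
    ⟨fun _ _ _ _ hr hx => smul_mem_gr (𝒜 := 𝒯) (ℳ := I.Hgr m 1) hr hx⟩
  have hflip : ∀ i, ∀ z ∈ I.Hgr m 1 i, (∀ r ∈ 𝒯 (-i + -g), β 1 (r • z) = 0) → z = 0 :=
    fun i z hz h => GrDual.eq_zero_of_shiftDual hB' hβ hz fun r hr => by
      rw [show β r z = β (r • (1 : T)) z by rw [smul_eq_mul, mul_one], hβ.map_smul]
      exact h r hr
  have habove : ∀ i, -g < i → ∀ z ∈ I.Hgr m 1 i, z = 0 := fun i hi z hz =>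
    hflip i z hz fun r hr => by rw [hneg _ (by omega) r hr, zero_smul, map_zero]
  have htop : ∀ z ∈ I.Hgr m 1 (-g), β 1 z = 0 → z = 0 := fun z hz h => hflip _ z hz fun r hr => by
    rw [neg_neg, add_neg_cancel] at hr
    obtain ⟨c, rfl⟩ := exists_eq_algebraMap 𝒯 hpos h0 hr
    rw [algebraMap_smul, map_smul, h, smul_zero]
  have hsoc : ∀ i, i ≠ -g → ∀ z ∈ I.Hgr m 1 i, (∀ j, 0 < j → ∀ r ∈ 𝒯 j, r • z = 0) → z = 0 :=
    fun i hi z hz h => hflip i z hz fun r hr => by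
      rcases lt_or_ge (-i + -g) 0 with hlt | hge
      · rw [hneg _ hlt r hr, zero_smul, map_zero]
      · rw [h _ (by omega) r hr, map_zero]
  -- degrees above `d - g`
  have hgt : ∀ x, d - g < x → ∀ y ∈ 𝒯 x, y ∈ P := fun x hx y hy =>
    (hker y).1 (habove _ (by omega) _ (hΦdeg x y hy))
  have hP0 : (1 : T) ∉ P := by
    intro h
    obtain ⟨z, hz⟩ := (hmemP 1).1 h
    have h1 := congrArg (cpt 𝒯 0) hz
    rw [cpt_of_mem 𝒯 (SetLike.GradedOne.one_mem (A := 𝒯)), ← smul_eq_mul,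
      cpt_smul_left' (𝒜 := 𝒯) 𝒯 hf z 0, eq_zero_of_neg 𝒯 hpos (by omega) (cpt_mem 𝒯 (0 - d) z),
      smul_zero] at h1
    exact one_ne_zero h1
  obtain ⟨x₀, ⟨w, hw, hwP⟩, hmax⟩ := Int.exists_greatest_of_bdd
    (P := fun x => ∃ w ∈ 𝒯 x, w ∉ P)
    ⟨d - g, fun x ⟨w, hw, hwP⟩ => not_lt.1 fun hlt => hwP (hgt x hlt w hw)⟩
    ⟨0, 1, SetLike.GradedOne.one_mem (A := 𝒯), hP0⟩
  obtain rfl : x₀ = d - g := by
    by_contra hne
    refine hwP ((hker w).1 (hsoc _ (by omega) _ (hΦdeg x₀ w hw) fun j hj r hr => ?_))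
    rw [← map_smul, hker]
    by_contra hrw
    have := hmax (j + x₀) ⟨r • w, by rw [smul_eq_mul]; exact SetLike.GradedMul.mul_mem hr hw, hrw⟩
    omega
  let fmap : ∀ x : ℤ, 𝒯 (x - d) →ₗ[k] 𝒯 x := fun x =>
    ((LinearMap.mulLeft k f).comp (𝒯 (x - d)).subtype).codRestrict _ fun y => by
      have h := SetLike.GradedMul.mul_mem (A := 𝒯) hf y.2
      rw [add_sub_cancel] at h
      exact h
  have hfinj : ∀ x, Function.Injective (fmap x) := fun x => (injective_iff_map_eq_zero _).2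
    fun y hy => Subtype.ext (hfr _ (congrArg Subtype.val hy))
  have hrange : ∀ x, ∀ y : 𝒯 x, y ∈ LinearMap.range (fmap x) ↔ (y : T) ∈ P := by
    intro x y
    refine ⟨fun ⟨z, hz⟩ => (hmemP _).2 ⟨z.1, (congrArg Subtype.val hz).symm⟩, fun h => ?_⟩
    obtain ⟨z, hz⟩ := (hmemP _).1 h
    refine ⟨⟨cpt 𝒯 (x - d) z, cpt_mem 𝒯 _ _⟩, Subtype.ext ?_⟩
    have h1 := congrArg (cpt 𝒯 x) hz
    rw [cpt_of_mem 𝒯 y.2, ← smul_eq_mul, cpt_smul_left' (𝒜 := 𝒯) 𝒯 hf z x] at h1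
    exact h1.symm
  haveI := fun x => finite_piece 𝒯 hpos h0 x
  refine ⟨d - g, not_lt.1 fun hlt => hwP (by rw [hneg _ hlt w hw]; exact zero_mem _), ?_,
    fun x hx => ?_⟩
  · let L : 𝒯 (d - g) →ₗ[k] k := (β 1).comp ((Φ.restrictScalars k).comp (𝒯 (d - g)).subtype)
    have hmem : ∀ y : 𝒯 (d - g), Φ y.1 ∈ I.Hgr m 1 (-g) := fun y => by
      have h := hΦdeg _ _ y.2
      rwa [show d - g - d = -g by ring] at h
    have hLker : LinearMap.ker L = LinearMap.range (fmap (d - g)) := by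
      ext y
      rw [LinearMap.mem_ker, hrange, ← hker]
      exact ⟨fun h => htop _ (hmem y) h, fun h => by change β 1 (Φ y.1) = 0; rw [h, map_zero]⟩
    have hLw : L ⟨w, hw⟩ ≠ 0 := fun h => hwP ((hker w).1 (htop _ (hmem ⟨w, hw⟩) h))
    have hLs : LinearMap.range L = ⊤ := LinearMap.range_eq_top.2 fun c =>
      ⟨(c / L ⟨w, hw⟩) • (⟨w, hw⟩ : 𝒯 (d - g)), by rw [map_smul, smul_eq_mul, div_mul_cancel₀ _ hLw]⟩
    have := L.finrank_range_add_finrank_ker
    rw [hLs, finrank_top, Module.finrank_self, hLker, LinearMap.finrank_range_of_inj (hfinj _)] at this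
    omega
  · rw [← LinearMap.finrank_range_of_inj (hfinj x), show LinearMap.range (fmap x) = ⊤ from
      eq_top_iff.2 fun y _ => (hrange x y).2 (hgt x hx _ y.2), finrank_top]

end Socle

section Segre

variable {R S : Type u} [CommRing R] [CommRing S] [Algebra k R] [Algebra k S]
  {𝒜 : ℤ → Submodule k R} [GradedAlgebra 𝒜] {ℬ : ℤ → Submodule k S} [GradedAlgebra ℬ]
  {T : Type u} [CommRing T] [Algebra k T] {𝒯 : ℤ → Submodule k T} [GradedAlgebra 𝒯]
  {ψ : T →ₐ[k] R ⊗[k] S}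

theorem finrank_segre_piece (hT : _root_.GrSeg.IsSegreRing 𝒜 ℬ 𝒯 ψ) (n : ℤ) :
    Module.finrank k (𝒯 n) = Module.finrank k (𝒜 n) * Module.finrank k (ℬ n) := by
  have h : LinearMap.range (TensorProduct.map (𝒜 n).subtype (ℬ n).subtype) =
      (𝒯 n).map ψ.toLinearMap := by
    refine Eq.trans ?_ (hT.2 n).symm
    refine le_antisymm ?_ (Submodule.span_le.2 ?_)
    · rintro _ ⟨u, rfl⟩
      induction u using TensorProduct.induction_on with
      | zero => rw [map_zero]; exact zero_mem _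
      | tmul a b => exact Submodule.subset_span ⟨a, a.2, b, b.2, rfl⟩
      | add p q hp hq => rw [map_add]; exact add_mem hp hq
    · rintro _ ⟨a, ha, b, hb, rfl⟩
      exact ⟨⟨a, ha⟩ ⊗ₜ[k] ⟨b, hb⟩, rfl⟩
  rw [← Module.finrank_tensorProduct (R := k), ← LinearMap.finrank_range_of_inj
    (TensorProduct.map_injective_of_flat_flat _ _ (𝒜 n).injective_subtype (ℬ n).injective_subtype), h]
  exact (Submodule.equivMapOfInjective ψ.toLinearMap hT.1 (𝒯 n)).finrank_eq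

theorem tmul_nzd {a : R} {b : S} (ha : ∀ y : R, a * y = 0 → y = 0) (hb : ∀ y : S, b * y = 0 → y = 0)
    (u : R ⊗[k] S) (hu : (a ⊗ₜ[k] b) * u = 0) : u = 0 := by
  have hinj := TensorProduct.map_injective_of_flat_flat (LinearMap.mulLeft k a) (LinearMap.mulLeft k b)
    ((injective_iff_map_eq_zero _).2 ha) ((injective_iff_map_eq_zero _).2 hb)
  refine hinj ?_
  rw [map_zero, ← hu]
  clear hu
  induction u using TensorProduct.induction_on with
  | zero => rw [map_zero, mul_zero]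
  | tmul x y => rw [TensorProduct.map_tmul, Algebra.TensorProduct.tmul_mul_tmul]; rfl
  | add p q hp hq => rw [map_add, hp, hq, mul_add]

/-- A product with one factor drop of one. -/
theorem eq_one_of_mul_eq_succ {p q p' q' : ℕ} (hp : p' ≤ p) (hq : q' ≤ q) (h : p * q = p' * q' + 1) :
    p = 1 ∨ q = 1 := by
  rcases eq_or_lt_of_le hp with rfl | hp'
  · left
    have : p' ∣ 1 := ⟨q - q', by rw [Nat.mul_sub]; omega⟩
    exact Nat.dvd_one.1 this
  rcases eq_or_lt_of_le hq with rfl | hq'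
  · right
    have : q' ∣ 1 := ⟨p - p', by rw [Nat.mul_sub, mul_comm q' p, mul_comm q' p']; omega⟩
    exact Nat.dvd_one.1 this
  by_contra hc
  push Not at hc
  obtain ⟨a, rfl⟩ : ∃ a, p = a + 1 := ⟨p - 1, by omega⟩
  obtain ⟨b, rfl⟩ : ∃ b, q = b + 1 := ⟨q - 1, by omega⟩
  have := Nat.mul_le_mul (show p' ≤ a by omega) (show q' ≤ b by omega)
  ring_nf at h this
  omega

set_option maxHeartbeats 800000 in
/-- In a Gorenstein Segre product of one-dimensional standard algebras one factor is `k[x]`. -/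
theorem exists_finrank_eq_one [Algebra.FiniteType k R] [Algebra.FiniteType k S]
    [Algebra.FiniteType k T] [Nontrivial T]
    [LocCoh.IsCohenMacaulayRing R] [LocCoh.IsCohenMacaulayRing S] [LocCoh.IsGorensteinRing T]
    (hT : _root_.GrSeg.IsSegreRing 𝒜 ℬ 𝒯 ψ)
    (hposR : ∀ n : ℤ, n < 0 → 𝒜 n = ⊥) (h0R : 𝒜 0 = Submodule.span k {(1 : R)})
    (hposS : ∀ n : ℤ, n < 0 → ℬ n = ⊥) (h0S : ℬ 0 = Submodule.span k {(1 : S)})
    (hposT : ∀ n : ℤ, n < 0 → 𝒯 n = ⊥) (h0T : 𝒯 0 = Submodule.span k {(1 : T)})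
    (hstdR : Ideal.span (⋃ n ∈ Set.Ioi (0 : ℤ), (𝒜 n : Set R)) =
      Ideal.span ((𝒜 1 : Submodule k R) : Set R))
    (hstdS : Ideal.span (⋃ n ∈ Set.Ioi (0 : ℤ), (ℬ n : Set S)) =
      Ideal.span ((ℬ 1 : Submodule k S) : Set S))
    (hr : ringKrullDim R = 1) (hs : ringKrullDim S = 1) (ht : ringKrullDim T = 1) :
    ∃ N : ℕ, Module.finrank k (𝒜 ((N + 1 : ℕ) : ℤ)) = 1 ∨
      Module.finrank k (ℬ ((N + 1 : ℕ) : ℤ)) = 1 := by
  obtain ⟨dR, hdR, a, ha, har⟩ := exists_nzd 𝒜 hposR h0R hr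
  obtain ⟨dS, hdS, b, hb, hbr⟩ := exists_nzd ℬ hposS h0S hs
  have ha' : a ^ dS ∈ 𝒜 ((dR * dS : ℕ) : ℤ) := by
    have := SetLike.pow_mem_graded dS ha
    rwa [nsmul_eq_mul, show ((dS : ℕ) : ℤ) * (dR : ℤ) = ((dR * dS : ℕ) : ℤ) by push_cast; ring] at this
  have hb' : b ^ dR ∈ ℬ ((dR * dS : ℕ) : ℤ) := by
    have := SetLike.pow_mem_graded dR hb
    rwa [nsmul_eq_mul, show ((dR : ℕ) : ℤ) * (dS : ℤ) = ((dR * dS : ℕ) : ℤ) by push_cast; ring] at this
  generalize hdef : ((dR * dS : ℕ) : ℤ) = d at ha' hb'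
  have hd : 0 < d := by rw [← hdef]; exact_mod_cast Nat.mul_pos hdR hdS
  obtain ⟨f, hf, hfe⟩ := (hT.2 d).ge (Submodule.subset_span ⟨a ^ dS, ha', b ^ dR, hb', rfl⟩ :
    (a ^ dS) ⊗ₜ[k] (b ^ dR) ∈ _root_.GrSeg.segrePiece k 𝒜 ℬ d)
  have hfr : ∀ y : T, f * y = 0 → y = 0 := fun y hy => hT.1 <| by
    rw [map_zero]
    refine tmul_nzd (nzd_pow har dS) (nzd_pow hbr dR) _ ?_
    rw [← hfe]
    change ψ f * ψ y = 0
    rw [← map_mul, hy, map_zero]
  obtain ⟨c, hc, hc1, hc2⟩ := exists_socle_degree 𝒯 hposT h0T ht hd hf hfr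
  rw [finrank_segre_piece hT, finrank_segre_piece hT] at hc1
  have hpR := finrank_le_of_nzd 𝒜 hposR h0R ha' (nzd_pow har dS)
  have hpS := finrank_le_of_nzd ℬ hposS h0S hb' (nzd_pow hbr dR)
  have h2 := hc2 (c + d) (by omega)
  rw [add_sub_cancel_right, finrank_segre_piece hT, finrank_segre_piece hT] at h2
  have hR' := hpR (c + d)
  have hS' := hpS (c + d)
  rw [add_sub_cancel_right] at hR' hS'
  obtain ⟨N, hN⟩ : ∃ N : ℕ, c + d = ((N + 1 : ℕ) : ℤ) := ⟨(c + d - 1).toNat, by omega⟩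
  refine ⟨N, ?_⟩
  rw [← hN]
  have hR1 := one_le_finrank 𝒜 hposR h0R hstdR hr hc
  have hS1 := one_le_finrank ℬ hposS h0S hstdS hs hc
  rcases eq_one_of_mul_eq_succ (hpR c) (hpS c) hc1 with h | h
  · left
    refine le_antisymm ?_ (one_le_finrank 𝒜 hposR h0R hstdR hr (by omega))
    refine Nat.le_of_mul_le_mul_right (?_ : _ * Module.finrank k (ℬ c) ≤ 1 * _) hS1
    calc _ ≤ Module.finrank k (𝒜 (c + d)) * Module.finrank k (ℬ (c + d)) := Nat.mul_le_mul_left _ hS'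
      _ = Module.finrank k (𝒜 c) * Module.finrank k (ℬ c) := h2
      _ = 1 * _ := by rw [h]
  · right
    refine le_antisymm ?_ (one_le_finrank ℬ hposS h0S hstdS hs (by omega))
    refine Nat.le_of_mul_le_mul_left (?_ : Module.finrank k (𝒜 c) * _ ≤ _ * 1) hR1
    calc _ ≤ Module.finrank k (𝒜 (c + d)) * Module.finrank k (ℬ (c + d)) := Nat.mul_le_mul_right _ hR'
      _ = Module.finrank k (𝒜 c) * Module.finrank k (ℬ c) := h2
      _ = _ * 1 := by rw [h]

/-- With a polynomial second factor, the Segre product is the first factor. -/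
theorem nonempty_ringEquiv_left (hT : _root_.GrSeg.IsSegreRing 𝒜 ℬ 𝒯 ψ)
    (hposR : ∀ n : ℤ, n < 0 → 𝒜 n = ⊥) (hposS : ∀ n : ℤ, n < 0 → ℬ n = ⊥)
    (h0S : ℬ 0 = Submodule.span k {(1 : S)}) {g : S} (hg : g ∈ ℬ 1)
    (hgr : ∀ y : S, g * y = 0 → y = 0) [Nontrivial S]
    (hspan : ∀ e : ℤ, 1 ≤ e → ∀ y ∈ ℬ e, ∃ z ∈ ℬ (e - 1), y = g * z) : Nonempty (T ≃+* R) := by
  classical
  let e := AlgEquiv.ofBijective (Polynomial.aeval (R := k) g) (aeval_bijective ℬ hposS h0S hg hgr hspan)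
  let ε : S →ₐ[k] k := (Polynomial.aeval (1 : k)).comp e.symm.toAlgHom
  have hεg : ε g = 1 := by
    have : e Polynomial.X = g := Polynomial.aeval_X g
    change Polynomial.aeval (1 : k) (e.symm g) = 1
    rw [← this, e.symm_apply_apply, Polynomial.aeval_X]
  let χ : T →ₐ[k] R := ((Algebra.TensorProduct.rid k k R).toAlgHom.comp
    (Algebra.TensorProduct.map (AlgHom.id k R) ε)).comp ψ
  have hpow : ∀ n : ℕ, g ^ n ∈ ℬ (n : ℤ) := fun n => by
    have := SetLike.pow_mem_graded n hg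
    rwa [nsmul_eq_mul, mul_one] at this
  have hform : ∀ (n : ℕ), ∀ t ∈ 𝒯 (n : ℤ), ∃ x ∈ 𝒜 (n : ℤ), ψ t = x ⊗ₜ[k] (g ^ n) ∧ χ t = x := by
    intro n t ht
    obtain ⟨x, hx, hxe⟩ : ∃ x ∈ 𝒜 (n : ℤ), ψ t = x ⊗ₜ[k] (g ^ n) := by
      have h : ψ t ∈ _root_.GrSeg.segrePiece k 𝒜 ℬ (n : ℤ) := (hT.2 _).le ⟨t, ht, rfl⟩
      generalize ψ t = v at h
      induction h using Submodule.span_induction with
      | mem v hv =>
        obtain ⟨a, ha, b, hb, rfl⟩ := hv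
        obtain ⟨c, rfl⟩ := forall_piece_eq_span ℬ hposS h0S hspan n hb
        exact ⟨c • a, Submodule.smul_mem _ _ ha, (TensorProduct.smul_tmul c a _).symm⟩
      | zero => exact ⟨0, zero_mem _, (TensorProduct.zero_tmul _ _).symm⟩
      | add p q _ _ hp hq =>
        obtain ⟨a, ha, rfl⟩ := hp; obtain ⟨a', ha', rfl⟩ := hq
        exact ⟨a + a', add_mem ha ha', (TensorProduct.add_tmul _ _ _).symm⟩
      | smul c p _ hp =>
        obtain ⟨a, ha, rfl⟩ := hp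
        exact ⟨c • a, Submodule.smul_mem _ _ ha, (TensorProduct.smul_tmul' c a _)⟩
    refine ⟨x, hx, hxe, ?_⟩
    change (Algebra.TensorProduct.rid k k R) (Algebra.TensorProduct.map (AlgHom.id k R) ε (ψ t)) = x
    rw [hxe, Algebra.TensorProduct.map_tmul, map_pow, hεg, one_pow, Algebra.TensorProduct.rid_tmul,
      AlgHom.id_apply, one_smul]
  have hdegree : ∀ i, ∀ t ∈ 𝒯 i, χ t ∈ 𝒜 i ∧ (χ t = 0 → t = 0) := by
    intro i t ht
    rcases lt_or_ge i 0 with hi | hi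
    · obtain rfl : t = 0 := eq_zero_of_neg 𝒯 (segre_hpos 𝒜 ℬ hT hposR) hi ht
      simp
    · obtain ⟨n, rfl⟩ : ∃ n : ℕ, i = n := ⟨i.toNat, by omega⟩
      obtain ⟨x, hx, hxe, hχ⟩ := hform n t ht
      rw [hχ]
      exact ⟨hx, fun h => hT.1 (by rw [hxe, h, TensorProduct.zero_tmul, map_zero])⟩
  refine ⟨RingEquiv.ofBijective χ ⟨(injective_iff_map_eq_zero _).2 fun t ht => ?_, fun x => ?_⟩⟩
  · refine eq_zero_of_cpt 𝒯 fun i => (hdegree i _ (cpt_mem 𝒯 i t)).2 ?_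
    have hg' : _root_.GrLC.IsGrHom 𝒯 𝒜 χ.toLinearMap := fun j y hy => (hdegree j y hy).1
    have := map_cpt (ℳ := 𝒯) (𝒩 := 𝒜) hg' i t
    change χ (cpt 𝒯 i t) = cpt 𝒜 i (χ t) at this
    rw [this, ht, map_zero]
  · induction x using homogeneous_induction 𝒜 with
    | zero => exact ⟨0, map_zero χ⟩
    | add u v hu hv =>
      obtain ⟨p, rfl⟩ := hu; obtain ⟨q, rfl⟩ := hv; exact ⟨p + q, map_add χ p q⟩
    | hom i x hx =>
      rcases lt_or_ge i 0 with hi | hi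
      · exact ⟨0, by rw [map_zero, eq_zero_of_neg 𝒜 hposR hi hx]⟩
      · obtain ⟨n, rfl⟩ : ∃ n : ℕ, i = n := ⟨i.toNat, by omega⟩
        obtain ⟨t, -, hte⟩ := (hT.2 (n : ℤ)).ge (Submodule.subset_span ⟨x, hx, g ^ n, hpow n, rfl⟩ :
          x ⊗ₜ[k] (g ^ n) ∈ _root_.GrSeg.segrePiece k 𝒜 ℬ (n : ℤ))
        refine ⟨t, ?_⟩
        change (Algebra.TensorProduct.rid k k R) (Algebra.TensorProduct.map (AlgHom.id k R) ε (ψ t)) = x
        rw [show ψ t = x ⊗ₜ[k] (g ^ n) from hte, Algebra.TensorProduct.map_tmul, map_pow, hεg, one_pow,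
          Algebra.TensorProduct.rid_tmul, AlgHom.id_apply, one_smul]

end Segre

end Groth.Agent.GrSegre
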