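import Groth.Agent.GrSegre.TotRes
import Mathlib.LinearAlgebra.Contraction

/-!
# The Segre product of graded duals is the graded dual of the Segre product
-/

set_option autoImplicit false
set_option linter.unusedSectionVars false
set_option linter.style.haveILetI false
universe u

open DirectSum TensorProduct
open Groth.Agent.GrLC

noncomputable section

namespace Groth.Agent.GrSegre

variable {k : Type u} [Field k]
variable {R S : Type u} [CommRing R] [CommRing S] [Algebra k R] [Algebra k S]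
  {𝒜 : ℤ → Submodule k R} [GradedAlgebra 𝒜] {ℬ : ℤ → Submodule k S} [GradedAlgebra ℬ]
  {T : Type u} [CommRing T] [Algebra k T]
  {ψ : T →ₐ[k] R ⊗[k] S}

section Piece

variable {H : Type u} [AddCommGroup H] [Module R H] [Module k H] [IsScalarTower k R H]
  {τ : Type u} [SetLike τ H] [AddSubgroupClass τ H] {ℋ : ℤ → τ} [DirectSum.Decomposition ℋ]
  [SetLike.GradedSMul 𝒜 ℋ]
variable {D : Type u} [AddCommGroup D] [Module R D] [Module k D] [IsScalarTower k R D]
  {τ' : Type u} [SetLike τ' D] [AddSubgroupClass τ' D] {𝒟 : ℤ → τ'} [DirectSum.Decomposition 𝒟]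
  [SetLike.GradedSMul 𝒜 𝒟]

variable (𝒜 ℋ 𝒟) in
/-- a pairing seen on a piece -/
def pairRes (β : D →ₗ[k] H →ₗ[k] k) (n : ℤ) : kPc 𝒜 𝒟 n →ₗ[k] Module.Dual k (kPc 𝒜 ℋ (-n)) :=
  (kPc 𝒜 ℋ (-n)).subtype.dualMap.comp (β.comp (kPc 𝒜 𝒟 n).subtype)

theorem pairRes_bijective {β : D →ₗ[k] H →ₗ[k] k} (hD : _root_.GrSeg.IsGDual R ℋ 𝒟 β) (n : ℤ) :
    Function.Bijective (pairRes 𝒜 ℋ 𝒟 β n) := by
  refine ⟨(injective_iff_map_eq_zero _).2 fun c hc => Subtype.ext (hD.eq_zero n c.1 c.2 fun x hx =>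
    LinearMap.congr_fun hc ⟨x, hx⟩), fun l => ?_⟩
  obtain ⟨g, hg⟩ := LinearMap.exists_extend l
  obtain ⟨c, hc, hcx⟩ := hD.exists_eq n g
  refine ⟨⟨c, hc⟩, LinearMap.ext fun x => ?_⟩
  change β c x.1 = l x
  rw [hcx x.1 x.2, ← hg]
  rfl

theorem finite_piece_of_gdual {β : D →ₗ[k] H →ₗ[k] k} (hD : _root_.GrSeg.IsGDual R ℋ 𝒟 β) (n : ℤ)
    [Module.Finite k (kPc 𝒜 𝒟 n)] : Module.Finite k (kPc 𝒜 ℋ (-n)) := by
  haveI : Module.Finite k (Module.Dual k (kPc 𝒜 ℋ (-n))) :=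
    Module.Finite.equiv (LinearEquiv.ofBijective _ (pairRes_bijective (𝒜 := 𝒜) hD n))
  exact (Module.finite_dual_iff k).1 inferInstance

end Piece

section Range

variable {M N : Type u} [AddCommGroup M] [Module R M] [Module k M] [IsScalarTower k R M]
  [AddCommGroup N] [Module S N] [Module k N] [IsScalarTower k S N]
  {τ τ' : Type u} [SetLike τ M] [AddSubgroupClass τ M] [SetLike τ' N] [AddSubgroupClass τ' N]

variable (𝒜 ℬ) in
theorem range_map_pieces (ℳ : ℤ → τ) [DirectSum.Decomposition ℳ] [SetLike.GradedSMul 𝒜 ℳ]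
    (𝒩 : ℤ → τ') [DirectSum.Decomposition 𝒩] [SetLike.GradedSMul ℬ 𝒩] (d : ℤ) :
    LinearMap.range (TensorProduct.map (kPc 𝒜 ℳ d).subtype (kPc ℬ 𝒩 d).subtype) =
      _root_.GrSeg.segrePiece k ℳ 𝒩 d := by
  refine le_antisymm ?_ (Submodule.span_le.2 ?_)
  · rintro _ ⟨u, rfl⟩
    induction u using TensorProduct.induction_on with
    | zero => rw [map_zero]; exact zero_mem _
    | add x y hx hy => rw [map_add]; exact add_mem hx hy
    | tmul x y => exact Submodule.subset_span ⟨x.1, x.2, y.1, y.2, rfl⟩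
  · rintro _ ⟨a, ha, b, hb, rfl⟩
    exact ⟨(⟨a, ha⟩ : kPc 𝒜 ℳ d) ⊗ₜ[k] (⟨b, hb⟩ : kPc ℬ 𝒩 d), rfl⟩

end Range

variable {HR : Type u} [AddCommGroup HR] [Module R HR] [Module k HR] [IsScalarTower k R HR]
  {τ₁ : Type u} [SetLike τ₁ HR] [AddSubgroupClass τ₁ HR] {ℋR : ℤ → τ₁} [DirectSum.Decomposition ℋR]
  [SetLike.GradedSMul 𝒜 ℋR]
variable {HS : Type u} [AddCommGroup HS] [Module S HS] [Module k HS] [IsScalarTower k S HS]
  {τ₂ : Type u} [SetLike τ₂ HS] [AddSubgroupClass τ₂ HS] {ℋS : ℤ → τ₂} [DirectSum.Decomposition ℋS]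
  [SetLike.GradedSMul ℬ ℋS]
variable {DR : Type u} [AddCommGroup DR] [Module R DR] [Module k DR] [IsScalarTower k R DR]
  {τ₃ : Type u} [SetLike τ₃ DR] [AddSubgroupClass τ₃ DR] {𝒟R : ℤ → τ₃} [DirectSum.Decomposition 𝒟R]
  [SetLike.GradedSMul 𝒜 𝒟R]
variable {DS : Type u} [AddCommGroup DS] [Module S DS] [Module k DS] [IsScalarTower k S DS]
  {τ₄ : Type u} [SetLike τ₄ DS] [AddSubgroupClass τ₄ DS] {𝒟S : ℤ → τ₄} [DirectSum.Decomposition 𝒟S]
  [SetLike.GradedSMul ℬ 𝒟S]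

/-- the product of two pairings -/
def tensPairing (βR : DR →ₗ[k] HR →ₗ[k] k) (βS : DS →ₗ[k] HS →ₗ[k] k) :
    DR ⊗[k] DS →ₗ[k] Module.Dual k (HR ⊗[k] HS) :=
  (TensorProduct.dualDistrib k HR HS).comp (TensorProduct.map βR βS)

theorem tensPairing_tmul (βR : DR →ₗ[k] HR →ₗ[k] k) (βS : DS →ₗ[k] HS →ₗ[k] k) (d : DR) (d' : DS)
    (h : HR) (h' : HS) : tensPairing βR βS (d ⊗ₜ[k] d') (h ⊗ₜ[k] h') = βR d h * βS d' h' := by
  simp [tensPairing]

theorem tensPairing_act {βR : DR →ₗ[k] HR →ₗ[k] k} {βS : DS →ₗ[k] HS →ₗ[k] k}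
    (hR : ∀ (r : R) d h, βR (r • d) h = βR d (r • h)) (hS : ∀ (s : S) d h, βS (s • d) h = βS d (s • h))
    (u : R ⊗[k] S) (v : DR ⊗[k] DS) (w : HR ⊗[k] HS) :
    tensPairing βR βS (_root_.GrSeg.act k R S DR DS u v) w =
      tensPairing βR βS v (_root_.GrSeg.act k R S HR HS u w) := by
  induction u using TensorProduct.induction_on with
  | zero => simp
  | add a b ha hb => simp only [map_add, LinearMap.add_apply, ha, hb]
  | tmul r s =>
    induction v using TensorProduct.induction_on with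
    | zero => simp
    | add a b ha hb => simp only [map_add, LinearMap.add_apply, ha, hb]
    | tmul d d' =>
      induction w using TensorProduct.induction_on with
      | zero => simp
      | add a b ha hb => simp only [map_add, ha, hb]
      | tmul h h' =>
        rw [_root_.GrSeg.act_tmul, _root_.GrSeg.act_tmul, tensPairing_tmul, tensPairing_tmul, hR, hS]

variable {P : Type u} [AddCommGroup P] [Module T P] [Module k P] [IsScalarTower k T P]
  {τP : Type u} [SetLike τP P] [AddSubgroupClass τP P] {𝒬 : ℤ → τP} [DirectSum.Decomposition 𝒬]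
  {φ : P →ₗ[k] DR ⊗[k] DS}
variable {Q : Type u} [AddCommGroup Q] [Module T Q] [Module k Q] [IsScalarTower k T Q]
  {τQ : Type u} [SetLike τQ Q] [AddSubgroupClass τQ Q] {𝒬H : ℤ → τQ} [DirectSum.Decomposition 𝒬H]
  {φ' : Q →ₗ[k] HR ⊗[k] HS}

variable (𝒜 ℬ) in
/-- Segre products of graded duals pair perfectly -/
theorem exists_gdual_segre {βR : DR →ₗ[k] HR →ₗ[k] k} (hR : _root_.GrSeg.IsGDual R ℋR 𝒟R βR)
    {βS : DS →ₗ[k] HS →ₗ[k] k} (hS : _root_.GrSeg.IsGDual S ℋS 𝒟S βS)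
    (hP : _root_.GrSeg.IsSegreMod ψ 𝒟R 𝒟S 𝒬 φ) (hQ : _root_.GrSeg.IsSegreMod ψ ℋR ℋS 𝒬H φ')
    (hfR : ∀ n, Module.Finite k (kPc 𝒜 𝒟R n)) (hfS : ∀ n, Module.Finite k (kPc ℬ 𝒟S n)) :
    ∃ β : P →ₗ[k] Q →ₗ[k] k, _root_.GrSeg.IsGDual T 𝒬H 𝒬 β := by
  have hbij : ∀ n, Function.Bijective ((TensorProduct.map (kPc 𝒜 ℋR (-n)).subtype
      (kPc ℬ ℋS (-n)).subtype).dualMap.comp ((tensPairing βR βS).comp
        (TensorProduct.map (kPc 𝒜 𝒟R n).subtype (kPc ℬ 𝒟S n).subtype))) := by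
    intro n
    haveI := hfR n
    haveI := hfS n
    haveI := finite_piece_of_gdual (𝒜 := 𝒜) hR n
    haveI := finite_piece_of_gdual (𝒜 := ℬ) hS n
    have h : (TensorProduct.map (kPc 𝒜 ℋR (-n)).subtype (kPc ℬ ℋS (-n)).subtype).dualMap.comp
        ((tensPairing βR βS).comp (TensorProduct.map (kPc 𝒜 𝒟R n).subtype (kPc ℬ 𝒟S n).subtype)) =
        ((TensorProduct.congr (LinearEquiv.ofBijective _ (pairRes_bijective (𝒜 := 𝒜) hR n))
          (LinearEquiv.ofBijective _ (pairRes_bijective (𝒜 := ℬ) hS n))).trans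
            (TensorProduct.dualDistribEquiv k _ _)).toLinearMap := by
      refine TensorProduct.ext' fun d d' => TensorProduct.ext' fun x y => ?_
      simp [tensPairing, pairRes, TensorProduct.dualDistribEquiv]
    rw [h]
    exact LinearEquiv.bijective _
  refine ⟨φ'.dualMap.comp ((tensPairing βR βS).comp φ), ⟨fun t p q => ?_, fun n p hp m hm q hq => ?_,
    fun n p hp h => ?_, fun n g => ?_⟩⟩
  · change tensPairing βR βS (φ (t • p)) (φ' q) = tensPairing βR βS (φ p) (φ' (t • q))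
    rw [hP.map_smul, hQ.map_smul, tensPairing_act hR.map_smul hS.map_smul]
  · change tensPairing βR βS (φ p) (φ' q) = 0
    have h1 := mem_segrePiece_of_mem _ _ hP hp
    have h2 := mem_segrePiece_of_mem _ _ hQ hq
    generalize φ p = v, φ' q = w at h1 h2
    induction h1 using Submodule.span_induction with
    | mem v hv =>
      obtain ⟨d, hd, d', -, rfl⟩ := hv
      induction h2 using Submodule.span_induction with
      | mem w hw =>
        obtain ⟨x, hx, y, -, rfl⟩ := hw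
        rw [tensPairing_tmul, hR.vanish n d hd m hm x hx, zero_mul]
      | zero => simp
      | add a b _ _ ha hb => rw [map_add, ha, hb, add_zero]
      | smul c a _ ha => rw [map_smul, ha, smul_zero]
    | zero => simp
    | add a b _ _ ha hb => rw [map_add, LinearMap.add_apply, ha, hb, add_zero]
    | smul c a _ ha => rw [map_smul, LinearMap.smul_apply, ha, smul_zero]
  · obtain ⟨u, hu⟩ := (range_map_pieces 𝒜 ℬ 𝒟R 𝒟S n).ge (mem_segrePiece_of_mem _ _ hP hp)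
    refine hP.injective ?_
    rw [map_zero, ← hu, show u = 0 from (hbij n).1 ?_, map_zero]
    rw [map_zero]
    refine LinearMap.ext fun v => ?_
    obtain ⟨q, hq, hqv⟩ := exists_mem_eq ℋR ℋS hQ ((range_map_pieces 𝒜 ℬ ℋR ℋS (-n)).le ⟨v, rfl⟩)
    have h' := h q hq
    change tensPairing βR βS (φ p) (φ' q) = 0 at h'
    rw [hqv, ← hu] at h'
    exact h'
  · obtain ⟨L, hL⟩ := φ'.exists_leftInverse_of_injective (LinearMap.ker_eq_bot.2 hQ.injective)
    obtain ⟨u, hu⟩ := (hbij n).2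
      ((g.comp L).comp (TensorProduct.map (kPc 𝒜 ℋR (-n)).subtype (kPc ℬ ℋS (-n)).subtype))
    obtain ⟨p, hp, hpu⟩ := exists_mem_eq 𝒟R 𝒟S hP ((range_map_pieces 𝒜 ℬ 𝒟R 𝒟S n).le ⟨u, rfl⟩)
    refine ⟨p, hp, fun q hq => ?_⟩
    obtain ⟨v, hv⟩ := (range_map_pieces 𝒜 ℬ ℋR ℋS (-n)).ge (mem_segrePiece_of_mem _ _ hQ hq)
    change tensPairing βR βS (φ p) (φ' q) = g q
    rw [hpu, ← hv]
    refine (LinearMap.congr_fun hu v).trans ?_
    change g (L (TensorProduct.map _ _ v)) = g q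
    rw [hv]
    exact congrArg g (LinearMap.congr_fun hL q)

end Groth.Agent.GrSegre
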