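import Groth.Agent.GrSegre.Proj
import Groth.Agent.GrSegre.Sop

/-!
# The number of generators of `R(a) # S(b)`
-/

set_option autoImplicit false
set_option linter.unusedSectionVars false
set_option linter.style.haveILetI false
universe u

open DirectSum TensorProduct
open Groth.Agent.GrLC

noncomputable section

namespace Groth.Agent.GrSegre

variable {k : Type u} [Field k]

/-- standard grading: `R_{p+1} = R_p R_1` -/
theorem mem_span_mul_one {R : Type u} [CommRing R] [Algebra k R] {𝒜 : ℤ → Submodule k R} [GradedAlgebra 𝒜]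
    (hstd : Ideal.span (⋃ n ∈ Set.Ioi (0 : ℤ), (𝒜 n : Set R)) = Ideal.span ((𝒜 1 : Submodule k R) : Set R))
    {p : ℤ} (hp : 0 ≤ p) {x : R} (hx : x ∈ 𝒜 (p + 1)) :
    x ∈ Submodule.span k {y | ∃ c ∈ 𝒜 p, ∃ e ∈ 𝒜 1, y = c * e} := by
  have hmem : x ∈ Ideal.span ((𝒜 1 : Submodule k R) : Set R) :=
    hstd ▸ Ideal.subset_span (Set.mem_iUnion₂.2 ⟨p + 1, Set.mem_Ioi.2 (by omega), hx⟩)
  suffices h : ∀ r : R, cpt 𝒜 (p + 1) (r * x) ∈ Submodule.span k {y | ∃ c ∈ 𝒜 p, ∃ e ∈ 𝒜 1, y = c * e} by
    have h1 := h 1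
    rwa [one_mul, cpt_of_mem 𝒜 hx] at h1
  clear hx
  induction hmem using Submodule.span_induction with
  | zero => intro r; rw [mul_zero, map_zero]; exact zero_mem _
  | add u v _ _ hu hv => intro r; rw [mul_add, map_add]; exact add_mem (hu r) (hv r)
  | smul c v _ hv => intro r; rw [smul_eq_mul, ← mul_assoc]; exact hv _
  | mem e he =>
    intro r
    induction r using homogeneous_induction 𝒜 with
    | zero => rw [zero_mul, map_zero]; exact zero_mem _
    | add u v hu hv => rw [add_mul, map_add]; exact add_mem hu hv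
    | hom j r hr =>
      have hm : r * e ∈ 𝒜 (j + 1) := SetLike.GradedMul.mul_mem hr he
      by_cases h : j = p
      · subst h
        rw [cpt_of_mem 𝒜 hm]
        exact Submodule.subset_span ⟨r, hr, e, he, rfl⟩
      · rw [cpt_of_mem_ne 𝒜 hm (fun e => h (by omega))]
        exact zero_mem _

variable {R S : Type u} [CommRing R] [CommRing S] [Algebra k R] [Algebra k S]
  {𝒜 : ℤ → Submodule k R} [GradedAlgebra 𝒜] {ℬ : ℤ → Submodule k S} [GradedAlgebra ℬ]
  {T : Type u} [CommRing T] [Algebra k T] {𝒯 : ℤ → Submodule k T} [GradedAlgebra 𝒯]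
  {ψ : T →ₐ[k] R ⊗[k] S}
variable {P : Type u} [AddCommGroup P] [Module T P] [Module k P] [IsScalarTower k T P]
  {τQ : Type u} [SetLike τQ P] [AddSubgroupClass τQ P] {𝒬 : ℤ → τQ} [DirectSum.Decomposition 𝒬]
  {τ₁ τ₂ : Type u} [SetLike τ₁ R] [SetLike τ₂ S] {ℳ : ℤ → τ₁} {𝒩 : ℤ → τ₂}
  {φ : P →ₗ[k] R ⊗[k] S} {a b : ℤ}

/-- `ν(R(a) # S(b)) = dim R_{a-b}` -/
theorem finrank_quot_shift [Nontrivial S] (hT : _root_.GrSeg.IsSegreRing 𝒜 ℬ 𝒯 ψ)
    (hposS : ∀ n : ℤ, n < 0 → ℬ n = ⊥) (h0S : ℬ 0 = Submodule.span k {(1 : S)})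
    (hstdR : Ideal.span (⋃ n ∈ Set.Ioi (0 : ℤ), (𝒜 n : Set R)) = Ideal.span ((𝒜 1 : Submodule k R) : Set R))
    (hstdS : Ideal.span (⋃ n ∈ Set.Ioi (0 : ℤ), (ℬ n : Set S)) = Ideal.span ((ℬ 1 : Submodule k S) : Set S))
    (mT : Ideal T) (hmT : mT = Ideal.span (⋃ n ∈ Set.Ioi (0 : ℤ), (𝒯 n : Set T)))
    (hab : b ≤ a) (hM : ∀ (n : ℤ) (x : R), x ∈ ℳ n ↔ x ∈ 𝒜 (n + a))
    (hN : ∀ (n : ℤ) (x : S), x ∈ 𝒩 n ↔ x ∈ ℬ (n + b))
    (hP : _root_.GrSeg.IsSegreMod ψ ℳ 𝒩 𝒬 φ) :
    Module.finrank k (P ⧸ (mT • (⊤ : Submodule T P))) = Module.finrank k (𝒜 (a - b)) := by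
  classical
  let π : R ⊗[k] S →ₗ[k] R ⊗[k] S := TensorProduct.map (cptₗ 𝒜 𝒜 (a - b)) (cptₗ ℬ ℬ 0)
  have hmemQ : ∀ {n : ℤ} {q : P}, q ∈ 𝒬 n → φ q ∈ _root_.GrSeg.segrePiece k ℳ 𝒩 n := fun hq =>
    (hP.image_piece _).le ⟨_, hq, rfl⟩
  have hneg : ∀ {n : ℤ} {q : P}, n < -b → q ∈ 𝒬 n → q = 0 := fun {n q} hn hq => hP.injective <| by
    rw [map_zero]
    suffices hle : _root_.GrSeg.segrePiece k ℳ 𝒩 n ≤ ⊥ from (Submodule.mem_bot k).1 (hle (hmemQ hq))
    refine Submodule.span_le.2 ?_
    rintro _ ⟨x, -, y, hy, rfl⟩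
    rw [hN, hposS _ (by omega), Submodule.mem_bot] at hy
    simp [hy]
  have hπ : ∀ (n : ℤ), ∀ u ∈ _root_.GrSeg.segrePiece k ℳ 𝒩 n, π u = if n = -b then u else 0 := by
    intro n u hu
    induction hu using Submodule.span_induction with
    | zero => simp
    | add u v _ _ hu hv => rw [map_add, hu, hv]; split_ifs <;> simp
    | smul c u _ hu => rw [map_smul, hu]; split_ifs <;> simp
    | mem u hu =>
      obtain ⟨x, hx, y, hy, rfl⟩ := hu
      rw [hM] at hx
      rw [hN] at hy
      simp only [π, TensorProduct.map_tmul, cptₗ_apply]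
      split_ifs with h
      · subst h
        rw [show -b + a = a - b by ring] at hx
        rw [show -b + b = 0 by ring] at hy
        rw [cpt_of_mem 𝒜 hx, cpt_of_mem ℬ hy]
      · rw [cpt_of_mem_ne ℬ hy (by omega), TensorProduct.tmul_zero]
  have hact : ∀ i, ∀ t ∈ 𝒯 i, ∀ n, ∀ q ∈ 𝒬 n, φ (t • q) ∈ _root_.GrSeg.segrePiece k ℳ 𝒩 (i + n) := by
    intro i t ht n q hq
    rw [hP.map_smul]
    have h1 : ψ t ∈ _root_.GrSeg.segrePiece k 𝒜 ℬ i := (hT.2 i).le ⟨t, ht, rfl⟩
    have h2 := hmemQ hq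
    generalize ψ t = u, φ q = v at h1 h2
    induction h1 using Submodule.span_induction with
    | zero => simp
    | add u v _ _ hu hv => rw [map_add, LinearMap.add_apply]; exact add_mem hu hv
    | smul c u _ hu => rw [map_smul, LinearMap.smul_apply]; exact Submodule.smul_mem _ c hu
    | mem u hu =>
      obtain ⟨α, hα, β, hβ, rfl⟩ := hu
      induction h2 using Submodule.span_induction with
      | zero => simp
      | add u v _ _ hu hv => rw [map_add]; exact add_mem hu hv
      | smul c u _ hu => rw [map_smul]; exact Submodule.smul_mem _ c hu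
      | mem v hv =>
        obtain ⟨x, hx, y, hy, rfl⟩ := hv
        rw [hM] at hx
        rw [hN] at hy
        rw [_root_.GrSeg.act_tmul]
        refine Submodule.subset_span ⟨α • x, (hM _ _).2 ?_, β • y, (hN _ _).2 ?_, rfl⟩
        · rw [add_assoc]; exact SetLike.GradedMul.mul_mem hα hx
        · rw [add_assoc]; exact SetLike.GradedMul.mul_mem hβ hy
  have hup : ∀ n, -b < n → ∀ q ∈ 𝒬 n, q ∈ mT • (⊤ : Submodule T P) := by
    intro n hn q hq
    have h := hmemQ hq
    suffices ∀ u ∈ _root_.GrSeg.segrePiece k ℳ 𝒩 n, ∃ p ∈ mT • (⊤ : Submodule T P), φ p = u by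
      obtain ⟨p, hp, hpq⟩ := this _ h
      rwa [← hP.injective hpq]
    intro u hu
    induction hu using Submodule.span_induction with
    | zero => exact ⟨0, zero_mem _, map_zero φ⟩
    | add u v _ _ hu hv =>
      obtain ⟨p, hp, rfl⟩ := hu
      obtain ⟨p', hp', rfl⟩ := hv
      exact ⟨p + p', add_mem hp hp', map_add φ p p'⟩
    | smul c u _ hu =>
      obtain ⟨p, hp, rfl⟩ := hu
      exact ⟨c • p, Submodule.smul_of_tower_mem _ c hp, map_smul φ c p⟩
    | mem u hu =>
      obtain ⟨x, hx, y, hy, rfl⟩ := hu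
      rw [hM, show n + a = n - 1 + a + 1 by ring] at hx
      rw [hN, show n + b = n - 1 + b + 1 by ring] at hy
      have hx' := mem_span_mul_one hstdR (by omega) hx
      have hy' := mem_span_mul_one hstdS (by omega) hy
      clear hx hy
      induction hx' using Submodule.span_induction with
      | zero => exact ⟨0, zero_mem _, by simp⟩
      | add u v _ _ hu hv =>
        obtain ⟨p, hp, hp1⟩ := hu
        obtain ⟨p', hp', hp2⟩ := hv
        exact ⟨p + p', add_mem hp hp', by rw [map_add, hp1, hp2, TensorProduct.add_tmul]⟩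
      | smul c u _ hu =>
        obtain ⟨p, hp, hp1⟩ := hu
        exact ⟨c • p, Submodule.smul_of_tower_mem _ c hp, by rw [map_smul, hp1, TensorProduct.smul_tmul']⟩
      | mem u hu =>
        obtain ⟨x', hx', e, he, rfl⟩ := hu
        induction hy' using Submodule.span_induction with
        | zero => exact ⟨0, zero_mem _, by simp⟩
        | add u v _ _ hu hv =>
          obtain ⟨p, hp, hp1⟩ := hu
          obtain ⟨p', hp', hp2⟩ := hv
          exact ⟨p + p', add_mem hp hp', by rw [map_add, hp1, hp2, TensorProduct.tmul_add]⟩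
        | smul c u _ hu =>
          obtain ⟨p, hp, hp1⟩ := hu
          exact ⟨c • p, Submodule.smul_of_tower_mem _ c hp, by rw [map_smul, hp1, TensorProduct.tmul_smul]⟩
        | mem v hv =>
          obtain ⟨y', hy', f, hf, rfl⟩ := hv
          obtain ⟨t, ht, htv⟩ := (hT.2 1).ge (Submodule.subset_span ⟨e, he, f, hf, rfl⟩ :
            e ⊗ₜ[k] f ∈ _root_.GrSeg.segrePiece k 𝒜 ℬ 1)
          obtain ⟨p, -, hp⟩ := (hP.image_piece (n - 1)).ge
            (Submodule.subset_span ⟨x', (hM _ _).2 hx', y', (hN _ _).2 hy', rfl⟩ :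
              x' ⊗ₜ[k] y' ∈ _root_.GrSeg.segrePiece k ℳ 𝒩 (n - 1))
          refine ⟨t • p, Submodule.smul_mem_smul ?_ trivial, ?_⟩
          · exact hmT ▸ Ideal.subset_span (Set.mem_iUnion₂.2 ⟨1, Set.mem_Ioi.2 one_pos, ht⟩)
          · rw [hP.map_smul, hp, show ψ t = e ⊗ₜ[k] f from htv, _root_.GrSeg.act_tmul, smul_eq_mul,
              smul_eq_mul, mul_comm e, mul_comm f]
  have hker : LinearMap.ker (π.comp φ) = (mT • (⊤ : Submodule T P)).restrictScalars k := by
    ext q
    rw [LinearMap.mem_ker, Submodule.restrictScalars_mem, LinearMap.comp_apply]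
    constructor
    · intro hq
      have h0 : cpt 𝒬 (-b) q = 0 := hP.injective <| by
        rw [map_zero, ← hq]
        conv_rhs => rw [← sum_cpt 𝒬 q]
        rw [map_sum, map_sum, Finset.sum_congr rfl fun g _ => hπ g _ (hmemQ (cpt_mem 𝒬 g q)),
          Finset.sum_ite_eq']
        split_ifs with h
        · rfl
        · rw [show cpt 𝒬 (-b) q = 0 by simpa [mem_degs] using h, map_zero]
      rw [← sum_cpt 𝒬 q]
      refine sum_mem fun g _ => ?_
      rcases lt_trichotomy g (-b) with h | h | h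
      · rw [hneg h (cpt_mem 𝒬 g q)]; exact zero_mem _
      · rw [h, h0]; exact zero_mem _
      · exact hup g h _ (cpt_mem 𝒬 g q)
    · intro hq
      refine Submodule.smul_induction_on hq (fun t ht p hp => ?_)
        (fun x y hx hy => by rw [map_add, map_add, hx, hy, add_zero])
      clear hp
      rw [hmT] at ht
      induction ht using Submodule.span_induction generalizing p with
      | zero => simp
      | add u v _ _ hu hv => rw [add_smul, map_add, map_add, hu, hv, add_zero]
      | smul c u _ hu => rw [smul_eq_mul, mul_comm, mul_smul]; exact hu _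
      | mem t ht =>
        obtain ⟨i, hi, hti⟩ := Set.mem_iUnion₂.1 ht
        induction p using homogeneous_induction 𝒬 with
        | zero => simp
        | add u v hu hv => rw [smul_add, map_add, map_add, hu, hv, add_zero]
        | hom g p hp =>
          rcases lt_or_ge g (-b) with hg | hg
          · rw [hneg hg hp, smul_zero, map_zero, map_zero]
          · rw [hπ _ _ (hact i t hti g p hp), if_neg]
            have := Set.mem_Ioi.1 hi
            omega
  have hrange : LinearMap.range (π.comp φ) =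
      LinearMap.range (TensorProduct.map (𝒜 (a - b)).subtype (ℬ 0).subtype) := by
    refine le_antisymm ?_ ?_
    · rintro _ ⟨q, rfl⟩
      rw [LinearMap.comp_apply]
      generalize φ q = u
      induction u using TensorProduct.induction_on with
      | zero => rw [map_zero]; exact zero_mem _
      | add u v hu hv => rw [map_add]; exact add_mem hu hv
      | tmul x y => exact ⟨(⟨_, cpt_mem 𝒜 (a - b) x⟩ : 𝒜 (a - b)) ⊗ₜ[k] (⟨_, cpt_mem ℬ 0 y⟩ : ℬ 0), rfl⟩
    · rintro _ ⟨u, rfl⟩
      have hu : TensorProduct.map (𝒜 (a - b)).subtype (ℬ 0).subtype u ∈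
          _root_.GrSeg.segrePiece k ℳ 𝒩 (-b) := by
        induction u using TensorProduct.induction_on with
        | zero => rw [map_zero]; exact zero_mem _
        | add u v hu hv => rw [map_add]; exact add_mem hu hv
        | tmul x y =>
          refine Submodule.subset_span ⟨x.1, (hM _ _).2 ?_, y.1, (hN _ _).2 ?_, rfl⟩
          · rw [show -b + a = a - b by ring]; exact x.2
          · rw [show -b + b = 0 by ring]; exact y.2
      obtain ⟨q, -, hq⟩ := (hP.image_piece (-b)).ge hu
      exact ⟨q, by rw [LinearMap.comp_apply, hq, hπ _ _ hu, if_pos rfl]⟩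
  have h0 : Module.finrank k (ℬ 0) = 1 := by
    rw [h0S, finrank_span_singleton one_ne_zero]
  calc Module.finrank k (P ⧸ (mT • (⊤ : Submodule T P)))
      = Module.finrank k (P ⧸ (mT • (⊤ : Submodule T P)).restrictScalars k) :=
        ((Submodule.Quotient.restrictScalarsEquiv k _).finrank_eq).symm
    _ = Module.finrank k (LinearMap.range (π.comp φ)) := by
        rw [← hker]; exact (π.comp φ).quotKerEquivRange.finrank_eq
    _ = Module.finrank k (LinearMap.range (TensorProduct.map (𝒜 (a - b)).subtype (ℬ 0).subtype)) := by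
        rw [hrange]
    _ = Module.finrank k (𝒜 (a - b) ⊗[k] ℬ 0) :=
        LinearMap.finrank_range_of_inj (TensorProduct.map_injective_of_flat_flat _ _
          (Submodule.injective_subtype _) (Submodule.injective_subtype _))
    _ = Module.finrank k (𝒜 (a - b)) := by rw [Module.finrank_tensorProduct, h0, mul_one]

end Groth.Agent.GrSegre
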