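import Groth.Agent.GrSegre.TotRes
import Groth.Agent.GrLC.Vanish
import Groth.Agent.GrDual.Pairing
import Groth.Agent.GrDual.DualRows
import Groth.Agent.LocCoh.CohDim

/-!
# Dimensions of the graded local cohomology of Segre products
-/

set_option autoImplicit false
set_option linter.unusedSectionVars false
set_option linter.style.haveILetI false
universe u

open DirectSum TensorProduct
open Groth.Agent.GrLC
open Groth.Agent.GrDual (Base pieceK base_of_span)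

noncomputable section

namespace Groth.Agent.GrSegre

variable {k : Type u} [Field k]

section Res

variable {R : Type u} [CommRing R] [Algebra k R] {𝒜 : ℤ → Submodule k R} [GradedAlgebra 𝒜]
variable {M : Type u} [AddCommGroup M] [Module R M] [Module k M] [IsScalarTower k R M]
  {τ : Type u} [SetLike τ M] [AddSubgroupClass τ M] {ℳ : ℤ → τ} [DirectSum.Decomposition ℳ]
  [SetLike.GradedSMul 𝒜 ℳ]

/-- a *injective resolution as a graded resolution -/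
abbrev resGr (E : _root_.GrLC.StarInjRes 𝒜 ℳ) : GrRes 𝒜 ℳ where
  X := E.X
  d := E.d
  ε := E.ε
  d_grHom := E.d_grHom
  ε_grHom := E.ε_grHom
  ε_injective := E.ε_injective
  exact_zero := E.exact_zero
  exact_succ := E.exact_succ

theorem isTame_res [IsNoetherianRing R] (E : _root_.GrLC.StarInjRes 𝒜 ℳ) (n : ℕ) :
    IsTame 𝒜 ((resGr E).X n).gr (irrI 𝒜) := by
  obtain ⟨s, dg, z, hdg, hz, hspan⟩ := exists_irrel_gens 𝒜
  refine isTame_of_starInj 𝒜 (E.X n).gr (E.starInj n) hdg hz ?_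
  refine le_trans ?_ Ideal.le_radical
  rw [show Ideal.span (Set.range z) = (_root_.GrSyz.irrel 𝒜).toIdeal from hspan, irrI, Ideal.span_le]
  intro x hx
  obtain ⟨n, hn, hxn⟩ := Set.mem_iUnion₂.1 hx
  exact GrSyz.mem_irrel_of_pos hn hxn

theorem exists_classMap_res (E : _root_.GrLC.StarInjRes 𝒜 ℳ) (m : HomogeneousIdeal 𝒜) (n : ℕ) (d : ℤ) :
    ∃ Λ : (pairAt ℳ (resGr E) m.toIdeal d).A.H n →ₗ[k] E.H m n, Function.Injective Λ ∧
      (∀ x, Λ x ∈ E.Hgr m n d) ∧ (∀ y ∈ E.Hgr m n d, ∃ x, Λ x = y) ∧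
      ∀ (z : LinearMap.ker ((pairAt ℳ (resGr E) m.toIdeal d).A.d n)) (w : E.cocyc m n),
        w.1 = z.1.1.1 → Λ ((pairAt ℳ (resGr E) m.toIdeal d).A.cls n z) = E.toH m n w := by
  refine GrRes.exists_classMap ℳ (resGr E) m E (n := n) (E.toH m n)
    (fun z => Submodule.Quotient.mk_eq_zero _) (fun g z hz => ⟨z, hz, rfl⟩)
    (fun g x hx => by obtain ⟨y, hy, rfl⟩ := hx; exact ⟨y, hy, rfl⟩) d
    (A := (pairAt ℳ (resGr E) m.toIdeal d).A)
    (fun j => (kPc 𝒜 (E.X j).gr d).subtype.comp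
      ((pairAt ℳ (resGr E) m.toIdeal d).S j).subtype)
    (fun j x y h => Subtype.ext (Subtype.ext h)) (fun j x => x.1.2) (fun j x => x.2)
    (fun j z hz htz => ⟨⟨⟨z, hz⟩, htz⟩, rfl⟩) (fun j x => rfl)

variable [Nontrivial R] (hB : Base k 𝒜)

include hB in
theorem rank_Hcomp_eq (E : _root_.GrLC.StarInjRes 𝒜 ℳ) (m : HomogeneousIdeal 𝒜) (n : ℕ) (d : ℤ)
    {V : Type u} [AddCommGroup V] [Module k V] (Λ : V →ₗ[k] E.H m n) (hinj : Function.Injective Λ)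
    (hmem : ∀ x, Λ x ∈ E.Hgr m n d) (honto : ∀ y ∈ E.Hgr m n d, ∃ x, Λ x = y) :
    Module.rank k V = Module.rank (_root_.GrLC.deg0 𝒜) (E.Hcomp m n d) := by
  let j : V ≃+ E.Hcomp m n d := AddEquiv.ofBijective
    (AddMonoidHom.mk' (fun x => (⟨Λ x, hmem x⟩ : E.Hcomp m n d)) fun x y => Subtype.ext (map_add Λ x y))
    ⟨fun x y h => hinj (congrArg Subtype.val h), fun y => by
      obtain ⟨x, hx⟩ := honto y.1 y.2
      exact ⟨x, Subtype.ext hx⟩⟩
  exact rank_eq_of_equiv_equiv (Groth.Agent.GrDual.toDeg0 hB) j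
    (Groth.Agent.GrDual.toDeg0_bijective hB)
    fun c x => Subtype.ext ((map_smul Λ c x).trans (algebraMap_smul R c (Λ x)).symm)

include hB in
theorem finrank_pairA (E : _root_.GrLC.StarInjRes 𝒜 ℳ) (m : HomogeneousIdeal 𝒜) (n : ℕ) (d : ℤ) :
    Module.finrank k ((pairAt ℳ (resGr E) m.toIdeal d).A.H n) =
      Module.finrank (_root_.GrLC.deg0 𝒜) (E.Hcomp m n d) := by
  obtain ⟨Λ, h1, h2, h3, -⟩ := exists_classMap_res E m n d
  exact congrArg Cardinal.toNat (rank_Hcomp_eq hB E m n d Λ h1 h2 h3)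

theorem finite_Hcomp [IsNoetherianRing R] [Module.Finite R M] (hpos : ∀ n : ℤ, n < 0 → ∀ x ∈ 𝒜 n, x = 0)
    (a : HomogeneousIdeal 𝒜) (ha : a.toIdeal = irrI 𝒜) (E : _root_.GrLC.StarInjRes 𝒜 ℳ) (i : ℕ)
    (n : ℤ) : Module.Finite (_root_.GrLC.deg0 𝒜) (E.Hcomp a i n) := by
  have hirr : ∀ n : ℤ, 0 < n → ∀ x ∈ 𝒜 n, x ∈ a.toIdeal := fun n hn x hx => by
    rw [ha]; exact irr_irrI 𝒜 n hn x hx
  haveI := isNoetherianRing_deg0 𝒜
  have hQ : LC.PieceClass a (fun H _ _ => Module.Finite (_root_.GrLC.deg0 𝒜) H) := {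
    zero := fun H _ _ _ => inferInstance
    sub := fun H H' _ _ _ _ f hf h => Module.Finite.of_injective f hf
    quot := fun H H' _ _ _ _ f hf h => Module.Finite.of_surjective f hf
    ext := fun H _ _ K hK hQK => Module.Finite.of_submodule_quotient K
    torsion := fun X hX _ n => finite_comp hpos X.gr n
    crit := fun x hx H _ _ htor hker => by
      have hx0 : x = 0 := Subtype.ext (by
        have h := Groth.Agent.GrSyz.cpt_zero_of_mem_irrel hpos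
          (show (x : R) ∈ (_root_.GrSyz.irrel 𝒜).toIdeal from by
            rw [ha] at hx
            exact Ideal.span_mono (fun r hr => by
              obtain ⟨n, hn, hr⟩ := Set.mem_iUnion₂.1 hr
              exact ⟨n, hn, hr⟩) hx)
        rw [cpt_of_mem 𝒜 x.2] at h
        exact h)
      subst hx0
      refine Module.Finite.of_surjective
        (LinearMap.ker ((0 : _root_.GrLC.deg0 𝒜) • (LinearMap.id : H →ₗ[_root_.GrLC.deg0 𝒜] H))).subtype
        fun h => ⟨⟨h, by simp⟩, rfl⟩ }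
  let E' : _root_.GrLC.StarInjRes 𝒜 (toGMod 𝒜 ℳ).gr :=
    { X := E.X, d := E.d, ε := E.ε, d_grHom := E.d_grHom
      ε_grHom := fun g x hx => E.ε_grHom g x hx
      ε_injective := E.ε_injective, exact_zero := E.exact_zero, exact_succ := E.exact_succ
      starInj := E.starInj }
  haveI : Module.Finite (_root_.GrLC.deg0 𝒜) (LC.comp a i (toGMod 𝒜 ℳ).gr n) :=
    LC.comp_of_class hpos a hirr hQ (toGMod 𝒜 ℳ) (inferInstanceAs (Module.Finite R M)) i n
  exact Module.Finite.equiv (LC.compEquiv (ℳ := (toGMod 𝒜 ℳ).gr) a i E' n).symm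

include hB in
theorem finite_pairA [IsNoetherianRing R] [Module.Finite R M] (E : _root_.GrLC.StarInjRes 𝒜 ℳ)
    (m : HomogeneousIdeal 𝒜) (hm : m.toIdeal = irrI 𝒜) (n : ℕ) (d : ℤ) :
    Module.Finite k ((pairAt ℳ (resGr E) m.toIdeal d).A.H n) := by
  obtain ⟨Λ, h1, h2, h3, -⟩ := exists_classMap_res E m n d
  haveI := finite_Hcomp hB.pos m hm E n d
  rw [← Module.rank_lt_aleph0_iff, rank_Hcomp_eq hB E m n d Λ h1 h2 h3]
  exact Module.rank_lt_aleph0 _ _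

theorem subsingleton_pairA (E : _root_.GrLC.StarInjRes 𝒜 ℳ) (m : HomogeneousIdeal 𝒜) (n : ℕ) (d : ℤ)
    (h : E.Hgr m n d = ⊥) : Subsingleton ((pairAt ℳ (resGr E) m.toIdeal d).A.H n) := by
  obtain ⟨Λ, h1, h2, -, -⟩ := exists_classMap_res E m n d
  refine subsingleton_of_forall_eq 0 fun x => h1 ?_
  have := h2 x
  rw [h, AddSubgroup.mem_bot] at this
  rw [this, map_zero]

include hB in
theorem finite_kPc [IsNoetherianRing R] [Module.Finite R M] (d : ℤ) :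
    Module.Finite k (kPc 𝒜 ℳ d) := Groth.Agent.GrDual.finite_pieceK hB ℳ d

include hB in
theorem finrank_kPc (d : ℤ) :
    Module.finrank k (kPc 𝒜 ℳ d) = Module.finrank (_root_.GrLC.deg0 𝒜) (_root_.GrLC.comp 𝒜 ℳ d) :=
  (Groth.Agent.GrDual.finrank_comp_eq hB ℳ d).symm

end Res

section Main

variable {R S : Type u} [CommRing R] [CommRing S] [Algebra k R] [Algebra k S]
  {𝒜 : ℤ → Submodule k R} [GradedAlgebra 𝒜] {ℬ : ℤ → Submodule k S} [GradedAlgebra ℬ]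
  {T : Type u} [CommRing T] [Algebra k T] {𝒯 : ℤ → Submodule k T} [GradedAlgebra 𝒯]
  {ψ : T →ₐ[k] R ⊗[k] S}
  [Nontrivial R] [Nontrivial S] [Algebra.FiniteType k R] [Algebra.FiniteType k S]
variable (hT : _root_.GrSeg.IsSegreRing 𝒜 ℬ 𝒯 ψ)
  (hposR : ∀ n : ℤ, n < 0 → 𝒜 n = ⊥) (h0R : 𝒜 0 = Submodule.span k {(1 : R)})
  (hposS : ∀ n : ℤ, n < 0 → ℬ n = ⊥) (h0S : ℬ 0 = Submodule.span k {(1 : S)})
variable {M N : Type u} [AddCommGroup M] [Module R M] [Module k M] [IsScalarTower k R M]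
  [AddCommGroup N] [Module S N] [Module k N] [IsScalarTower k S N]
  {τ τ' : Type u} [SetLike τ M] [AddSubgroupClass τ M] [SetLike τ' N] [AddSubgroupClass τ' N]
  {ℳ : ℤ → τ} [DirectSum.Decomposition ℳ] [SetLike.GradedSMul 𝒜 ℳ]
  {𝒩 : ℤ → τ'} [DirectSum.Decomposition 𝒩] [SetLike.GradedSMul ℬ 𝒩]
variable {P : Type u} [AddCommGroup P] [Module T P] [Module k P] [IsScalarTower k T P]
  {τQ : Type u} [SetLike τQ P] [AddSubgroupClass τQ P] {𝒬 : ℤ → τQ} [DirectSum.Decomposition 𝒬]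
  [SetLike.GradedSMul 𝒯 𝒬] {φ : P →ₗ[k] M ⊗[k] N}
  (hP : _root_.GrSeg.IsSegreMod ψ ℳ 𝒩 𝒬 φ)
variable (mR : HomogeneousIdeal 𝒜) (hmR : mR.toIdeal = irrI 𝒜)
  (mS : HomogeneousIdeal ℬ) (hmS : mS.toIdeal = irrI ℬ)
  (mT : HomogeneousIdeal 𝒯) (hmT : mT.toIdeal = irrI 𝒯)
  (EM : _root_.GrLC.StarInjRes 𝒜 ℳ) (EN : _root_.GrLC.StarInjRes ℬ 𝒩)
  (EP : _root_.GrLC.StarInjRes 𝒯 𝒬)

omit [Algebra.FiniteType k R] [Algebra.FiniteType k S] in
theorem nontrivial_segre (ψ : T →ₐ[k] R ⊗[k] S) : Nontrivial T := by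
  haveI : Nontrivial (R ⊗[k] S) := inferInstance
  exact ψ.toRingHom.domain_nontrivial

include hT hP hmT hposR h0R hposS h0S in
/-- local cohomology of `M # N` in degree `d` is computed by the tensor pair -/
theorem finrank_H_tens (q : ℕ) (d : ℤ) :
    Module.finrank (_root_.GrLC.deg0 𝒯) (EP.Hcomp mT q d) =
      Module.finrank k (((pairAt ℳ (resGr EM) (irrI 𝒜) d).tens (pairAt 𝒩 (resGr EN) (irrI ℬ) d)).A.H q) := by
  haveI := Algebra.FiniteType.isNoetherianRing k R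
  haveI := Algebra.FiniteType.isNoetherianRing k S
  haveI : IsNoetherianRing (R ⊗[k] S) := Algebra.FiniteType.isNoetherianRing R (R ⊗[k] S)
  haveI : IsNoetherianRing T := isNoetherian_segre 𝒜 ℬ 𝒜 ℬ hT (isSegreMod_self 𝒜 ℬ 𝒯 ψ hT)
  haveI := nontrivial_segre ψ
  have hBT : Base k 𝒯 := base_of_span (segre_hpos 𝒜 ℬ hT hposR) (segre_h0 𝒜 ℬ hT hposR h0R hposS h0S)
  have hG := isTame_res EM
  have hG' := isTame_res EN
  obtain ⟨κ, -, hker, hgr, honto⟩ := (totRes hT (resGr EM) (resGr EN) hP).exists_comparison mT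
    (totRes_acyclic hT (resGr EM) (resGr EN) mT hmT hG hG' hP) EP q
  obtain ⟨h1, h2, h3, h4, h5⟩ := totLA_props hT (resGr EM) (resGr EN) d mT hmT hG hG' hP
  obtain ⟨Λ, i1, i2, i3, -⟩ := GrRes.exists_classMap 𝒬 (totRes hT (resGr EM) (resGr EN) hP) mT EP κ hker
    hgr honto d (totLA hT (resGr EM) (resGr EN) d hP) h1 h2 h3 h4 h5
  exact (congrArg Cardinal.toNat (rank_Hcomp_eq hBT EP mT q d Λ i1 i2 i3)).symm

include hT hP hmR hmS hmT hposR h0R hposS h0S in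
/-- the dimension formula -/
theorem finrank_H_segre [Module.Finite R M] [Module.Finite S N]
    (hM : ∀ (q : ℕ) (d : ℤ), q ≤ 1 → EM.Hcomp mR q d = ⊥)
    (hN : ∀ (q : ℕ) (d : ℤ), q ≤ 1 → EN.Hcomp mS q d = ⊥) (q : ℕ) (d : ℤ) :
    Module.finrank (_root_.GrLC.deg0 𝒯) (EP.Hcomp mT q d) =
      Module.finrank (_root_.GrLC.deg0 𝒜) (_root_.GrLC.comp 𝒜 ℳ d) *
          Module.finrank (_root_.GrLC.deg0 ℬ) (EN.Hcomp mS q d) +
        Module.finrank (_root_.GrLC.deg0 𝒜) (EM.Hcomp mR q d) *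
          Module.finrank (_root_.GrLC.deg0 ℬ) (_root_.GrLC.comp ℬ 𝒩 d) +
      (Finset.range (q + 2)).sum (fun i => Module.finrank (_root_.GrLC.deg0 𝒜) (EM.Hcomp mR i d) *
        Module.finrank (_root_.GrLC.deg0 ℬ) (EN.Hcomp mS (q + 1 - i) d)) := by
  haveI := Algebra.FiniteType.isNoetherianRing k R
  haveI := Algebra.FiniteType.isNoetherianRing k S
  have hBR : Base k 𝒜 := base_of_span hposR h0R
  have hBS : Base k ℬ := base_of_span hposS h0S
  have hb : ∀ {R' : Type u} [CommRing R'] [Algebra k R'] {𝒜' : ℤ → Submodule k R'} [GradedAlgebra 𝒜']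
      {M' : Type u} [AddCommGroup M'] [Module R' M'] {τ₁ : Type u} [SetLike τ₁ M'] [AddSubgroupClass τ₁ M']
      {ℳ' : ℤ → τ₁} [DirectSum.Decomposition ℳ'] [SetLike.GradedSMul 𝒜' ℳ']
      (E : _root_.GrLC.StarInjRes 𝒜' ℳ') (m : HomogeneousIdeal 𝒜') (i : ℕ),
      E.Hcomp m i d = ⊥ → E.Hgr m i d = ⊥ := fun E m i h =>
    (AddSubgroup.eq_bot_iff_forall _).2 fun x hx => (Submodule.eq_bot_iff _).1 h x hx
  rw [finrank_H_tens hT hposR h0R hposS h0S hP mT hmT EM EN EP q d]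
  simp only [← finrank_kPc hBR (ℳ := ℳ), ← finrank_kPc hBS (ℳ := 𝒩), ← finrank_pairA hBR EM mR,
    ← finrank_pairA hBS EN mS]
  rw [hmR, hmS]
  haveI : Module.Finite k (pairAt ℳ (resGr EM) (irrI 𝒜) d).M := finite_kPc hBR (ℳ := ℳ) d
  haveI : Module.Finite k (pairAt 𝒩 (resGr EN) (irrI ℬ) d).M := finite_kPc hBS (ℳ := 𝒩) d
  exact (pairAt ℳ (resGr EM) (irrI 𝒜) d).finrank_tens_A (pairAt 𝒩 (resGr EN) (irrI ℬ) d)
    (hmR ▸ subsingleton_pairA EM mR 0 d (hb EM mR 0 (hM 0 d zero_le_one)))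
    (hmR ▸ subsingleton_pairA EM mR 1 d (hb EM mR 1 (hM 1 d le_rfl)))
    (hmS ▸ subsingleton_pairA EN mS 0 d (hb EN mS 0 (hN 0 d zero_le_one)))
    (hmS ▸ subsingleton_pairA EN mS 1 d (hb EN mS 1 (hN 1 d le_rfl)))
    (fun i => hmR ▸ finite_pairA hBR EM mR hmR i d) (fun i => hmS ▸ finite_pairA hBS EN mS hmS i d) q

include hT hP hmR hmS hmT hposR h0R hposS h0S in
/-- top degree -/
theorem finrank_H_segre_top {r s : ℕ} (h2r : 2 ≤ r) (h2s : 2 ≤ s)
    (hM : ∀ (q : ℕ) (d : ℤ), r < q → EM.Hgr mR q d = ⊥)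
    (hN : ∀ (q : ℕ) (d : ℤ), s < q → EN.Hgr mS q d = ⊥) (d : ℤ) :
    Module.finrank (_root_.GrLC.deg0 𝒯) (EP.Hcomp mT (r + s - 1) d) =
      Module.finrank (_root_.GrLC.deg0 𝒜) (EM.Hcomp mR r d) *
        Module.finrank (_root_.GrLC.deg0 ℬ) (EN.Hcomp mS s d) := by
  obtain ⟨a, rfl⟩ : ∃ a, r = a + 2 := ⟨r - 2, by omega⟩
  obtain ⟨b, rfl⟩ : ∃ b, s = b + 2 := ⟨s - 2, by omega⟩
  have hBR : Base k 𝒜 := base_of_span hposR h0R
  have hBS : Base k ℬ := base_of_span hposS h0S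
  rw [show a + 2 + (b + 2) - 1 = a + b + 3 by omega,
    finrank_H_tens hT hposR h0R hposS h0S hP mT hmT EM EN EP (a + b + 3) d,
    ← finrank_pairA hBR EM mR, ← finrank_pairA hBS EN mS, hmR, hmS]
  obtain ⟨e, -⟩ := (pairAt ℳ (resGr EM) (irrI 𝒜) d).exists_top (pairAt 𝒩 (resGr EN) (irrI ℬ) d) a b
    (fun i hi => hmR ▸ subsingleton_pairA EM mR i d (hM i d hi))
    (fun i hi => hmS ▸ subsingleton_pairA EN mS i d (hN i d hi))
  rw [← e.finrank_eq, Module.finrank_tensorProduct]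

end Main

end Groth.Agent.GrSegre
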