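import Groth.Agent.VarDim.Algebra
import Mathlib.RingTheory.Localization.FractionRing
import Mathlib.RingTheory.TensorProduct.MvPolynomial

/-!
# The Segre product of two polynomial rings has dimension `r + s - 1`

For `r = r' + 1`, `s = s' + 1`, the map `σ : k[z_ij] → k[x, y]`, `z_ij ↦ x_i y_j`, has the same kernel
as its dehomogenisation at `x_0 = 1`, whose image is algebraic over `r' + s` free variables.
-/

set_option autoImplicit false
universe u

open MvPolynomial

namespace Groth.Agent.GrSegre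

variable (k : Type u) [Field k]

/-- The Segre map on polynomial rings. -/
noncomputable def sigma (r s : ℕ) :
    MvPolynomial (Fin r × Fin s) k →ₐ[k] MvPolynomial (Fin r ⊕ Fin s) k :=
  aeval fun p => X (Sum.inl p.1) * X (Sum.inr p.2)

@[simp] theorem sigma_X (r s : ℕ) (i : Fin r) (j : Fin s) :
    sigma k r s (X (i, j)) = X (Sum.inl i) * X (Sum.inr j) := by
  simp [sigma]

/-- Setting the first variable to one. -/
noncomputable def dehom (r' s : ℕ) :
    MvPolynomial (Fin (r' + 1) ⊕ Fin s) k →ₐ[k] MvPolynomial (Fin r' ⊕ Fin s) k :=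
  aeval (Sum.elim (Fin.cons 1 fun i => X (Sum.inl i)) fun j => X (Sum.inr j))

theorem ker_sigma_eq (r' s' : ℕ) :
    RingHom.ker (sigma k (r' + 1) (s' + 1)) =
      RingHom.ker ((dehom k r' (s' + 1)).comp (sigma k (r' + 1) (s' + 1))) := by
  refine le_antisymm (fun p hp => ?_) fun p hp => ?_
  · rw [RingHom.mem_ker] at hp ⊢
    rw [AlgHom.comp_apply, hp, map_zero]
  · let B := MvPolynomial (Fin (r' + 1) ⊕ Fin (s' + 1)) k
    let F := FractionRing B
    let x0 : F := algebraMap B F (X (Sum.inl 0))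
    have hx0 : x0 ≠ 0 := fun h => MvPolynomial.X_ne_zero (R := k)
      (Sum.inl (0 : Fin (r' + 1)) : Fin (r' + 1) ⊕ Fin (s' + 1))
      ((map_eq_zero_iff (algebraMap B F) (IsFractionRing.injective B F)).1 h)
    let φ : MvPolynomial (Fin r' ⊕ Fin (s' + 1)) k →ₐ[k] F :=
      aeval (Sum.elim (fun i => algebraMap B F (X (Sum.inl i.succ)) / x0)
        fun j => x0 * algebraMap B F (X (Sum.inr j)))
    have key : φ.comp ((dehom k r' (s' + 1)).comp (sigma k (r' + 1) (s' + 1))) =
        (IsScalarTower.toAlgHom k B F).comp (sigma k (r' + 1) (s' + 1)) := by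
      refine MvPolynomial.algHom_ext fun ij => ?_
      obtain ⟨i, j⟩ := ij
      refine Fin.cases ?_ (fun i => ?_) i
      · simp [φ, dehom, sigma, x0, B, F]
      · simp only [φ, dehom, sigma, AlgHom.comp_apply, map_mul, aeval_X, Sum.elim_inl,
          Sum.elim_inr, Fin.cons_succ, IsScalarTower.coe_toAlgHom']
        rw [← mul_assoc, div_mul_cancel₀ _ hx0]
    have h := DFunLike.congr_fun key p
    rw [RingHom.mem_ker] at hp ⊢
    rw [AlgHom.comp_apply, hp, map_zero, AlgHom.comp_apply, IsScalarTower.coe_toAlgHom'] at h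
    exact (map_eq_zero_iff (algebraMap B F) (IsFractionRing.injective B F)).1 h.symm

/-- `dim k[z_ij]/ker σ = r + s - 1`. -/
theorem ringKrullDim_sigma (r' s' : ℕ) :
    ringKrullDim (MvPolynomial (Fin (r' + 1) × Fin (s' + 1)) k ⧸
      RingHom.ker (sigma k (r' + 1) (s' + 1))) = ((r' + (s' + 1) : ℕ) : WithBot ℕ∞) := by
  rw [ker_sigma_eq]
  let τ : MvPolynomial (Fin (r' + 1) × Fin (s' + 1)) k →ₐ[k] (MvPolynomial (Fin r' ⊕ Fin (s' + 1)) k) := (dehom k r' (s' + 1)).comp (sigma k (r' + 1) (s' + 1))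
  let Q := MvPolynomial (Fin (r' + 1) × Fin (s' + 1)) k ⧸ RingHom.ker τ
  haveI : (RingHom.ker τ).IsPrime := RingHom.ker_isPrime τ.toRingHom
  let ι : Q →ₐ[k] (MvPolynomial (Fin r' ⊕ Fin (s' + 1)) k) := Ideal.kerLiftAlg τ
  have hι : Function.Injective ι := Ideal.kerLiftAlg_injective τ
  -- free variables inside
  let h : (MvPolynomial (Fin r' ⊕ Fin (s' + 1)) k) →ₐ[k] MvPolynomial (Fin (r' + 1) × Fin (s' + 1)) k := aeval (Sum.elim (fun i => X (i.succ, 0)) fun j => X (0, j))
  let j : (MvPolynomial (Fin r' ⊕ Fin (s' + 1)) k) →ₐ[k] Q := (Ideal.Quotient.mkₐ k _).comp h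
  let F := FractionRing (MvPolynomial (Fin r' ⊕ Fin (s' + 1)) k)
  let w0 : F := algebraMap (MvPolynomial (Fin r' ⊕ Fin (s' + 1)) k) F (X (Sum.inr 0))
  have hw0 : w0 ≠ 0 := fun h => MvPolynomial.X_ne_zero (R := k)
    (Sum.inr (0 : Fin (s' + 1)) : Fin r' ⊕ Fin (s' + 1))
    ((map_eq_zero_iff (algebraMap (MvPolynomial (Fin r' ⊕ Fin (s' + 1)) k) F) (IsFractionRing.injective (MvPolynomial (Fin r' ⊕ Fin (s' + 1)) k) F)).1 h)
  let G : (MvPolynomial (Fin r' ⊕ Fin (s' + 1)) k) →ₐ[k] F := aeval (Sum.elim (fun i => algebraMap (MvPolynomial (Fin r' ⊕ Fin (s' + 1)) k) F (X (Sum.inl i)) / w0)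
    fun l => algebraMap (MvPolynomial (Fin r' ⊕ Fin (s' + 1)) k) F (X (Sum.inr l)))
  have key : G.comp (τ.comp h) = IsScalarTower.toAlgHom k (MvPolynomial (Fin r' ⊕ Fin (s' + 1)) k) F := by
    refine MvPolynomial.algHom_ext fun v => ?_
    rcases v with i | l
    · simp only [G, τ, h, dehom, sigma, AlgHom.comp_apply, aeval_X, Sum.elim_inl, map_mul,
        Sum.elim_inr, Fin.cons_succ, IsScalarTower.coe_toAlgHom']
      exact div_mul_cancel₀ _ hw0
    · simp [G, τ, h, dehom, sigma]
  have hj : Function.Injective j := by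
    have h1 : Function.Injective (τ.comp h) := fun a b hab => by
      have := congrArg G hab
      rw [← AlgHom.comp_apply, ← AlgHom.comp_apply, key] at this
      exact IsFractionRing.injective (MvPolynomial (Fin r' ⊕ Fin (s' + 1)) k) F this
    refine Function.Injective.of_comp (f := ι) ?_
    intro a b hab
    exact h1 hab
  refine VarDim.ringKrullDim_eq_of_trdeg_eq k Q ?_
  have hC : Algebra.trdeg k (MvPolynomial (Fin r' ⊕ Fin (s' + 1)) k) = ((r' + (s' + 1) : ℕ) : Cardinal) := by
    rw [MvPolynomial.trdeg_of_isDomain]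
    simp
  rw [← hC]
  exact le_antisymm (trdeg_le_of_injective ι hι) (trdeg_le_of_injective j hj)

/-- The map `k[x, y] → k[x] ⊗ k[y]`. -/
noncomputable def split (r s : ℕ) : MvPolynomial (Fin r ⊕ Fin s) k →ₐ[k]
    TensorProduct k (MvPolynomial (Fin r) k) (MvPolynomial (Fin s) k) :=
  aeval (Sum.elim (fun i => X i ⊗ₜ[k] 1) fun j => 1 ⊗ₜ[k] X j)

theorem split_injective (r s : ℕ) : Function.Injective (split k r s) := by
  let L : TensorProduct k (MvPolynomial (Fin r) k) (MvPolynomial (Fin s) k) →ₐ[k]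
      MvPolynomial (Fin r ⊕ Fin s) k :=
    Algebra.TensorProduct.productMap (rename Sum.inl) (rename Sum.inr)
  have h : L.comp (split k r s) = AlgHom.id k _ := by
    refine MvPolynomial.algHom_ext fun v => ?_
    rcases v with i | j <;> simp [L, split]
  exact Function.LeftInverse.injective fun p => DFunLike.congr_fun h p

end Groth.Agent.GrSegre
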