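import Groth.Agent.GrSegre.CritRing
import Groth.Agent.GrLC.EndShift
import Groth.Agent.GrLC.GrCohExact
import Groth.Agent.GrLC.MapLin
import Groth.Agent.GrTransfer.Zero
import Groth.Agent.SquarePres.XRegular
import Groth.Agent.GrSyz.Std

/-!
# Segre products of shifted standard polynomial rings
-/

set_option autoImplicit false
set_option linter.unusedSectionVars false
set_option linter.style.haveILetI false
universe u

open DirectSum TensorProduct MvPolynomial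
open Groth.Agent.GrLC

attribute [local instance] MvPolynomial.weightedGradedAlgebra

namespace Groth.Agent.GrSegre

/-- The decomposition by shifted pieces. -/
@[instance_reducible]
noncomputable def shiftDec {ι : Type} [AddCommGroup ι] [DecidableEq ι] {M : Type u} [AddCommGroup M]
    {τ : Type u} [SetLike τ M] [AddSubgroupClass τ M] (ℳ : ι → τ) [DirectSum.Decomposition ℳ] (d : ι) :
    DirectSum.Decomposition (fun g => ℳ (g + d)) :=
  (show DirectSum.IsInternal (fun g => ℳ (g + d)) from isInternal_shiftGr ℳ d).chooseDecomposition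

theorem shift_gsmul {ι : Type} [AddCommGroup ι] [DecidableEq ι] {R : Type u} [CommRing R]
    {σ : Type u} [SetLike σ R] [AddSubgroupClass σ R] {𝒜 : ι → σ} [GradedRing 𝒜] {M : Type u}
    [AddCommGroup M] [Module R M] {τ : Type u} [SetLike τ M] [AddSubgroupClass τ M] (ℳ : ι → τ)
    [SetLike.GradedSMul 𝒜 ℳ] (d : ι) : SetLike.GradedSMul 𝒜 (fun g => ℳ (g + d)) := by
  refine ⟨fun i j r m hr hm => ?_⟩
  have h := smul_mem_gr (𝒜 := 𝒜) (ℳ := ℳ) hr hm
  rw [← add_assoc] at h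
  exact h

theorem gr_shiftDec {R : Type u} [CommRing R] [IsNoetherianRing R]
    {σ : Type u} [SetLike σ R] [AddSubgroupClass σ R] {𝒜 : ℤ → σ} [GradedRing 𝒜] {M : Type u}
    [AddCommGroup M] [Module R M] {τ : Type u} [SetLike τ M] [AddSubgroupClass τ M] (ℳ : ℤ → τ)
    [DirectSum.Decomposition ℳ] [SetLike.GradedSMul 𝒜 ℳ] (a : HomogeneousIdeal 𝒜) (d : ℤ)
    [DirectSum.Decomposition (fun g => ℳ (g + d))] [SetLike.GradedSMul 𝒜 (fun g => ℳ (g + d))]
    (i : ℕ) (n : ℤ) : LC.gr (fun g => ℳ (g + d)) a i n = ⊥ ↔ LC.gr ℳ a i (n + d) = ⊥ := by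
  rw [← LC.gr_shift a i d n]
  let f : M →ₗ[R] (shiftGMod 𝒜 ℳ d).carrier := LinearMap.id
  exact LC.gr_eq_bot_iff_of_bijective (f := f) (ℳ := fun g => ℳ (g + d)) (𝒩 := (shiftGMod 𝒜 ℳ d).gr)
    a i Function.bijective_id (fun _ _ h => h) n

variable (k : Type u) [Field k]

/-- The standard grading. -/
abbrev W (r : ℕ) : ℤ → Submodule k (MvPolynomial (Fin r) k) :=
  weightedHomogeneousSubmodule k (fun _ : Fin r => (1 : ℤ))

theorem W_pos (r : ℕ) : ∀ n : ℤ, n < 0 → W k r n = ⊥ := fun n hn =>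
  (Submodule.eq_bot_iff _).2 fun x hx => GrSyz.stdGr_eq_zero_of_neg n hn x hx

theorem W_zero (r : ℕ) : W k r 0 = Submodule.span k {(1 : MvPolynomial (Fin r) k)} := by
  refine le_antisymm (fun x hx => ?_) ((Submodule.span_singleton_le_iff_mem _ _).2 SetLike.GradedOne.one_mem)
  rw [GrSyz.stdGr_zero_eq_C hx]
  exact Submodule.mem_span_singleton.2 ⟨_, (smul_eq_C_mul _ _).trans (mul_one _)⟩

theorem X_mem_W {r : ℕ} (i : Fin r) : (X i : MvPolynomial (Fin r) k) ∈ W k r 1 :=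
  isWeightedHomogeneous_X k _ i

theorem X_pow_mem_W {r : ℕ} (i : Fin r) (j : ℕ) : (X i : MvPolynomial (Fin r) k) ^ j ∈ W k r (j : ℤ) := by
  have h := SetLike.pow_mem_graded j (X_mem_W k i)
  rwa [nsmul_eq_mul, mul_one] at h

theorem irrI_W (r : ℕ) : irrI (W k r) = Ideal.span (Set.range (X : Fin r → MvPolynomial (Fin r) k)) := by
  refine le_antisymm ?_ (Ideal.span_le.2 ?_)
  · rw [span_X_eq_ker]
    refine Ideal.span_le.2 fun x hx => ?_
    obtain ⟨n, hn, hxn⟩ := Set.mem_iUnion₂.1 hx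
    rw [SetLike.mem_coe, RingHom.mem_ker, constantCoeff_eq]
    by_contra hne
    have := GrSyz.stdGr_degree_eq (k := k) (n := n) (p := x) hxn hne
    rw [Set.mem_Ioi] at hn
    simp at this
    omega
  · rintro _ ⟨i, rfl⟩
    exact irr_irrI (W k r) 1 one_pos _ (X_mem_W k i)

/-- `T₊` as a homogeneous ideal. -/
noncomputable def irrH (r : ℕ) : HomogeneousIdeal (W k r) :=
  ⟨irrI (W k r), Ideal.homogeneous_span _ _ fun x hx => by
    obtain ⟨n, -, hn⟩ := Set.mem_iUnion₂.1 hx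
    exact ⟨n, hn⟩⟩

theorem ringKrullDim_W (r : ℕ) : ringKrullDim (MvPolynomial (Fin r) k) = r := by
  rw [MvPolynomial.ringKrullDim_of_isNoetherianRing, ringKrullDim_eq_zero_of_field]
  simp

theorem supportDim_W (r : ℕ) :
    Module.supportDim (MvPolynomial (Fin r) k) (MvPolynomial (Fin r) k) = r := by
  rw [Module.supportDim_self_eq_ringKrullDim, ringKrullDim_W]

theorem cm_W (r : ℕ) (q : Ideal (MvPolynomial (Fin r) k)) [q.IsPrime] :
    Subsingleton (LocalizedModule q.primeCompl (MvPolynomial (Fin r) k)) ∨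
      LocCoh.IsCohenMacaulayModule (Localization.AtPrime q)
        (LocalizedModule q.primeCompl (MvPolynomial (Fin r) k)) :=
  cm_of_free (X := MvPolynomial (Fin r) k) q

theorem idealDepth_W (r : ℕ) : LocCoh.idealDepth (irrI (W k r)) (MvPolynomial (Fin r) k) = r :=
  idealDepth_irrI_of_cm (W k r) (W_pos k r) (W_zero k r) (W k r) (supportDim_W k r) (fun q _ => cm_W k r q)

/-- In a standard graded domain generated by a regular sequence of `r` linear forms the top local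
cohomology lives in the degrees `≤ -r`. -/
theorem gr_top_eq_bot_iff {A : Type u} [CommRing A] [IsDomain A] [IsNoetherianRing A]
    {σ : Type u} [SetLike σ A] [AddSubgroupClass σ A] (𝒜 : ℤ → σ) [GradedRing 𝒜]
    (hpos : ∀ n : ℤ, n < 0 → ∀ x ∈ 𝒜 n, x = 0) {r : ℕ} (hr : 1 ≤ r) (m : HomogeneousIdeal 𝒜)
    (f : Fin r → A) (hf : ∀ i, f i ∈ 𝒜 1) (hf0 : ∀ i, f i ≠ 0)
    (hspan : Ideal.span (Set.range f) = m.toIdeal) (h1m : (1 : A) ∉ m.toIdeal)
    (hirr : ∀ e : ℤ, 0 < e → ∀ x ∈ 𝒜 e, x ∈ m.toIdeal) (hdim : ringKrullDim A = r)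
    (hvan : ∀ p < r, Subsingleton (LocCoh.H m.toIdeal p A))
    (hreg : RingTheory.Sequence.IsWeaklyRegular A (List.ofFn f)) (n : ℤ) :
    LC.gr 𝒜 m r n = ⊥ ↔ -(r : ℤ) < n := by
  classical
  let P : Submodule A A := Ideal.span (Set.range f)
  have hPm : (P : Ideal A) = m.toIdeal := hspan
  have hP : P.IsHomogeneous 𝒜 := by
    change (Ideal.span (Set.range f)).IsHomogeneous 𝒜
    refine Ideal.homogeneous_span _ _ ?_
    rintro _ ⟨i, rfl⟩
    exact ⟨1, hf i⟩
  letI := quoDec 𝒜 hP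
  haveI := quoGr_gradedSMul (𝒜 := 𝒜) 𝒜 P
  let T := toGMod 𝒜 𝒜
  let π : T.carrier →ₗ[A] A ⧸ P := P.mkQ
  have hπs : Function.Surjective π := fun y => Submodule.mkQ_surjective P y
  have hπg : _root_.GrLC.IsGrHom T.gr (quoGr 𝒜 P) π := fun e x hx => ⟨x, hx, rfl⟩
  have hπk : LinearMap.ker π = Ideal.span (Set.range f) • (⊤ : Submodule A T.carrier) :=
    (Submodule.ker_mkQ P).trans ((Ideal.mul_top _).symm : _)
  have hshift : ∀ j : ℤ, (∀ e, j - ∑ _ : Fin r, (1 : ℤ) < e → LC.gr T.gr m r e = ⊥) ↔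
      ∀ e, j < e → LC.gr (quoGr 𝒜 P) m (r - r) e = ⊥ :=
    top_shift_seq (N := A ⧸ P) (𝒩 := quoGr 𝒜 P) hpos m r f (fun _ => 1)
      hf (fun i => hspan ▸ Ideal.subset_span ⟨i, rfl⟩) T hreg r le_rfl hvan π hπs hπg hπk
  have hgam : ∀ x : A ⧸ P, x ∈ _root_.GrLC.gam m.toIdeal (A ⧸ P) := fun x => ⟨1, fun t ht => by
    obtain ⟨y, rfl⟩ := P.mkQ_surjective x
    rw [pow_one, ← hPm] at ht
    rw [← map_smul]
    exact (Submodule.Quotient.mk_eq_zero _).2 (Ideal.mul_mem_right y (P : Ideal A) ht)⟩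
  have hzero : ∀ e : ℤ, LC.gr (quoGr 𝒜 P) m 0 e = ⊥ ↔ e ≠ 0 := by
    intro e
    rw [AddSubgroup.eq_bot_iff_forall]
    constructor
    · rintro h rfl
      have h1 := h _ ((GrTransfer.z0_mem_iff m (quoGr 𝒜 P) 0 ⟨P.mkQ 1, hgam _⟩).2
        ⟨1, (SetLike.one_mem_graded 𝒜 : (1 : A) ∈ 𝒜 0), rfl⟩)
      have h2 : (⟨P.mkQ 1, hgam _⟩ : _root_.GrLC.gam m.toIdeal (A ⧸ P)) = 0 :=
        (GrTransfer.z0_bijective m (quoGr 𝒜 P)).1 (h1.trans (map_zero _).symm)
      have h3 : (1 : A) ∈ P := (Submodule.Quotient.mk_eq_zero _).1 (congrArg Subtype.val h2)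
      exact h1m (by rw [← hPm]; exact h3)
    · intro he x hx
      obtain ⟨z, rfl⟩ := (GrTransfer.z0_bijective m (quoGr 𝒜 P)).2 x
      obtain ⟨w, hw, hwz⟩ := (GrTransfer.z0_mem_iff m (quoGr 𝒜 P) e z).1 hx
      have hwP : w ∈ P := by
        rcases lt_or_gt_of_ne he with h | h
        · rw [hpos _ h w hw]; exact zero_mem _
        · change w ∈ (P : Ideal A)
          rw [hPm]
          exact hirr e h w hw
      have hz : z = 0 := Subtype.ext (by rw [← hwz]; exact (Submodule.Quotient.mk_eq_zero _).2 hwP)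
      rw [hz, map_zero]
  let idT : A →ₗ[A] T.carrier := LinearMap.id
  have hidT : _root_.GrLC.IsGrHom 𝒜 T.gr idT := fun _ _ h => h
  have hW : ∀ e, LC.gr T.gr m r e = ⊥ ↔ LC.gr 𝒜 m r e = ⊥ := fun e =>
    (LC.gr_eq_bot_iff_of_bijective (f := idT) m r Function.bijective_id hidT e).symm
  rw [Nat.sub_self] at hshift
  simp only [hzero, hW, Finset.sum_const, Finset.card_univ, Fintype.card_fin, nsmul_eq_mul,
    mul_one] at hshift
  have hup : ∀ e, -(r : ℤ) < e → LC.gr 𝒜 m r e = ⊥ :=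
    fun e he => (hshift 0).2 (fun e he => ne_of_gt he) e (by omega)
  have hne : LC.gr 𝒜 m r (-(r : ℤ)) ≠ ⊥ := by
    intro hbot
    refine (hshift (-1)).1 (fun e he => ?_) 0 (by omega) rfl
    rcases eq_or_ne e (-(r : ℤ)) with h | h
    · exact h ▸ hbot
    · exact hup e (by omega)
  -- multiplication by a variable is surjective
  let x₀ : A := f ⟨0, hr⟩
  have hsucc : ∀ e : ℤ, LC.gr 𝒜 m r e = ⊥ → LC.gr 𝒜 m r (e + 1) = ⊥ := by
    intro e he
    rw [AddSubgroup.eq_bot_iff_forall] at he ⊢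
    intro y hy
    let φ : A →ₗ[A] A := x₀ • LinearMap.id
    let g : A →ₗ[A] A ⧸ LinearMap.range φ := (LinearMap.range φ).mkQ
    have hinj : Function.Injective φ := fun a b hab => mul_left_cancel₀ (hf0 _) hab
    have hd : Module.supportDim A (A ⧸ LinearMap.range φ) < (r : WithBot ℕ∞) := by
      have hsr : (LinearMap.range φ : Submodule A A) = (Ideal.span {x₀} : Ideal A) := by
        ext t
        rw [LinearMap.mem_range, Ideal.mem_span_singleton']
        exact ⟨fun ⟨a, ha⟩ => ⟨a, by rw [← ha, mul_comm]; rfl⟩, fun ⟨a, ha⟩ => ⟨a, by rw [← ha, mul_comm]; rfl⟩⟩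
      rw [hsr, Module.supportDim_quotient_eq_ringKrullDim]
      have h1 := ringKrullDim_quotient_succ_le_of_nonZeroDivisor
        (mem_nonZeroDivisors_of_ne_zero (hf0 ⟨0, hr⟩) : x₀ ∈ nonZeroDivisors A)
      rw [hdim] at h1
      cases hq : ringKrullDim (A ⧸ Ideal.span {x₀}) with
      | bot => exact WithBot.bot_lt_coe _
      | coe a =>
        rw [hq] at h1
        have h1' : a + 1 ≤ (r : ℕ∞) := by exact_mod_cast h1
        have h2 : a < (r : ℕ∞) := by
          rcases eq_or_ne a ⊤ with rfl | ha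
          · simp at h1'
          · exact lt_of_lt_of_le (ENat.lt_add_one_iff ha |>.2 le_rfl) h1'
        exact_mod_cast h2
    haveI := LocCoh.subsingleton_H_of_supportDim_lt m.toIdeal r _ hd r le_rfl
    obtain ⟨w, rfl⟩ := (LocCohElt.exact_map_map m.toIdeal r (f := φ) (g := g) hinj
      (LinearMap.exact_map_mkQ_range φ) (Submodule.mkQ_surjective _) y).1 (Subsingleton.elim _ _)
    letI := LC.dec (ℳ := 𝒜) m r
    haveI := LC.gr_gradedSMul (ℳ := 𝒜) m r
    have hw : cpt (LC.gr 𝒜 m r) e w = 0 := he _ (cpt_mem _ e w)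
    have hy' : x₀ • w ∈ LC.gr 𝒜 m r (e + 1) := by rw [← LocCohElt.map_smul_id m.toIdeal r x₀ w]; exact hy
    change LocCohElt.map m.toIdeal r (x₀ • LinearMap.id) w = 0
    rw [LocCohElt.map_smul_id, ← cpt_of_mem (LC.gr 𝒜 m r) hy',
      cpt_smul_left' (𝒜 := 𝒜) (LC.gr 𝒜 m r) (hf ⟨0, hr⟩) w, add_sub_cancel_right, hw, smul_zero]
  refine ⟨fun h => ?_, hup n⟩
  by_contra hn
  have key : ∀ j : ℕ, LC.gr 𝒜 m r (n + j) = ⊥ := by
    intro j
    induction j with
    | zero => simpa using h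
    | succ j ih => rw [Nat.cast_succ, ← add_assoc]; exact hsucc _ ih
  refine hne ?_
  have := key (-(r : ℤ) - n).toNat
  rwa [Int.toNat_of_nonneg (by omega), add_sub_cancel] at this

/-- The top local cohomology of a polynomial ring lives in the degrees `≤ -r`. -/
theorem gr_W_eq_bot_iff {r : ℕ} (hr : 1 ≤ r) (m : HomogeneousIdeal (W k r))
    (hm : m.toIdeal = irrI (W k r)) (n : ℤ) : LC.gr (W k r) m r n = ⊥ ↔ -(r : ℤ) < n := by
  have hreg : RingTheory.Sequence.IsWeaklyRegular (MvPolynomial (Fin r) k)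
      (List.ofFn (X : Fin r → MvPolynomial (Fin r) k)) := by
    have h := SquarePres.isWeaklyRegular_X (A := k) (List.finRange r) (List.nodup_finRange r)
    rwa [← List.ofFn_eq_map] at h
  exact gr_top_eq_bot_iff (W k r) (fun n hn x hx => eq_zero_of_neg (W k r) (W_pos k r) hn hx) hr m X
    (fun i => X_mem_W k i) (fun i => X_ne_zero i) (by rw [hm, irrI_W])
    (fun h => (span_X_isMaximal (k := k) (n := r)).ne_top ((Ideal.eq_top_iff_one _).2 (by
      rwa [hm, irrI_W] at h)))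
    (fun e he x hx => hm ▸ irr_irrI (W k r) e he x hx) (ringKrullDim_W k r)
    (fun p hp => by rw [hm]; exact (LocCoh.H_of_idealDepth_eq _ r _ (idealDepth_W k r)).1 p hp) hreg n

/-- Shifted polynomial rings: the criterion data. -/
theorem gr_Wshift_eq_bot_iff {r : ℕ} (hr : 1 ≤ r) (m : HomogeneousIdeal (W k r))
    (hm : m.toIdeal = irrI (W k r)) (a : ℤ) [DirectSum.Decomposition (fun g => W k r (g + a))]
    [SetLike.GradedSMul (W k r) (fun g => W k r (g + a))] (i : ℕ) (j : ℤ) :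
    LC.gr (fun g => W k r (g + a)) m i j = ⊥ ↔ (i ≠ r ∨ -(r : ℤ) < j + a) := by
  rw [gr_shiftDec]
  by_cases hi : i = r
  · subst hi; simpa using gr_W_eq_bot_iff k hr m hm (j + a)
  · exact iff_of_true (gr_eq_bot_of_ne_dim (W k r) m hm (supportDim_W k r) (idealDepth_W k r) hi _) (Or.inl hi)

theorem Wshift_eq_zero_iff {r : ℕ} (hr : 1 ≤ r) (a j : ℤ) :
    (∀ z ∈ W k r (j + a), z = 0) ↔ j + a < 0 := by
  refine ⟨fun h => ?_, fun h z hz => eq_zero_of_neg (W k r) (W_pos k r) h hz⟩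
  by_contra hn
  obtain ⟨m, hm⟩ : ∃ m : ℕ, j + a = m := ⟨(j + a).toNat, by omega⟩
  have h1 := X_pow_mem_W k (⟨0, hr⟩ : Fin r) m
  rw [← hm] at h1
  exact pow_ne_zero m (X_ne_zero (⟨0, hr⟩ : Fin r)) (h _ h1)

variable {k} {r s : ℕ} {T : Type u} [CommRing T] [Algebra k T] {𝒯 : ℤ → Submodule k T}
  [GradedAlgebra 𝒯] {ψ : T →ₐ[k] MvPolynomial (Fin r) k ⊗[k] MvPolynomial (Fin s) k}
  {a b : ℤ} {P : Type u} [AddCommGroup P] [Module T P] [Module k P] [IsScalarTower k T P]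
  {τQ : Type u} [SetLike τQ P] [AddSubgroupClass τQ P] {𝒬 : ℤ → τQ} [DirectSum.Decomposition 𝒬]
  {φ : P →ₗ[k] MvPolynomial (Fin r) k ⊗[k] MvPolynomial (Fin s) k}

theorem nontrivial_Wsegre (hr : 1 ≤ r) (hs : 1 ≤ s)
    (hP : _root_.GrSeg.IsSegreMod ψ (fun n => W k r (n + a)) (fun n => W k s (n + b)) 𝒬 φ) :
    Nontrivial P := by
  let u : MvPolynomial (Fin r) k := X ⟨0, hr⟩ ^ (max (-a) (-b) + a).toNat
  let v : MvPolynomial (Fin s) k := X ⟨0, hs⟩ ^ (max (-a) (-b) + b).toNat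
  have hu : u ∈ W k r (max (-a) (-b) + a) := by
    have h := X_pow_mem_W k (⟨0, hr⟩ : Fin r) (max (-a) (-b) + a).toNat
    rwa [Int.toNat_of_nonneg (by omega)] at h
  have hv : v ∈ W k s (max (-a) (-b) + b) := by
    have h := X_pow_mem_W k (⟨0, hs⟩ : Fin s) (max (-a) (-b) + b).toNat
    rwa [Int.toNat_of_nonneg (by omega)] at h
  letI := shiftDec (W k r) a
  letI := shiftDec (W k s) b
  obtain ⟨p, -, hp⟩ := exists_mem_eq (fun n => W k r (n + a)) (fun n => W k s (n + b)) hP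
    (n := max (-a) (-b)) (v := u ⊗ₜ[k] v) (Submodule.subset_span ⟨u, hu, v, hv, rfl⟩)
  refine nontrivial_of_ne p 0 fun h => ?_
  rw [h, map_zero] at hp
  have h1 := congrArg (TensorProduct.map (MvPolynomial.aeval (R := k) (fun _ : Fin r => (1 : k))).toLinearMap
    (MvPolynomial.aeval (R := k) (fun _ : Fin s => (1 : k))).toLinearMap) hp
  rw [map_zero, TensorProduct.map_tmul] at h1
  have h2 := congrArg (TensorProduct.lid k k) h1
  simp [u, v] at h2

theorem crit_W (hT : _root_.GrSeg.IsSegreRing (W k r) (W k s) 𝒯 ψ)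
    (hP : _root_.GrSeg.IsSegreMod ψ (fun n => W k r (n + a)) (fun n => W k s (n + b)) 𝒬 φ)
    (hr : 1 ≤ r) (hs : 1 ≤ s) :
    (∀ (q : Ideal T) [q.IsPrime], Subsingleton (LocalizedModule q.primeCompl P) ∨
      LocCoh.IsCohenMacaulayModule (Localization.AtPrime q) (LocalizedModule q.primeCompl P)) ↔
      (2 ≤ s → -(r : ℤ) < a - b) ∧ (2 ≤ r → a - b < (s : ℤ)) := by
  haveI := nontrivial_Wsegre hr hs hP
  letI := shiftDec (W k r) a
  haveI := shift_gsmul (𝒜 := W k r) (W k r) a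
  letI := shiftDec (W k s) b
  haveI := shift_gsmul (𝒜 := W k s) (W k s) b
  rw [cm_segre_iff (W k r) (W k s) (fun n => W k r (n + a)) (fun n => W k s (n + b)) hT hP (W_pos k r)
    (W_zero k r) (W_pos k s) (W_zero k s) (irrH k r) rfl (irrH k s) rfl hr hs (supportDim_W k r)
    (supportDim_W k s) (fun q _ => cm_W k r q) (fun q _ => cm_W k s q)]
  simp only [Wshift_eq_zero_iff k hr, Wshift_eq_zero_iff k hs, gr_Wshift_eq_bot_iff k hr (irrH k r) rfl,
    gr_Wshift_eq_bot_iff k hs (irrH k s) rfl, ne_eq, not_true_eq_false, false_or]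
  constructor
  · rintro ⟨h1, h2⟩
    exact ⟨fun h => by have := h1 h (-b); omega, fun h => by have := h2 h (-a); omega⟩
  · rintro ⟨h1, h2⟩
    exact ⟨fun h j => by have := h1 h; omega, fun h j => by have := h2 h; omega⟩

/-- The depth of `M # N` at `T₊` when some piece of `H^i` is nonzero. -/
theorem depth_W (hT : _root_.GrSeg.IsSegreRing (W k r) (W k s) 𝒯 ψ)
    (hP : _root_.GrSeg.IsSegreMod ψ (fun n => W k r (n + a)) (fun n => W k s (n + b)) 𝒬 φ)
    (hr : 1 ≤ r) (hs : 1 ≤ s) (mT : HomogeneousIdeal 𝒯) (hmT : mT.toIdeal = irrI 𝒯) {d : ℕ}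
    (hd : d + 1 < r + s)
    (hlow : ∀ i < d, ∀ j : ℤ, (j + b < 0 ∨ (i ≠ r ∨ -(r : ℤ) < j + a)) ∧
      (j + a < 0 ∨ (i ≠ s ∨ -(s : ℤ) < j + b)))
    (htop : ∃ j : ℤ, ¬((j + b < 0 ∨ (d ≠ r ∨ -(r : ℤ) < j + a)) ∧
      (j + a < 0 ∨ (d ≠ s ∨ -(s : ℤ) < j + b)))) :
    LocCoh.idealDepth mT.toIdeal P = (d : ℕ∞) := by
  haveI := nontrivial_Wsegre hr hs hP
  haveI : IsNoetherianRing (MvPolynomial (Fin r) k ⊗[k] MvPolynomial (Fin s) k) :=
    Algebra.FiniteType.isNoetherianRing (MvPolynomial (Fin r) k) _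
  haveI : IsNoetherianRing T :=
    isNoetherian_segre (W k r) (W k s) (W k r) (W k s) hT (isSegreMod_self (W k r) (W k s) 𝒯 ψ hT)
  letI := shiftDec (W k r) a
  haveI := shift_gsmul (𝒜 := W k r) (W k r) a
  letI := shiftDec (W k s) b
  haveI := shift_gsmul (𝒜 := W k s) (W k s) b
  haveI := segre_gradedSMul (W k r) (W k s) (fun n => W k r (n + a)) (fun n => W k s (n + b)) hT hP
  haveI : IsNoetherian T P :=
    isNoetherian_segre (W k r) (W k s) (fun n => W k r (n + a)) (fun n => W k s (n + b)) hT hP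
  have hposT := segre_hpos (W k r) (W k s) hT (W_pos k r)
  have h0T := segre_h0 (W k r) (W k s) hT (W_pos k r) (W_zero k r) (W_pos k s) (W_zero k s)
  have hne : mT.toIdeal • (⊤ : Submodule T P) ≠ ⊤ := by
    intro e
    haveI : Nontrivial T := Module.nontrivial T P
    have h1 := eq_top_of_smul_top e
    rw [hmT, sup_eq_left.2 (annihilator_le_irrI 𝒯 hposT h0T 𝒬)] at h1
    exact (irrI_isMaximal 𝒯 hposT h0T).ne_top h1
  have key : ∀ i : ℕ, i + 1 < r + s → ∀ j, LC.gr 𝒬 mT i j = ⊥ ↔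
      ((j + b < 0 ∨ (i ≠ r ∨ -(r : ℤ) < j + a)) ∧ (j + a < 0 ∨ (i ≠ s ∨ -(s : ℤ) < j + b))) := by
    intro i hi j
    rw [gr_segre_eq_bot_iff (W k r) (W k s) (fun n => W k r (n + a)) (fun n => W k s (n + b)) hT hP
      (W_pos k r) (W_zero k r) (W_pos k s) (W_zero k s) (irrH k r) rfl (irrH k s) rfl mT hmT
      (idealDepth_W k r) (idealDepth_W k s) hi j]
    rw [Wshift_eq_zero_iff k hs, Wshift_eq_zero_iff k hr, gr_Wshift_eq_bot_iff k hr (irrH k r) rfl,
      gr_Wshift_eq_bot_iff k hs (irrH k s) rfl]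
  rw [LocCoh.idealDepth_eq_iff_H _ _ hne]
  refine ⟨fun i hi => (subsingleton_H_iff_gr 𝒬 mT i).2 fun j => (key i (by omega) j).2 (hlow i hi j), ?_⟩
  rw [← not_subsingleton_iff_nontrivial, subsingleton_H_iff_gr 𝒬 mT d]
  obtain ⟨j, hj⟩ := htop
  exact fun h => hj ((key d hd j).1 (h j))

end Groth.Agent.GrSegre
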