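import Groth.Agent.GrLC.Res
import Groth.Agent.GrLC.Coh
import Mathlib.RingTheory.Noetherian.Nilpotent

/-!
# Tame graded modules: torsion plus finitely many divisible parts

*Injective modules over a Noetherian graded ring are tame.
-/

set_option autoImplicit false
set_option linter.unusedSectionVars false
set_option linter.style.haveILetI false
universe u

open DirectSum
open Groth.Agent.GrLC

namespace Groth.Agent.GrSegre

variable {R : Type u} [CommRing R]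
  {σ : Type u} [SetLike σ R] [AddSubgroupClass σ R] (𝒜 : ℤ → σ) [GradedRing 𝒜]
variable {X : Type u} [AddCommGroup X] [Module R X] {τ : Type u} [SetLike τ X] [AddSubgroupClass τ X]
  (ℳ : ℤ → τ)

/-- `A` is infinitely divisible by `f` through homogeneous maps. -/
def IsDivisible (f : R) (e : ℤ) (A : X →ₗ[R] X) : Prop :=
  ∀ n : ℕ, ∃ w : X →ₗ[R] X, _root_.GrLC.IsGrHomDeg ℳ ℳ w (-(n * e)) ∧ ∀ x, f ^ n • w x = A x

/-- torsion plus finitely many parts divisible by elements of positive degree -/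
def IsTame (m : Ideal R) : Prop :=
  ∃ (ρ : X →ₗ[R] X) (s : ℕ) (A : Fin s → X →ₗ[R] X), _root_.GrLC.IsGrHom ℳ ℳ ρ ∧
    (∀ x, ρ x ∈ _root_.GrLC.gam m X) ∧
    (∀ i, _root_.GrLC.IsGrHom ℳ ℳ (A i) ∧ ∃ f e, 0 < e ∧ f ∈ 𝒜 e ∧ IsDivisible ℳ f e (A i)) ∧
    ∀ x, x = ρ x + ∑ i, A i x

/-- A module on which an element of positive degree is bijective is tame. -/
theorem isTame_of_bijective [DirectSum.Decomposition ℳ] [SetLike.GradedSMul 𝒜 ℳ] (m : Ideal R)
    {g : R} {e : ℤ} (he : 0 < e) (hg : g ∈ 𝒜 e) (hb : Function.Bijective fun x : X => g • x) :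
    IsTame 𝒜 ℳ m := by
  refine ⟨0, 1, fun _ => LinearMap.id, fun _ _ _ => zero_mem _,
    fun _ => Submodule.zero_mem _, fun _ => ⟨fun _ _ hx => hx, g, e, he, hg, fun n => ?_⟩,
    fun x => by simp⟩
  have hbn : Function.Bijective fun x : X => g ^ n • x := by
    induction n with
    | zero => simp only [pow_zero, one_smul]; exact Function.bijective_id
    | succ n ih =>
      have : (fun x : X => g ^ (n + 1) • x) = (fun x => g ^ n • x) ∘ fun x => g • x := by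
        funext x; rw [Function.comp_apply, smul_smul, ← pow_succ]
      rw [this]
      exact ih.comp hb
  have hgn : g ^ n ∈ 𝒜 ((n : ℤ) * e) := by
    have := SetLike.pow_mem_graded n hg
    rwa [nsmul_eq_mul] at this
  let eqv := Equiv.ofBijective _ hbn
  have heqv : ∀ x, g ^ n • eqv.symm x = x := fun x => eqv.apply_symm_apply x
  refine ⟨{ toFun := eqv.symm
            map_add' := fun x y => hbn.1 (by simp only [smul_add, heqv])
            map_smul' := fun r x => hbn.1 (by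
              simp only [RingHom.id_apply, smul_comm (g ^ n) r, heqv]) }, fun j x hx => ?_, heqv⟩
  change eqv.symm x ∈ ℳ (j + -((n : ℤ) * e))
  have h2 : g ^ n • cpt ℳ (j + -((n : ℤ) * e)) (eqv.symm x) = x := by
    rw [← cpt_smul_left ℳ hgn, heqv, show (n : ℤ) * e + (j + -((n : ℤ) * e)) = j by ring,
      cpt_of_mem ℳ hx]
  rw [← hbn.1 (h2.trans (heqv x).symm)]
  exact cpt_mem ℳ _ _

variable [IsNoetherianRing R] [DirectSum.Decomposition ℳ] [SetLike.GradedSMul 𝒜 ℳ]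

/-- The torsion of a homogeneous element is a retract of a *injective module. -/
theorem exists_torsion_proj (hX : _root_.GrLC.IsStarInj 𝒜 ℳ) {f : R} {e : ℤ} (hf : f ∈ 𝒜 e) :
    ∃ ρ : X →ₗ[R] X, _root_.GrLC.IsGrHom ℳ ℳ ρ ∧ (∀ x, ∃ n : ℕ, f ^ n • ρ x = 0) ∧
      ∀ x, (∃ n : ℕ, f ^ n • x = 0) → ρ x = x := by
  classical
  let I : HomogeneousIdeal 𝒜 :=
    ⟨Ideal.span {f}, Ideal.homogeneous_span _ _ (by rintro x rfl; exact ⟨e, hf⟩)⟩
  have hI : ∀ x : X, x ∈ _root_.GrLC.gam I.toIdeal X ↔ ∃ n : ℕ, f ^ n • x = 0 := fun x =>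
    ⟨fun ⟨n, hn⟩ => ⟨n, hn (f ^ n) (Ideal.pow_mem_pow (Ideal.mem_span_singleton_self f) n)⟩, fun ⟨n, hn⟩ => ⟨n, fun r hr => by
      change r ∈ Ideal.span {f} ^ n at hr
      rw [Ideal.span_singleton_pow, Ideal.mem_span_singleton'] at hr
      obtain ⟨a, rfl⟩ := hr
      rw [mul_smul, hn, smul_zero]⟩⟩
  let L : Submodule R X := _root_.GrLC.gam I.toIdeal X
  have hL : L.IsHomogeneous ℳ := isHomogeneous_gam I
  letI := subDec ℳ hL
  haveI := subGr_gradedSMul (𝒜 := 𝒜) ℳ L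
  obtain ⟨E, hE, hmem, hull⟩ := exists_hull_in 𝒜 (subGr ℳ L) hX (isGrHom_subtype ℳ L) L.injective_subtype
  letI := subDec ℳ hE
  haveI := subGr_gradedSMul (𝒜 := 𝒜) ℳ E
  obtain ⟨hess, hEinj⟩ := hull
  have hEL : E ≤ L := by
    intro x hx
    let x' : E := ⟨x, hx⟩
    let An : ℕ →o Submodule R R :=
      ⟨fun n => LinearMap.ker (LinearMap.toSpanSingleton R X (f ^ n • x)), fun a b hab r hr => by
        rw [LinearMap.mem_ker, LinearMap.toSpanSingleton_apply] at hr ⊢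
        obtain ⟨c, rfl⟩ := Nat.exists_eq_add_of_le hab
        rw [pow_add, mul_comm, mul_smul, smul_comm, hr, smul_zero]⟩
    obtain ⟨N, hN⟩ := monotone_stabilizes_iff_noetherian.2 inferInstance An
    refine (hI x).2 ⟨N, ?_⟩
    by_contra hne
    have hne' : (f ^ N • x' : E) ≠ 0 := fun h => hne (congrArg Subtype.val h)
    obtain ⟨i, r, -, hr0, ⟨⟨l, hl⟩, hlr⟩⟩ := isStarEss_exists_mul (𝒜 := 𝒜) hess _ hne'
    obtain ⟨q, hq⟩ := (hI l).1 hl
    have hval : l = r • f ^ N • x := congrArg Subtype.val hlr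
    have hrq : r ∈ An (N + q) := by
      change r ∈ LinearMap.ker (LinearMap.toSpanSingleton R X (f ^ (N + q) • x))
      rw [LinearMap.mem_ker, LinearMap.toSpanSingleton_apply, add_comm, pow_add, mul_smul,
        smul_comm r (f ^ q), ← hval, hq]
    rw [← hN (N + q) (Nat.le_add_right _ _)] at hrq
    change r ∈ LinearMap.ker (LinearMap.toSpanSingleton R X (f ^ N • x)) at hrq
    rw [LinearMap.mem_ker, LinearMap.toSpanSingleton_apply] at hrq
    exact hr0 (Subtype.ext hrq)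
  obtain ⟨h, hh, hhe⟩ := exists_retraction (ℳ := subGr ℳ E) (𝒩 := ℳ) hEinj (isGrHom_subtype ℳ E)
    E.injective_subtype
  refine ⟨E.subtype ∘ₗ h, fun j x hx => hh j x hx, fun x => (hI _).1 (hEL (h x).2), fun x hx => ?_⟩
  have hxL : x ∈ L := (hI x).2 hx
  exact congrArg Subtype.val (LinearMap.congr_fun hhe ⟨x, hmem ⟨x, hxL⟩⟩)

/-- A *injective module splits along the torsion of a homogeneous element. -/
theorem exists_split (hX : _root_.GrLC.IsStarInj 𝒜 ℳ) {f : R} {e : ℤ} (hf : f ∈ 𝒜 e) :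
    ∃ ρ : X →ₗ[R] X, _root_.GrLC.IsGrHom ℳ ℳ ρ ∧ (∀ x, ∃ n : ℕ, f ^ n • ρ x = 0) ∧
      IsDivisible ℳ f e (LinearMap.id - ρ) := by
  obtain ⟨ρ, hρgr, htor, hρid⟩ := exists_torsion_proj 𝒜 ℳ hX hf
  -- division by `f` on the complement
  let μ : X →ₗ[R] (shiftGMod 𝒜 ℳ e).carrier := LinearMap.lsmul R X f
  have hμ : _root_.GrLC.IsGrHom ℳ (shiftGMod 𝒜 ℳ e).gr μ := fun j x hx => by
    change f • x ∈ ℳ (j + e)
    rw [add_comm]
    exact smul_mem_gr (ℳ := ℳ) hf hx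
  have hgr' : _root_.GrLC.IsGrHom ℳ ℳ (LinearMap.id - ρ) := fun j x hx => sub_mem hx (hρgr j x hx)
  obtain ⟨u, hu, hue⟩ := exists_extend_quot (𝒳 := ℳ) (𝒴 := (shiftGMod 𝒜 ℳ e).gr) hX hμ
    (g := LinearMap.id - ρ) hgr' (fun x hx => by
      have hx' : f • x = 0 := hx
      rw [LinearMap.mem_ker, LinearMap.sub_apply, LinearMap.id_apply,
        hρid x ⟨1, by rw [pow_one, hx']⟩, sub_self])
  let u' : X →ₗ[R] X := u
  have hu1 : _root_.GrLC.IsGrHomDeg ℳ ℳ u' (-e) := fun j x hx =>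
    hu (j + -e) x (show x ∈ ℳ (j + -e + e) by rwa [neg_add_cancel_right])
  have hfu : ∀ x, f • u' x = x - ρ x := fun x =>
    (u'.map_smul f x).symm.trans (LinearMap.congr_fun hue x)
  have hidem : ∀ x, (x - ρ x) - ρ (x - ρ x) = x - ρ x := fun x => by
    rw [map_sub, hρid (ρ x) (htor x), sub_self, sub_zero]
  refine ⟨ρ, hρgr, htor, fun n => ?_⟩
  induction n with
  | zero => exact ⟨LinearMap.id - ρ, fun j x hx => by simpa using hgr' j x hx, fun x => by simp⟩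
  | succ n ih =>
    obtain ⟨w, hw, hwf⟩ := ih
    refine ⟨u' ∘ₗ w, fun j x hx => ?_, fun x => ?_⟩
    · have := hu1 _ _ (hw j x hx)
      rw [show j + -(((n + 1 : ℕ) : ℤ) * e) = j + -((n : ℤ) * e) + -e by push_cast; ring]
      exact this
    · rw [LinearMap.comp_apply, pow_succ, mul_smul, hfu, smul_sub, ← map_smul ρ, hwf]
      exact hidem x

/-- *Injective modules are tame. -/
theorem isTame_of_starInj (hX : _root_.GrLC.IsStarInj 𝒜 ℳ) {m : Ideal R} {s : ℕ} {z : Fin s → R}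
    {dg : Fin s → ℤ} (hdg : ∀ b, 0 < dg b) (hz : ∀ b, z b ∈ 𝒜 (dg b))
    (hm : m ≤ (Ideal.span (Set.range z)).radical) : IsTame 𝒜 ℳ m := by
  classical
  have key : ∀ t : List (Fin s), ∃ (ρ : X →ₗ[R] X) (l : ℕ) (A : Fin l → X →ₗ[R] X),
      _root_.GrLC.IsGrHom ℳ ℳ ρ ∧ (∀ b ∈ t, ∀ x, ∃ n : ℕ, z b ^ n • ρ x = 0) ∧
      (∀ i, _root_.GrLC.IsGrHom ℳ ℳ (A i) ∧ ∃ f e, 0 < e ∧ f ∈ 𝒜 e ∧ IsDivisible ℳ f e (A i)) ∧
      ∀ x, x = ρ x + ∑ i, A i x := by
    intro t
    induction t with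
    | nil => exact ⟨LinearMap.id, 0, Fin.elim0, fun _ _ hx => hx, by simp, fun i => i.elim0, by simp⟩
    | cons b t ih =>
      obtain ⟨ρ, l, A, hρ, htor, hA, hsum⟩ := ih
      obtain ⟨σ₁, hσ, hσt, hσd⟩ := exists_split 𝒜 ℳ hX (hz b)
      refine ⟨σ₁ ∘ₗ ρ, l + 1, Fin.cons ((LinearMap.id - σ₁) ∘ₗ ρ) A, fun j x hx => hσ j _ (hρ j x hx),
        fun c hc x => ?_, fun i => ?_, fun x => ?_⟩
      · rcases List.mem_cons.1 hc with rfl | hc
        · exact hσt (ρ x)
        · obtain ⟨n, hn⟩ := htor c hc x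
          exact ⟨n, by rw [LinearMap.comp_apply, ← map_smul, hn, map_zero]⟩
      · refine Fin.cases ?_ ?_ i
        · rw [Fin.cons_zero]
          refine ⟨fun j x hx => sub_mem (hρ j x hx) (hσ j _ (hρ j x hx)), z b, dg b, hdg b, hz b,
            fun n => ?_⟩
          obtain ⟨w, hw, hwf⟩ := hσd n
          exact ⟨w ∘ₗ ρ, fun j x hx => hw j _ (hρ j x hx), fun x => hwf (ρ x)⟩
        · intro i; rw [Fin.cons_succ]; exact hA i
      · rw [Fin.sum_univ_succ]
        simp only [Fin.cons_zero, Fin.cons_succ, LinearMap.comp_apply, LinearMap.sub_apply,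
          LinearMap.id_apply]
        rw [← add_assoc, add_sub_cancel]
        exact hsum x
  obtain ⟨ρ, l, A, hρ, htor, hA, hsum⟩ := key (List.ofFn id)
  refine ⟨ρ, l, A, hρ, fun x => ?_, hA, hsum⟩
  have hle : Ideal.span (Set.range z) ≤
      Ideal.radical (LinearMap.ker (LinearMap.toSpanSingleton R X (ρ x)) : Ideal R) := by
    rw [Ideal.span_le]
    rintro _ ⟨b, rfl⟩
    obtain ⟨n, hn⟩ := htor b (List.mem_ofFn.2 ⟨b, rfl⟩) x
    exact ⟨n, by rw [LinearMap.mem_ker, LinearMap.toSpanSingleton_apply, hn]⟩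
  obtain ⟨n, hn⟩ := Ideal.exists_pow_le_of_le_radical_of_fg
    (hm.trans (Ideal.radical_le_radical_iff.2 hle)) (IsNoetherian.noetherian _)
  exact ⟨n, fun r hr => hn hr⟩

end Groth.Agent.GrSegre
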