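import Groth.Agent.GrSegre.Crit
import Groth.Agent.GrSegre.Tame
import Groth.Agent.GrLC.MapLin

/-!
# Maps between Segre products and acyclicity of `X # Y` for tame `X`, `Y`
-/

set_option autoImplicit false
set_option linter.unusedSectionVars false
set_option linter.style.haveILetI false
universe u

open DirectSum TensorProduct
open Groth.Agent.GrLC

namespace Groth.Agent.GrSegre

variable {k : Type u} [Field k]
variable {R S : Type u} [CommRing R] [CommRing S] [Algebra k R] [Algebra k S]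
  (𝒜 : ℤ → Submodule k R) [GradedAlgebra 𝒜] (ℬ : ℤ → Submodule k S) [GradedAlgebra ℬ]
  {T : Type u} [CommRing T] [Algebra k T] {𝒯 : ℤ → Submodule k T} [GradedAlgebra 𝒯]
  {ψ : T →ₐ[k] R ⊗[k] S}
variable {M N : Type u} [AddCommGroup M] [Module R M] [Module k M] [IsScalarTower k R M]
  [AddCommGroup N] [Module S N] [Module k N] [IsScalarTower k S N]
  {τ τ' : Type u} [SetLike τ M] [AddSubgroupClass τ M] [SetLike τ' N] [AddSubgroupClass τ' N]
  (ℳ : ℤ → τ) [DirectSum.Decomposition ℳ] [SetLike.GradedSMul 𝒜 ℳ]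
  (𝒩 : ℤ → τ') [DirectSum.Decomposition 𝒩] [SetLike.GradedSMul ℬ 𝒩]
variable {P : Type u} [AddCommGroup P] [Module T P] [Module k P] [IsScalarTower k T P]
  {τQ : Type u} [SetLike τQ P] [AddSubgroupClass τQ P] {𝒬 : ℤ → τQ} [DirectSum.Decomposition 𝒬]
  {φ : P →ₗ[k] M ⊗[k] N}

section Maps

variable {M' N' : Type u} [AddCommGroup M'] [Module R M'] [Module k M'] [IsScalarTower k R M']
  [AddCommGroup N'] [Module S N'] [Module k N'] [IsScalarTower k S N']
  {τ₁ τ₁' : Type u} [SetLike τ₁ M'] [AddSubgroupClass τ₁ M'] [SetLike τ₁' N'] [AddSubgroupClass τ₁' N']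
  (ℳ' : ℤ → τ₁) [DirectSum.Decomposition ℳ'] (𝒩' : ℤ → τ₁') [DirectSum.Decomposition 𝒩']
variable {P' : Type u} [AddCommGroup P'] [Module T P'] [Module k P'] [IsScalarTower k T P']
  {τQ' : Type u} [SetLike τQ' P'] [AddSubgroupClass τQ' P'] {𝒬' : ℤ → τQ'} [DirectSum.Decomposition 𝒬']
  {φ' : P' →ₗ[k] M' ⊗[k] N'}

/-- A pair of homogeneous maps of the same degree induces a map of Segre products. -/
theorem exists_segMap (hP : _root_.GrSeg.IsSegreMod ψ ℳ 𝒩 𝒬 φ)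
    (hP' : _root_.GrSeg.IsSegreMod ψ ℳ' 𝒩' 𝒬' φ') {f : M →ₗ[R] M'} {g : N →ₗ[S] N'} {c : ℤ}
    (hf : _root_.GrLC.IsGrHomDeg ℳ ℳ' f c) (hg : _root_.GrLC.IsGrHomDeg 𝒩 𝒩' g c) :
    ∃ h : P →ₗ[T] P', (∀ p, φ' (h p) =
      TensorProduct.map (f.restrictScalars k) (g.restrictScalars k) (φ p)) ∧
      _root_.GrLC.IsGrHomDeg 𝒬 𝒬' h c := by
  let F := TensorProduct.map (f.restrictScalars k) (g.restrictScalars k)
  have hseg : ∀ n, ∀ v ∈ _root_.GrSeg.segrePiece k ℳ 𝒩 n,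
      F v ∈ _root_.GrSeg.segrePiece k ℳ' 𝒩' (n + c) := by
    intro n v hv
    induction hv using Submodule.span_induction with
    | mem v hv =>
      obtain ⟨a, ha, b, hb, rfl⟩ := hv
      exact Submodule.subset_span ⟨f a, hf n a ha, g b, hg n b hb, rfl⟩
    | zero => rw [map_zero]; exact zero_mem _
    | add a b _ _ ha hb => rw [map_add]; exact add_mem ha hb
    | smul c a _ ha => rw [map_smul]; exact Submodule.smul_mem _ c ha
  have hex : ∀ p : P, ∃ q : P', φ' q = F (φ p) := by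
    intro p
    induction p using homogeneous_induction 𝒬 with
    | zero => exact ⟨0, by simp⟩
    | add a b ha hb =>
      obtain ⟨x, hx⟩ := ha
      obtain ⟨y, hy⟩ := hb
      exact ⟨x + y, by rw [map_add, map_add, map_add, hx, hy]⟩
    | hom n p hp =>
      obtain ⟨q, -, hq⟩ := exists_mem_eq ℳ' 𝒩' hP' (hseg n _ (mem_segrePiece_of_mem ℳ 𝒩 hP hp))
      exact ⟨q, hq⟩
  choose h hh using hex
  refine ⟨{ toFun := h
            map_add' := fun a b => hP'.injective (by rw [map_add, hh, hh, hh, map_add, map_add])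
            map_smul' := fun t p => hP'.injective (by
              rw [RingHom.id_apply, hP'.map_smul, hh, hh, hP.map_smul]
              exact map_act f g (ψ t) (φ p)) }, hh, fun n p hp => ?_⟩
  obtain ⟨q, hq, hq'⟩ := exists_mem_eq ℳ' 𝒩' hP' (hseg n _ (mem_segrePiece_of_mem ℳ 𝒩 hP hp))
  change h p ∈ 𝒬' (n + c)
  rwa [← hP'.injective (hq'.trans (hh p).symm)]

end Maps

include 𝒜 ℬ ℳ 𝒩 in
/-- Segre products of modules exist. -/
theorem exists_segre [IsNoetherianRing T] [IsNoetherianRing (R ⊗[k] S)] (hT : _root_.GrSeg.IsSegreRing 𝒜 ℬ 𝒯 ψ) :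
    ∃ Q : _root_.GrLC.GMod.{u} 𝒯,
      letI : Module k Q.carrier := Module.compHom Q.carrier (algebraMap k T)
      haveI : IsScalarTower k T Q.carrier := IsScalarTower.of_algebraMap_smul fun _ _ => rfl
      ∃ φ : Q.carrier →ₗ[k] M ⊗[k] N, _root_.GrSeg.IsSegreMod ψ ℳ 𝒩 Q.gr φ := by
  let θ : ℤ →+ ℤ × ℤ := (AddMonoidHom.id ℤ).prod (AddMonoidHom.id ℤ)
  have hθ : Function.Injective θ := fun a b h => congrArg Prod.fst h
  have hφ : ∀ (i : ℤ) (t : T), t ∈ 𝒯 i → ψ.toRingHom t ∈ biPiece k 𝒜 ℬ (θ i) := fun i t ht =>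
    (hT.2 i ▸ Submodule.mem_map_of_mem ht : ψ t ∈ _root_.GrSeg.segrePiece k 𝒜 ℬ i)
  obtain ⟨Q, g, hg⟩ := GrTransfer.exists_part ψ.toRingHom θ hθ (0 : ℤ × ℤ) hφ (biGMod 𝒜 ℬ ℳ 𝒩)
  letI : Module k Q.carrier := Module.compHom Q.carrier (algebraMap k T)
  haveI : IsScalarTower k T Q.carrier := IsScalarTower.of_algebraMap_smul fun _ _ => rfl
  let G : Q.carrier → M ⊗[k] N := fun q => g q
  have hsm : ∀ (t : T) (q : Q.carrier),
      G (t • q) = _root_.GrSeg.act k R S M N (ψ t) (G q) := fun t q => g.map_smulₛₗ t q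
  refine ⟨Q, { toFun := G
               map_add' := fun a b => map_add g a b
               map_smul' := fun c q => ?_ }, ⟨hg.injective, fun n => ?_, hsm⟩⟩
  · change G (algebraMap k T c • q) = c • G q
    rw [hsm, AlgHom.commutes, Algebra.algebraMap_eq_smul_one, map_smul, LinearMap.smul_apply]
    congr 1
    exact LinearMap.congr_fun (map_one (actHom k R S M N)) _
  · ext v
    constructor
    · rintro ⟨q, hq, rfl⟩
      have := hg.mem n q hq
      rw [zero_add] at this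
      exact this
    · intro hv
      obtain ⟨q, hq, hqv⟩ := hg.exists_eq n v (by rw [zero_add]; exact hv)
      exact ⟨q, hq, hqv⟩

section Torsion

variable (hT : _root_.GrSeg.IsSegreRing 𝒜 ℬ 𝒯 ψ) (hP : _root_.GrSeg.IsSegreMod ψ ℳ 𝒩 𝒬 φ)
variable (mT : HomogeneousIdeal 𝒯) (hmT : mT.toIdeal = irrI 𝒯)

include hT hmT in
theorem psi_mem_left_right {t : T} {n : ℕ} (ht : t ∈ mT.toIdeal ^ n) :
    ψ t ∈ (irrI 𝒜 ^ n).map (Algebra.TensorProduct.includeLeftRingHom : R →+* R ⊗[k] S) ∧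
    ψ t ∈ (irrI ℬ ^ n).map (Algebra.TensorProduct.includeRight : S →ₐ[k] R ⊗[k] S).toRingHom := by
  have h1 : (irrI 𝒯).map ψ.toRingHom ≤
        (irrI 𝒜).map (Algebra.TensorProduct.includeLeftRingHom : R →+* R ⊗[k] S) ⊓
        (irrI ℬ).map (Algebra.TensorProduct.includeRight : S →ₐ[k] R ⊗[k] S).toRingHom := by
    rw [irrI, Ideal.map_span, Ideal.span_le]
    rintro _ ⟨x, hx, rfl⟩
    obtain ⟨j, hj, hxj⟩ := Set.mem_iUnion₂.1 hx
    have h : ψ x ∈ _root_.GrSeg.segrePiece k 𝒜 ℬ j := hT.2 j ▸ Submodule.mem_map_of_mem hxj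
    change ψ x ∈ _
    generalize ψ x = v at h ⊢
    induction h using Submodule.span_induction with
    | mem v hv =>
      obtain ⟨a, ha, b, hb, rfl⟩ := hv
      have e : a ⊗ₜ[k] b = (a ⊗ₜ[k] (1 : S)) * ((1 : R) ⊗ₜ[k] b) := by
        rw [Algebra.TensorProduct.tmul_mul_tmul, mul_one, one_mul]
      have hj' : (0 : ℤ) < j := Set.mem_Ioi.1 hj
      exact ⟨e ▸ Ideal.mul_mem_right _ _ (Ideal.mem_map_of_mem _ (irr_irrI 𝒜 j hj' a ha)),
        e ▸ Ideal.mul_mem_left _ _ (Ideal.mem_map_of_mem _ (irr_irrI ℬ j hj' b hb))⟩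
    | zero => exact zero_mem _
    | add a b _ _ ha hb => exact add_mem ha hb
    | smul c a _ ha => exact Submodule.smul_of_tower_mem _ c ha
  have h2 : ψ t ∈ ((irrI 𝒯).map ψ.toRingHom) ^ n := by
    rw [← Ideal.map_pow, ← hmT]
    exact Ideal.mem_map_of_mem _ ht
  exact ⟨by rw [Ideal.map_pow]; exact Ideal.pow_right_mono (h1.trans inf_le_left) n h2,
    by rw [Ideal.map_pow]; exact Ideal.pow_right_mono (h1.trans inf_le_right) n h2⟩

theorem act_map_eq_zero_left {J : Ideal R} {a : M} (ha : ∀ r ∈ J, r • a = 0) (b : N) {w : R ⊗[k] S}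
    (hw : w ∈ J.map (Algebra.TensorProduct.includeLeftRingHom : R →+* R ⊗[k] S)) :
    _root_.GrSeg.act k R S M N w (a ⊗ₜ[k] b) = 0 := by
  induction hw using Submodule.span_induction with
  | mem w hw =>
    obtain ⟨r, hr, rfl⟩ := hw
    exact (_root_.GrSeg.act_tmul r (1 : S) a b).trans (by rw [ha r hr, TensorProduct.zero_tmul])
  | zero => rw [map_zero, LinearMap.zero_apply]
  | add x y _ _ hx hy => rw [map_add, LinearMap.add_apply, hx, hy, add_zero]
  | smul x y _ hy => rw [smul_eq_mul, act_mul, hy, map_zero]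

theorem act_map_eq_zero_right {J : Ideal S} (a : M) {b : N} (hb : ∀ s ∈ J, s • b = 0) {w : R ⊗[k] S}
    (hw : w ∈ J.map (Algebra.TensorProduct.includeRight : S →ₐ[k] R ⊗[k] S).toRingHom) :
    _root_.GrSeg.act k R S M N w (a ⊗ₜ[k] b) = 0 := by
  induction hw using Submodule.span_induction with
  | mem w hw =>
    obtain ⟨s, hs, rfl⟩ := hw
    exact (_root_.GrSeg.act_tmul (1 : R) s a b).trans (by rw [hb s hs, TensorProduct.tmul_zero])
  | zero => rw [map_zero, LinearMap.zero_apply]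
  | add x y _ _ hx hy => rw [map_add, LinearMap.add_apply, hx, hy, add_zero]
  | smul x y _ hy => rw [smul_eq_mul, act_mul, hy, map_zero]

variable (k R S M N) in
/-- `ΓM ⊗ N + M ⊗ ΓN` -/
noncomputable def gamTens (I : Ideal R) (J : Ideal S) : Submodule k (M ⊗[k] N) :=
  LinearMap.range (LinearMap.lTensor M ((_root_.GrLC.gam J N).restrictScalars k).subtype) ⊔
    LinearMap.range (LinearMap.rTensor N ((_root_.GrLC.gam I M).restrictScalars k).subtype)

include hT hP hmT in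
/-- elements of `ΓM ⊗ N + M ⊗ ΓN` are torsion -/
theorem mem_gam_of_gamTens {p : P} (hp : φ p ∈ gamTens k R S M N (irrI 𝒜) (irrI ℬ)) :
    p ∈ _root_.GrLC.gam mT.toIdeal P := by
  suffices key : ∀ v ∈ gamTens k R S M N (irrI 𝒜) (irrI ℬ), ∃ n : ℕ, ∀ t ∈ mT.toIdeal ^ n,
      _root_.GrSeg.act k R S M N (ψ t) v = 0 by
    obtain ⟨n, hn⟩ := key _ hp
    exact ⟨n, fun t ht => hP.injective (by rw [hP.map_smul, hn t ht, map_zero])⟩
  have hadd : ∀ v w : M ⊗[k] N,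
      (∃ n : ℕ, ∀ t ∈ mT.toIdeal ^ n, _root_.GrSeg.act k R S M N (ψ t) v = 0) →
      (∃ n : ℕ, ∀ t ∈ mT.toIdeal ^ n, _root_.GrSeg.act k R S M N (ψ t) w = 0) →
      ∃ n : ℕ, ∀ t ∈ mT.toIdeal ^ n, _root_.GrSeg.act k R S M N (ψ t) (v + w) = 0 := by
    rintro v w ⟨n, hn⟩ ⟨m, hm⟩
    exact ⟨max n m, fun t ht => by rw [map_add, hn t (Ideal.pow_le_pow_right (le_max_left n m) ht),
      hm t (Ideal.pow_le_pow_right (le_max_right n m) ht), add_zero]⟩
  rintro v hv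
  obtain ⟨_, ⟨x, rfl⟩, _, ⟨y, rfl⟩, rfl⟩ := Submodule.mem_sup.1 hv
  clear hv
  refine hadd _ _ ?_ ?_
  · induction x using TensorProduct.induction_on with
    | zero => exact ⟨0, fun t _ => by simp⟩
    | add a b ha hb => rw [map_add]; exact hadd _ _ ha hb
    | tmul a b =>
      obtain ⟨n, hn⟩ := b.2
      exact ⟨n, fun t ht => act_map_eq_zero_right a hn (psi_mem_left_right 𝒜 ℬ hT mT hmT ht).2⟩
  · induction y using TensorProduct.induction_on with
    | zero => exact ⟨0, fun t _ => by simp⟩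
    | add a b ha hb => rw [map_add]; exact hadd _ _ ha hb
    | tmul a b =>
      obtain ⟨n, hn⟩ := a.2
      exact ⟨n, fun t ht => act_map_eq_zero_left hn _ (psi_mem_left_right 𝒜 ℬ hT mT hmT ht).1⟩

theorem map_pow_smul {f : R} {g : S} (a b : ℕ) (w : M →ₗ[R] M) (w' : N →ₗ[S] N)
    {A : M →ₗ[R] M} {B : N →ₗ[S] N} (hA : ∀ x, f ^ a • w x = A x) (hB : ∀ y, g ^ b • w' y = B y)
    (v : M ⊗[k] N) :
    _root_.GrSeg.act k R S M N ((f ^ a) ⊗ₜ[k] (g ^ b))
      (TensorProduct.map (w.restrictScalars k) (w'.restrictScalars k) v) =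
      TensorProduct.map (A.restrictScalars k) (B.restrictScalars k) v := by
  induction v using TensorProduct.induction_on with
  | zero => simp
  | add x y hx hy => simp only [map_add, hx, hy]
  | tmul x y =>
    rw [TensorProduct.map_tmul, TensorProduct.map_tmul, _root_.GrSeg.act_tmul,
      LinearMap.restrictScalars_apply, LinearMap.restrictScalars_apply, hA, hB]
    rfl

include hT hP hmT in
/-- A product of divisible endomorphisms is divisible by an element of `T₊`. -/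
theorem exists_divisible {f : R} {e : ℤ} (he : 0 < e) (hf : f ∈ 𝒜 e) {A : M →ₗ[R] M}
    (hA : IsDivisible ℳ f e A) {g : S} {e' : ℤ} (he' : 0 < e') (hg : g ∈ ℬ e') {B : N →ₗ[S] N}
    (hB : IsDivisible 𝒩 g e' B) {h : P →ₗ[T] P}
    (hh : ∀ p, φ (h p) = TensorProduct.map (A.restrictScalars k) (B.restrictScalars k) (φ p)) :
    ∃ t ∈ mT.toIdeal, ∀ n : ℕ, ∃ w : P →ₗ[T] P, h = t ^ n • w := by
  obtain ⟨a, rfl⟩ : ∃ a : ℕ, e = a := ⟨e.toNat, by omega⟩
  obtain ⟨b, rfl⟩ : ∃ b : ℕ, e' = b := ⟨e'.toNat, by omega⟩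
  have hfa : f ^ b ∈ 𝒜 ((a * b : ℕ) : ℤ) := by
    have := SetLike.pow_mem_graded b hf
    rwa [nsmul_eq_mul, mul_comm, ← Nat.cast_mul] at this
  have hgb : g ^ a ∈ ℬ ((a * b : ℕ) : ℤ) := by
    have := SetLike.pow_mem_graded a hg
    rwa [nsmul_eq_mul, ← Nat.cast_mul] at this
  obtain ⟨t, ht, hψ⟩ := mem_segrePiece_ring 𝒜 ℬ hT hfa hgb
  refine ⟨t, ?_, fun n => ?_⟩
  · rw [hmT]
    refine irr_irrI 𝒯 _ ?_ t ht
    have : 0 < a * b := Nat.mul_pos (by omega) (by omega)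
    exact_mod_cast this
  obtain ⟨w, hw, hwA⟩ := hA (b * n)
  obtain ⟨w', hw', hwB⟩ := hB (a * n)
  have hdeg : -(((a * n : ℕ) : ℤ) * (b : ℤ)) = -(((b * n : ℕ) : ℤ) * (a : ℤ)) := by push_cast; ring
  rw [hdeg] at hw'
  obtain ⟨W, hW, -⟩ := exists_segMap ℳ 𝒩 ℳ 𝒩 hP hP hw hw'
  refine ⟨W, LinearMap.ext fun p => hP.injective ?_⟩
  rw [hh, LinearMap.smul_apply, hP.map_smul, hW, map_pow, hψ, Algebra.TensorProduct.tmul_pow,
    ← pow_mul, ← pow_mul]
  exact (map_pow_smul (b * n) (a * n) w w' hwA hwB (φ p)).symm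

include hT hP hmT in
/-- The identity of `M # N` is a torsion-valued map plus divisible ones. -/
theorem exists_segre_expansion (hM : IsTame 𝒜 ℳ (irrI 𝒜)) (hN : IsTame ℬ 𝒩 (irrI ℬ)) :
    ∃ (ρ : P →ₗ[T] P) (l : ℕ) (A : Fin l → P →ₗ[T] P),
      (∀ p, φ (ρ p) ∈ gamTens k R S M N (irrI 𝒜) (irrI ℬ)) ∧
      (∀ i, ∃ t ∈ mT.toIdeal, ∀ n : ℕ, ∃ w : P →ₗ[T] P, A i = t ^ n • w) ∧
      ∀ p, p = ρ p + ∑ i, A i p := by
  classical
  obtain ⟨ρ, s, A, hρ, hρt, hA, hsumA⟩ := hM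
  obtain ⟨ρ', s', B, hρ', hρt', hB, hsumB⟩ := hN
  have h0 : ∀ {f : M →ₗ[R] M}, _root_.GrLC.IsGrHom ℳ ℳ f → _root_.GrLC.IsGrHomDeg ℳ ℳ f 0 :=
    fun h j x hx => by rw [add_zero]; exact h j x hx
  have h0' : ∀ {f : N →ₗ[S] N}, _root_.GrLC.IsGrHom 𝒩 𝒩 f → _root_.GrLC.IsGrHomDeg 𝒩 𝒩 f 0 :=
    fun h j x hx => by rw [add_zero]; exact h j x hx
  obtain ⟨r₁, hr₁, -⟩ := exists_segMap ℳ 𝒩 ℳ 𝒩 hP hP (h0 hρ)
    (h0' (f := LinearMap.id) fun _ _ hx => hx)
  choose r₂ hr₂ _ using fun i => exists_segMap ℳ 𝒩 ℳ 𝒩 hP hP (h0 (hA i).1) (h0' hρ')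
  choose D hD _ using fun q : Fin s × Fin s' =>
    exists_segMap ℳ 𝒩 ℳ 𝒩 hP hP (h0 (hA q.1).1) (h0' (hB q.2).1)
  let eq : Fin (Fintype.card (Fin s × Fin s')) ≃ Fin s × Fin s' := (Fintype.equivFin _).symm
  refine ⟨r₁ + ∑ i, r₂ i, _, fun i => D (eq i), fun p => ?_, fun i => ?_, fun p => hP.injective ?_⟩
  · rw [LinearMap.add_apply, LinearMap.sum_apply, map_add, map_sum, hr₁]
    simp only [hr₂]
    refine add_mem (Submodule.mem_sup_right ?_) (sum_mem fun i _ => Submodule.mem_sup_left ?_)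
    · generalize φ p = v
      induction v using TensorProduct.induction_on with
      | zero => rw [map_zero]; exact zero_mem _
      | add x y hx hy => rw [map_add]; exact add_mem hx hy
      | tmul x y => exact ⟨(⟨ρ x, hρt x⟩ : (_root_.GrLC.gam (irrI 𝒜) M).restrictScalars k) ⊗ₜ[k] y, rfl⟩
    · generalize φ p = v
      induction v using TensorProduct.induction_on with
      | zero => rw [map_zero]; exact zero_mem _
      | add x y hx hy => rw [map_add]; exact add_mem hx hy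
      | tmul x y =>
        exact ⟨A i x ⊗ₜ[k] (⟨ρ' y, hρt' y⟩ : (_root_.GrLC.gam (irrI ℬ) N).restrictScalars k), rfl⟩
  · obtain ⟨f, e, he, hf, hd⟩ := (hA (eq i).1).2
    obtain ⟨g, e', he', hg, hd'⟩ := (hB (eq i).2).2
    exact exists_divisible 𝒜 ℬ ℳ 𝒩 hT hP mT hmT he hf hd he' hg hd' (hD (eq i))
  · rw [Equiv.sum_comp eq (fun q => D q p), Fintype.sum_prod_type, LinearMap.add_apply,
      LinearMap.sum_apply, map_add, map_add, map_sum, map_sum, hr₁]
    simp only [map_sum, hD, hr₂]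
    generalize φ p = v
    induction v using TensorProduct.induction_on with
    | zero => simp
    | add x y hx hy =>
      simp only [map_add, Finset.sum_add_distrib]
      conv_lhs => rw [hx, hy]
      abel
    | tmul x y =>
      simp only [TensorProduct.map_tmul, LinearMap.restrictScalars_apply, LinearMap.id_apply,
        ← TensorProduct.tmul_sum]
      rw [add_assoc, ← Finset.sum_add_distrib]
      simp only [← TensorProduct.tmul_add, ← hsumB, ← TensorProduct.sum_tmul, ← TensorProduct.add_tmul,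
        ← hsumA]

variable [IsNoetherianRing T] [SetLike.GradedSMul 𝒯 𝒬]

include hT hP hmT in
/-- Segre products of tame modules are acyclic. -/
theorem subsingleton_H_segre (hM : IsTame 𝒜 ℳ (irrI 𝒜)) (hN : IsTame ℬ 𝒩 (irrI ℬ)) (q : ℕ) :
    Subsingleton (LocCoh.H mT.toIdeal (q + 1) P) := by
  obtain ⟨ρ, l, A, hρ, hA, hsum⟩ := exists_segre_expansion 𝒜 ℬ ℳ 𝒩 hT hP mT hmT hM hN
  refine subsingleton_of_forall_eq 0 fun x => ?_
  have hid : (LinearMap.id : P →ₗ[T] P) = ρ + ∑ i, A i := LinearMap.ext fun p => by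
    rw [LinearMap.add_apply, LinearMap.sum_apply]; exact hsum p
  rw [← LocCohElt.map_id mT.toIdeal (q + 1) x, hid, H_map_add, H_map_sum]
  have h1 : LocCohElt.map mT.toIdeal (q + 1) ρ x = 0 := by
    have hmem : ∀ p, ρ p ∈ _root_.GrLC.gam mT.toIdeal P := fun p =>
      mem_gam_of_gamTens 𝒜 ℬ ℳ 𝒩 hT hP mT hmT (hρ p)
    haveI := LocCohElt.subsingleton_of_powerTorsion mT.toIdeal q (_root_.GrLC.gam mT.toIdeal P)
      fun z => z.2.elim fun n hn => ⟨n, fun r hr => Subtype.ext (hn r hr)⟩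
    rw [show ρ = (_root_.GrLC.gam mT.toIdeal P).subtype ∘ₗ ρ.codRestrict _ hmem from rfl,
      ← LocCohElt.map_comp, Subsingleton.elim (LocCohElt.map mT.toIdeal (q + 1) (ρ.codRestrict _ hmem) x) 0,
      map_zero]
  rw [h1, zero_add]
  refine Finset.sum_eq_zero fun i _ => ?_
  obtain ⟨t, ht, hw⟩ := hA i
  obtain ⟨n, hn⟩ := LocCohElt.exists_pow_smul_eq_zero mT.toIdeal (q + 1) x
  obtain ⟨w, hw⟩ := hw n
  rw [hw, LocCohElt.map_smul_hom, ← map_smul, hn _ (Ideal.pow_mem_pow ht n), map_zero]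

include hT hP hmT in
/-- The torsion of a Segre product of tame modules. -/
theorem mem_gam_segre_iff (hM : IsTame 𝒜 ℳ (irrI 𝒜)) (hN : IsTame ℬ 𝒩 (irrI ℬ)) (p : P) :
    p ∈ _root_.GrLC.gam mT.toIdeal P ↔ φ p ∈ gamTens k R S M N (irrI 𝒜) (irrI ℬ) := by
  refine ⟨fun ⟨n, hn⟩ => ?_, mem_gam_of_gamTens 𝒜 ℬ ℳ 𝒩 hT hP mT hmT⟩
  obtain ⟨ρ, l, A, hρ, hA, hsum⟩ := exists_segre_expansion 𝒜 ℬ ℳ 𝒩 hT hP mT hmT hM hN
  have hz : ∑ i, A i p = 0 := Finset.sum_eq_zero fun i _ => by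
    obtain ⟨t, ht, hw⟩ := hA i
    obtain ⟨w, hw⟩ := hw n
    rw [hw, LinearMap.smul_apply, ← map_smul, hn _ (Ideal.pow_mem_pow ht n), map_zero]
  have hp := hsum p
  rw [hz, add_zero] at hp
  rw [hp]
  exact hρ p

end Torsion

end Groth.Agent.GrSegre
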