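import Groth.Agent.GrSegre.TopMap
import Groth.Agent.GrSegre.DualSegre
import Groth.Agent.GrSegre.Crit
import Groth.Agent.GrSegre.AddBridge
import Groth.Agent.GrDual.GorCriterion

/-!
# The canonical module of a Segre product of Gorenstein algebras
-/

set_option autoImplicit false
set_option linter.unusedSectionVars false
set_option linter.style.haveILetI false
universe u

open DirectSum TensorProduct
open Groth.Agent.GrLC
open Groth.Agent.GrDual (Base shA base_of_span)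

noncomputable section

namespace Groth.Agent.GrSegre

variable {k : Type u} [Field k]

section Ring

variable {R : Type u} [CommRing R] [Algebra k R] {𝒜 : ℤ → Submodule k R} [GradedAlgebra 𝒜]

instance shAddSMul (g : ℤ) : SetLike.GradedSMul 𝒜 (shA (addGr 𝒜) g) :=
  ⟨fun i j r x hr hx => by
    have h := smul_mem_gr (𝒜 := 𝒜) (ℳ := 𝒜) (hr : r ∈ 𝒜 i) (show x ∈ 𝒜 (j + -g) from hx)
    change r • x ∈ 𝒜 ((i +ᵥ j) + -g)
    rwa [vadd_eq_add, add_assoc]⟩

/-- the `k`-structure of a graded module over the regraded algebra -/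
scoped instance gmodKAdd (X : _root_.GrLC.GMod.{u} (addGr 𝒜)) : Module k X.carrier :=
  Module.compHom X.carrier (algebraMap k R)

scoped instance gmodTowerAdd (X : _root_.GrLC.GMod.{u} (addGr 𝒜)) : IsScalarTower k R X.carrier :=
  IsScalarTower.of_algebraMap_smul fun _ _ => rfl

theorem hgr_eq_bot_above [IsNoetherianRing R] (m : HomogeneousIdeal 𝒜) (I : _root_.GrLC.StarInjRes 𝒜 𝒜)
    {r q : ℕ} (hr : ringKrullDim R ≤ r) (hq : r < q) (d : ℤ) : I.Hgr m q d = ⊥ := by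
  haveI : Subsingleton (LocCoh.H m.toIdeal q R) :=
    LocCoh.subsingleton_H_of_supportDim_lt _ (r + 1) R (by
      rw [Module.supportDim_self_eq_ringKrullDim]
      exact hr.trans_lt (by exact_mod_cast Nat.lt_succ_self r)) q hq
  haveI : Subsingleton (I.H m q) := (Hequiv I m q).injective.subsingleton
  exact AddSubgroup.eq_bot_of_subsingleton _

theorem exists_shiftDual_ring [Nontrivial R] [Algebra.FiniteType k R] [LocCoh.IsGorensteinRing R]
    (hpos : ∀ n : ℤ, n < 0 → 𝒜 n = ⊥) (h0 : 𝒜 0 = Submodule.span k {(1 : R)})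
    (m : HomogeneousIdeal 𝒜) (hm : m.toIdeal = irrI 𝒜) (I : _root_.GrLC.StarInjRes 𝒜 𝒜) {r : ℕ}
    (hr : ringKrullDim R = r) [DirectSum.Decomposition (I.Hgr m r)] :
    ∃ (g : ℤ) (β : R →ₗ[k] I.H m r →ₗ[k] k),
      _root_.GrSeg.IsGDual R (I.Hgr m r) (shA (addGr 𝒜) g) β ∧
      _root_.GrLC.endDeg (I.Hgr m r) = (((-g : ℤ) : WithTop ℤ) : WithBot (WithTop ℤ)) := by
  haveI := Algebra.FiniteType.isNoetherianRing k R
  have hB' := base_addGr (base_of_span hpos h0)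
  letI : DirectSum.Decomposition ((upRes I).Hgr (addIdeal 𝒜 m) r) :=
    ‹DirectSum.Decomposition (I.Hgr m r)›
  haveI := Hgr_gradedSMul (upRes I) (addIdeal 𝒜 m) r
  obtain ⟨g, β, hβ⟩ := Groth.Agent.GrDual.exists_shiftDual_of_gorenstein (k := k) hB'
    (isStarLocal_addGr hpos h0 m hm) (fun i hi x hx => (hm ▸ irr_irrI 𝒜 i hi x hx : x ∈ m.toIdeal))
    (upRes I) hr
  exact ⟨g, β, hβ, Groth.Agent.GrDual.endDeg_of_shiftDual (k := k) (H := (upRes I).H (addIdeal 𝒜 m) r) (ℋ := (upRes I).Hgr (addIdeal 𝒜 m) r) hB' hβ⟩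

theorem gorenstein_of_shiftDual [Nontrivial R] [IsNoetherianRing R] [LocCoh.IsCohenMacaulayRing R]
    (hpos : ∀ n : ℤ, n < 0 → 𝒜 n = ⊥) (h0 : 𝒜 0 = Submodule.span k {(1 : R)})
    (m : HomogeneousIdeal 𝒜) (hm : m.toIdeal = irrI 𝒜) (I : _root_.GrLC.StarInjRes 𝒜 𝒜) {r : ℕ}
    (hr : ringKrullDim R = r) [DirectSum.Decomposition (I.Hgr m r)] {g : ℤ}
    {β : R →ₗ[k] I.H m r →ₗ[k] k} (hβ : _root_.GrSeg.IsGDual R (I.Hgr m r) (shA (addGr 𝒜) g) β) :
    LocCoh.IsGorensteinRing R := by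
  have hB' := base_addGr (base_of_span hpos h0)
  letI : DirectSum.Decomposition ((upRes I).Hgr (addIdeal 𝒜 m) r) :=
    ‹DirectSum.Decomposition (I.Hgr m r)›
  haveI := Hgr_gradedSMul (upRes I) (addIdeal 𝒜 m) r
  have hloc := isStarLocal_addGr hpos h0 m hm
  have htower : IsScalarTower k R (I.H m r) := inferInstance
  exact @Groth.Agent.GrDual.isGorensteinRing_of_shiftDual k _ R _ _ _ (addGr 𝒜) _ hB' _ hloc
    (fun i hi x hx => (hm ▸ irr_irrI 𝒜 i hi x hx : x ∈ m.toIdeal)) r (upRes I) _ htower _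
    (Hgr_gradedSMul (upRes I) (addIdeal 𝒜 m) r)
    (fun i hi => Groth.Agent.GrDual.subsingleton_H_of_ne hB' hloc (upRes I) hr hi) g β hβ

theorem finite_shA [Nontrivial R] [Algebra.FiniteType k R] (hB : Base k 𝒜) (g n : ℤ) :
    Module.Finite k (kPc 𝒜 (shA (addGr 𝒜) g) n) := by
  haveI := Algebra.FiniteType.isNoetherianRing k R
  exact finite_kPc hB (ℳ := shA (addGr 𝒜) g) n

end Ring

section Segre

variable {R S : Type u} [CommRing R] [CommRing S] [Algebra k R] [Algebra k S]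
  {𝒜 : ℤ → Submodule k R} [GradedAlgebra 𝒜] {ℬ : ℤ → Submodule k S} [GradedAlgebra ℬ]
  {T : Type u} [CommRing T] [Algebra k T] {𝒯 : ℤ → Submodule k T} [GradedAlgebra 𝒯]
  {ψ : T →ₐ[k] R ⊗[k] S} [Nontrivial R] [Nontrivial S] [Algebra.FiniteType k R] [Algebra.FiniteType k S]

theorem isSegreMod_shift (hT : _root_.GrSeg.IsSegreRing 𝒜 ℬ 𝒯 ψ) (g : ℤ) :
    _root_.GrSeg.IsSegreMod ψ (shA (addGr 𝒜) g) (shA (addGr ℬ) g) (shA (addGr 𝒯) g) ψ.toLinearMap where
  injective := hT.1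
  image_piece n := (isSegreMod_self 𝒜 ℬ 𝒯 ψ hT).image_piece (n + -g)
  map_smul := (isSegreMod_self 𝒜 ℬ 𝒯 ψ hT).map_smul

end Segre

end Groth.Agent.GrSegre
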