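import Groth.Agent.GrSegre.SegreGor
import Groth.Agent.GrSegre.CritRing
import Groth.Agent.GrDual.Growth
import Groth.Agent.GrDual.TopCoh
import Groth.Agent.GrLC.StandardCM

/-!
# Gorenstein Segre products have Gorenstein factors
-/

set_option autoImplicit false
set_option linter.unusedSectionVars false
set_option linter.style.haveILetI false
universe u

open DirectSum TensorProduct
open Groth.Agent.GrLC
open Groth.Agent.GrDual (Base shA cptₖ pieceK)

noncomputable section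

namespace Groth.Agent.GrSegre

variable {k : Type u} [Field k]

section Growth

variable {R : Type u} [CommRing R] [Algebra k R] [IsNoetherianRing R] {σ : Type u} [SetLike σ R]
  [AddSubgroupClass σ R] {𝒜 : ℤ → σ} [GradedRing 𝒜]

/-- below a nonzero degree the top local cohomology of a standard algebra is not one-dimensional -/
theorem top_not_one_dim_below (hB : Base k 𝒜)
    (hstd : Ideal.span (⋃ n ∈ Set.Ioi (0 : ℤ), (𝒜 n : Set R)) = Ideal.span ((𝒜 1 : σ) : Set R))
    (m : HomogeneousIdeal 𝒜) (I : _root_.GrLC.StarInjRes 𝒜 𝒜) {n : ℕ} (hn : ringKrullDim R = n)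
    (h2 : 2 ≤ n) [Module k (I.H m n)] [IsScalarTower k R (I.H m n)]
    [DirectSum.Decomposition (I.Hgr m n)] [SetLike.GradedSMul 𝒜 (I.Hgr m n)]
    {a b : ℤ} (hab : a < b) {h : I.H m n} (hh : h ∈ I.Hgr m n b) (hne : h ≠ 0)
    {h0 : I.H m n} (hspan : ∀ z ∈ I.Hgr m n a, ∃ c : k, z = c • h0) : False := by
  classical
  obtain ⟨l, hl⟩ : ∃ l : I.H m n →ₗ[k] k, l h ≠ 0 := by
    by_contra hc
    push Not at hc
    exact hne ((Module.forall_dual_apply_eq_zero_iff k h).1 hc)
  let ε : I.H m n →ₗ[k] k := l.comp (cptₖ hB (I.Hgr m n) b)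
  have hεne : ∀ (d : ℤ) (z : I.H m n), z ∈ I.Hgr m n d → d ≠ b → ε z = 0 := fun d z hz hd => by
    change l (cpt (I.Hgr m n) b z) = 0
    rw [cpt_of_mem_ne (I.Hgr m n) hz hd, map_zero]
  let J : Ideal R :=
    { carrier := {x | ∀ z : I.H m n, ε (x • z) = 0}
      add_mem' := fun {x y} hx hy z => by rw [add_smul, map_add, hx z, hy z, add_zero]
      zero_mem' := fun z => by rw [zero_smul, map_zero]
      smul_mem' := fun c x hx z => by rw [smul_eq_mul, mul_comm, mul_smul]; exact hx (c • z) }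
  obtain ⟨i, hi, rfl⟩ : ∃ i : ℤ, 0 ≤ i ∧ b = i + 1 + a := ⟨b - a - 1, by omega, by ring⟩
  have hJ : ∀ x ∈ 𝒜 (i + 1), ε (x • h0) = 0 → x ∈ J := by
    intro x hx hx0 z
    induction z using homogeneous_induction (I.Hgr m n) with
    | zero => rw [smul_zero, map_zero]
    | add u v hu hv => rw [smul_add, map_add, hu, hv, add_zero]
    | hom d z hz =>
      by_cases hd : d = a
      · subst hd
        obtain ⟨c, rfl⟩ := hspan z hz
        rw [smul_comm, map_smul, hx0, smul_zero]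
      · exact hεne _ _ (smul_mem_gr (𝒜 := 𝒜) (ℳ := I.Hgr m n) hx hz) (by omega)
  obtain ⟨y, hy, hyspan⟩ : ∃ y ∈ 𝒜 (i + 1), ∀ x ∈ 𝒜 (i + 1),
      ∃ t : k, x - algebraMap k R t * y ∈ J := by
    by_cases hz : ∀ x ∈ 𝒜 (i + 1), ε (x • h0) = 0
    · exact ⟨0, zero_mem _, fun x hx => ⟨0, by simpa using hJ x hx (hz x hx)⟩⟩
    push Not at hz
    obtain ⟨y, hy, hy0⟩ := hz
    refine ⟨y, hy, fun x hx => ⟨ε (x • h0) / ε (y • h0), hJ _ (sub_mem hx ?_) ?_⟩⟩
    · have := SetLike.GradedMul.mul_mem (A := 𝒜) (hB.alg_mem (ε (x • h0) / ε (y • h0))) hy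
      rwa [zero_add] at this
    · rw [sub_smul, map_sub, mul_smul, algebraMap_smul, ε.map_smul (ε (x • h0) / ε (y • h0)), smul_eq_mul, div_mul_cancel₀ _ hy0,
        sub_self]
  have hdim : ringKrullDim (R ⧸ J) ≤ 1 := GrDual.ringKrullDim_quotient_le_one hB hstd J hi hy hyspan
  haveI : Subsingleton (LocCoh.H m.toIdeal n (R ⧸ J)) := by
    refine Groth.Agent.LocCoh.subsingleton_H_of_supportDim_lt m.toIdeal n _ ?_ n le_rfl
    rw [Module.supportDim_quotient_eq_ringKrullDim]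
    exact hdim.trans_lt (by exact_mod_cast (by omega : 1 < n))
  obtain ⟨t, r, hr⟩ := Submodule.fg_iff_exists_fin_generating_family.1 (IsNoetherian.noetherian J)
  obtain ⟨h', hh'⟩ := GrDual.exists_relations m.toIdeal (fun _ : Fin 1 => Ideal.Quotient.mk J 1) hn
    (fun q => by
      obtain ⟨x, rfl⟩ := Ideal.Quotient.mk_surjective q
      exact ⟨fun _ => x, by simp [Fintype.linearCombination_apply, Algebra.smul_def]⟩)
    (fun b _ => r b) (fun v => by
      constructor
      · intro hv0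
        have : v 0 ∈ J := by
          refine Ideal.Quotient.eq_zero_iff_mem.1 ?_
          simpa [Fintype.linearCombination_apply, Algebra.smul_def] using hv0
        rw [← hr, Submodule.mem_span_range_iff_exists_fun] at this
        obtain ⟨w, hw⟩ := this
        refine ⟨w, funext fun z => ?_⟩
        rw [Subsingleton.elim z 0, Fintype.linearCombination_apply, ← hw]
        simp [Finset.sum_apply]
      · rintro ⟨w, rfl⟩
        rw [Fintype.linearCombination_apply, Fintype.linearCombination_apply]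
        simp only [Finset.univ_unique, Finset.sum_singleton, Finset.sum_apply, Pi.smul_apply,
          smul_eq_mul]
        rw [Algebra.smul_def, Ideal.Quotient.algebraMap_eq, ← map_mul, mul_one,
          Ideal.Quotient.eq_zero_iff_mem]
        exact sum_mem fun b _ => Ideal.mul_mem_left _ _ (hr ▸ Submodule.subset_span ⟨b, rfl⟩))
    (fun _ => Hequiv I m n h) (Subsingleton.elim _ _)
  have hz' : h = ∑ b, r b • (Hequiv I m n).symm (h' b) := by
    refine (Hequiv I m n).injective ((hh' 0).trans ?_)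
    rw [map_sum]
    exact Finset.sum_congr rfl fun b _ => by rw [map_smul, LinearEquiv.apply_symm_apply]
  refine hl ?_
  rw [← cpt_of_mem (I.Hgr m n) hh]
  change ε h = 0
  rw [hz', map_sum]
  refine Finset.sum_eq_zero fun b _ => ?_
  exact (show r b ∈ J from hr ▸ Submodule.subset_span ⟨b, rfl⟩) _

end Growth

section Factor

variable {R S : Type u} [CommRing R] [CommRing S] [Algebra k R] [Algebra k S]
  {𝒜 : ℤ → Submodule k R} [GradedAlgebra 𝒜] {ℬ : ℤ → Submodule k S} [GradedAlgebra ℬ]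
  {T : Type u} [CommRing T] [Algebra k T] {𝒯 : ℤ → Submodule k T} [GradedAlgebra 𝒯]
  {ψ : T →ₐ[k] R ⊗[k] S}
variable {M : Type u} [AddCommGroup M] [Module R M] [Module k M] [IsScalarTower k R M]
  {τ : Type u} [SetLike τ M] [AddSubgroupClass τ M] {ℳ : ℤ → τ} [DirectSum.Decomposition ℳ]
  [SetLike.GradedSMul 𝒜 ℳ]
variable {N : Type u} [AddCommGroup N] [Module S N] [Module k N] [IsScalarTower k S N]
  {τ' : Type u} [SetLike τ' N] [AddSubgroupClass τ' N] {𝒩 : ℤ → τ'}
variable {Q : Type u} [AddCommGroup Q] [Module T Q] [Module k Q] [IsScalarTower k T Q]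
  {τQ : Type u} [SetLike τQ Q] [AddSubgroupClass τQ Q] {𝒬 : ℤ → τQ} [DirectSum.Decomposition 𝒬]
  [SetLike.GradedSMul 𝒯 𝒬] {φ : Q →ₗ[k] M ⊗[k] N}

theorem act_comm {u : R ⊗[k] S} {v : M ⊗[k] N} :
    TensorProduct.comm k M N (_root_.GrSeg.act k R S M N u v) =
      _root_.GrSeg.act k S R N M (Algebra.TensorProduct.comm k R S u) (TensorProduct.comm k M N v) := by
  induction u using TensorProduct.induction_on with
  | zero => simp
  | add a b ha hb => simp only [map_add, LinearMap.add_apply, ha, hb]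
  | tmul r s =>
    induction v using TensorProduct.induction_on with
    | zero => simp
    | add a b ha hb => simp only [map_add, ha, hb]
    | tmul x y =>
      rw [_root_.GrSeg.act_tmul, TensorProduct.comm_tmul, TensorProduct.comm_tmul,
        Algebra.TensorProduct.comm_tmul, _root_.GrSeg.act_tmul]

theorem map_segrePiece_comm {X Y : Type u} [AddCommGroup X] [Module k X] [AddCommGroup Y] [Module k Y]
    {τ₁ τ₂ : Type u} [SetLike τ₁ X] [SetLike τ₂ Y] (𝒳 : ℤ → τ₁) (𝒴 : ℤ → τ₂) (n : ℤ) :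
    (_root_.GrSeg.segrePiece k 𝒳 𝒴 n).map (TensorProduct.comm k X Y).toLinearMap =
      _root_.GrSeg.segrePiece k 𝒴 𝒳 n := by
  rw [_root_.GrSeg.segrePiece, Submodule.map_span]
  refine congrArg (Submodule.span k) (Set.ext fun z => ?_)
  constructor
  · rintro ⟨_, ⟨a, ha, b, hb, rfl⟩, rfl⟩
    exact ⟨b, hb, a, ha, rfl⟩
  · rintro ⟨b, hb, a, ha, rfl⟩
    exact ⟨a ⊗ₜ b, ⟨a, ha, b, hb, rfl⟩, rfl⟩

theorem isSegreRing_comm (hT : _root_.GrSeg.IsSegreRing 𝒜 ℬ 𝒯 ψ) :
    _root_.GrSeg.IsSegreRing ℬ 𝒜 𝒯 ((Algebra.TensorProduct.comm k R S).toAlgHom.comp ψ) := by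
  refine ⟨(Algebra.TensorProduct.comm k R S).injective.comp hT.1, fun n => ?_⟩
  rw [← map_segrePiece_comm 𝒜 ℬ n, ← hT.2 n, ← Submodule.map_comp]
  rfl

omit [DirectSum.Decomposition ℳ] [SetLike.GradedSMul 𝒜 ℳ] [AddSubgroupClass τ M] [AddSubgroupClass τ' N]
  [SetLike.GradedSMul 𝒯 𝒬] in
theorem isSegreMod_comm (hQ : _root_.GrSeg.IsSegreMod ψ ℳ 𝒩 𝒬 φ) :
    _root_.GrSeg.IsSegreMod ((Algebra.TensorProduct.comm k R S).toAlgHom.comp ψ) 𝒩 ℳ 𝒬
      ((TensorProduct.comm k M N).toLinearMap.comp φ) where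
  injective := (TensorProduct.comm k M N).injective.comp hQ.injective
  image_piece n := by
    rw [← map_segrePiece_comm ℳ 𝒩 n, Submodule.map_coe, ← hQ.image_piece n, Set.image_image]
    rfl
  map_smul t p := by
    change TensorProduct.comm k M N (φ (t • p)) = _
    rw [hQ.map_smul]
    exact act_comm

set_option maxHeartbeats 800000 in
/-- a factor of a self-dual Segre product is self-dual -/
theorem exists_shiftDual_factor [IsNoetherianRing R] [IsNoetherianRing T] [Nontrivial R]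
    (hBR : Base k 𝒜) (hBT : Base k 𝒯) (hT : _root_.GrSeg.IsSegreRing 𝒜 ℬ 𝒯 ψ)
    (hS : ∀ j : ℤ, 0 ≤ j → ∃ y ∈ ℬ j, y ≠ (0 : S))
    (hQ : _root_.GrSeg.IsSegreMod ψ ℳ 𝒩 𝒬 φ) {g : ℤ} {βT : T →ₗ[k] Q →ₗ[k] k}
    (hβ : _root_.GrSeg.IsGDual T 𝒬 (shA (addGr 𝒯) g) βT)
    {h0 : M} (hh0 : h0 ∈ ℳ (-g)) (hh0ne : h0 ≠ 0) (hspan : ∀ z ∈ ℳ (-g), ∃ c : k, z = c • h0)
    (habove : ∀ d, -g < d → ∀ z ∈ ℳ d, z = 0)
    (hN : ∀ d, d ≤ -g → ∃ y ∈ 𝒩 d, y ≠ (0 : N)) :
    ∃ β : R →ₗ[k] M →ₗ[k] k, _root_.GrSeg.IsGDual R ℳ (shA (addGr 𝒜) g) β := by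
  classical
  haveI : SetLike.GradedSMul (addGr 𝒯) 𝒬 :=
    ⟨fun _ _ _ _ hr hm => smul_mem_gr (𝒜 := 𝒯) (ℳ := 𝒬) hr hm⟩
  obtain ⟨l, hl⟩ : ∃ l : M →ₗ[k] k, l h0 ≠ 0 := by
    by_contra hc
    push Not at hc
    exact hh0ne ((Module.forall_dual_apply_eq_zero_iff k h0).1 hc)
  let ε : M →ₗ[k] k := l.comp (cptₖ hBR ℳ (-g))
  have hε0 : ∀ z ∈ ℳ (-g), ε z = 0 → z = 0 := fun z hz h => by
    obtain ⟨c, rfl⟩ := hspan z hz
    change l (cpt ℳ (-g) (c • h0)) = 0 at h
    rw [cpt_of_mem ℳ hz, map_smul, smul_eq_zero] at h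
    rw [h.resolve_right hl, zero_smul]
  let β : R →ₗ[k] M →ₗ[k] k := LinearMap.mk₂ k (fun x z => ε (x • z))
    (fun a b z => by rw [add_smul, map_add]) (fun c a z => by rw [smul_assoc, map_smul])
    (fun a z w => by rw [smul_add, map_add]) (fun c a z => by rw [smul_comm, map_smul])
  have hker : ∀ (n : ℤ) (x : R), x ∈ 𝒜 (n + -g) → (∀ z ∈ ℳ (-n), x • z = 0) → x = 0 := by
    intro n x hx hz
    by_cases hneg : n + -g < 0
    · exact hBR.pos _ hneg x hx
    obtain ⟨y, hy, hy0⟩ := hS (n + -g) (by omega)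
    obtain ⟨t, ht, htxy⟩ := (hT.2 (n + -g)).ge (Submodule.subset_span ⟨x, hx, y, hy, rfl⟩ :
      x ⊗ₜ[k] y ∈ _root_.GrSeg.segrePiece k 𝒜 ℬ (n + -g))
    have ht0 : t = 0 := hβ.eq_zero n t ht fun q hq => by
      have hq' := (hQ.image_piece (-n)).le ⟨q, hq, rfl⟩
      have htq : t • q = 0 := hQ.injective <| by
        rw [map_zero, hQ.map_smul, show ψ t = x ⊗ₜ[k] y from htxy]
        generalize φ q = v at hq'
        induction hq' using Submodule.span_induction with
        | zero => simp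
        | add a b _ _ ha hb => rw [map_add, ha, hb, add_zero]
        | smul c a _ ha => rw [map_smul, ha, smul_zero]
        | mem v hv =>
          obtain ⟨z, hzm, w, -, rfl⟩ := hv
          rw [_root_.GrSeg.act_tmul, hz z hzm, TensorProduct.zero_tmul]
      rw [show βT t q = βT ((t : T) • (1 : T)) q by rw [smul_eq_mul, mul_one], hβ.map_smul, htq, map_zero]
    obtain ⟨μ, hμ⟩ : ∃ μ : S →ₗ[k] k, μ y ≠ 0 := by
      by_contra hc
      push Not at hc
      exact hy0 ((Module.forall_dual_apply_eq_zero_iff k y).1 hc)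
    have h0' : x ⊗ₜ[k] y = 0 := by rw [← show ψ t = x ⊗ₜ[k] y from htxy, ht0, map_zero]
    have h1 := congrArg (fun u => TensorProduct.rid k R (TensorProduct.map LinearMap.id μ u)) h0'
    simp only [map_zero, TensorProduct.map_tmul, LinearMap.id_apply, TensorProduct.rid_tmul,
      smul_eq_zero] at h1
    exact h1.resolve_left hμ
  have hflip : ∀ (n : ℤ), ∀ z ∈ ℳ (-n), (∀ x ∈ 𝒜 (n + -g), x • z = 0) → z = 0 := by
    intro n z hz hx
    by_cases habv : -g < -n
    · exact habove _ habv z hz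
    obtain ⟨w, hw, hw0⟩ := hN (-n) (by omega)
    obtain ⟨q, hq, hqz⟩ := (hQ.image_piece (-n)).ge (Submodule.subset_span ⟨z, hz, w, hw, rfl⟩ :
      z ⊗ₜ[k] w ∈ _root_.GrSeg.segrePiece k ℳ 𝒩 (-n))
    have hall : ∀ t ∈ 𝒯 (n + -g), t • q = 0 := by
      intro t ht
      refine hQ.injective ?_
      rw [map_zero, hQ.map_smul, hqz]
      have ht' := (hT.2 (n + -g)).le ⟨t, ht, rfl⟩
      change ψ t ∈ _ at ht'
      generalize ψ t = v at ht'
      induction ht' using Submodule.span_induction with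
      | zero => simp
      | add a b _ _ ha hb => rw [map_add, LinearMap.add_apply, ha, hb, add_zero]
      | smul c a _ ha => rw [map_smul, LinearMap.smul_apply, ha, smul_zero]
      | mem v hv =>
        obtain ⟨x, hxm, y, -, rfl⟩ := hv
        rw [_root_.GrSeg.act_tmul, hx x hxm, TensorProduct.zero_tmul]
    have hq0 : q = 0 := GrDual.eq_zero_of_shiftDual (base_addGr hBT) hβ hq fun r hr => by
      rw [show βT r q = βT ((r : T) • (1 : T)) q by rw [smul_eq_mul, mul_one], hβ.map_smul,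
        hall r (by rw [neg_neg] at hr; exact hr), map_zero]
    rw [hq0, map_zero] at hqz
    obtain ⟨μ, hμ⟩ : ∃ μ : N →ₗ[k] k, μ w ≠ 0 := by
      by_contra hc
      push Not at hc
      exact hw0 ((Module.forall_dual_apply_eq_zero_iff k w).1 hc)
    have h1 := congrArg (fun u => TensorProduct.rid k M (TensorProduct.map LinearMap.id μ u)) hqz.symm
    simp only [map_zero, TensorProduct.map_tmul, LinearMap.id_apply, TensorProduct.rid_tmul,
      smul_eq_zero] at h1
    exact h1.resolve_left hμ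
  refine ⟨β, ⟨fun r x z => ?_, fun n x hx j hj z hz => ?_, fun n x hx h => ?_, fun n l' => ?_⟩⟩
  · change ε ((r • x) • z) = ε (x • (r • z))
    rw [smul_eq_mul, mul_comm, mul_smul]
  · change l (cpt ℳ (-g) (x • z)) = 0
    rw [cpt_of_mem_ne ℳ (smul_mem_gr (𝒜 := 𝒜) (ℳ := ℳ) (show x ∈ 𝒜 (n + -g) from hx) hz) (by omega),
      map_zero]
  · refine hker n x hx fun z hz => hε0 _ ?_ (h z hz)
    have := smul_mem_gr (𝒜 := 𝒜) (ℳ := ℳ) (show x ∈ 𝒜 (n + -g) from hx) hz
    rwa [show n + -g + -n = -g by ring] at this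
  · haveI : Module.Finite k (pieceK hBR 𝒜 (n + -g)) := GrDual.finite_pieceK hBR 𝒜 (n + -g)
    let B : pieceK hBR 𝒜 (n + -g) →ₗ[k] Module.Dual k (pieceK hBR ℳ (-n)) :=
      (pieceK hBR ℳ (-n)).subtype.dualMap.comp (β.comp (pieceK hBR 𝒜 (n + -g)).subtype)
    have hBf : Function.Injective B.flip := (injective_iff_map_eq_zero _).2 fun z hz =>
      Subtype.ext (hflip n z.1 z.2 fun x hx => hε0 _ (by
        have := smul_mem_gr (𝒜 := 𝒜) (ℳ := ℳ) hx z.2
        rwa [show n + -g + -n = -g by ring] at this) (LinearMap.congr_fun hz ⟨x, hx⟩))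
    haveI : Module.Finite k (pieceK hBR ℳ (-n)) := Module.Finite.of_injective B.flip hBf
    have hsurj : Function.Surjective B := by
      rw [← LinearMap.dualMap_injective_iff]
      intro u v huv
      obtain ⟨z, rfl⟩ := (Module.evalEquiv k (pieceK hBR ℳ (-n))).surjective u
      obtain ⟨w, rfl⟩ := (Module.evalEquiv k (pieceK hBR ℳ (-n))).surjective v
      rw [show z = w from hBf (LinearMap.ext fun x => LinearMap.congr_fun huv x)]
    obtain ⟨x, hx⟩ := hsurj (l'.comp (pieceK hBR ℳ (-n)).subtype)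
    exact ⟨x.1, x.2, fun z hz => LinearMap.congr_fun hx ⟨z, hz⟩⟩

end Factor

end Groth.Agent.GrSegre
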