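import Groth.Agent.GrSegre.SegreGor
import Groth.Agent.GrDual.CanonType

/-!
# The type of a Cohen–Macaulay Segre product of Gorenstein algebras
-/

set_option autoImplicit false
set_option linter.unusedSectionVars false
set_option linter.style.haveILetI false
universe u

open DirectSum TensorProduct
open Groth.Agent.GrLC
open Groth.Agent.GrDual (Base shA base_of_span)

noncomputable section

namespace Groth.Agent.GrSegre

variable {k : Type u} [Field k]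

section Add

variable {R : Type u} [CommRing R] [Algebra k R] [Nontrivial R] [LocCoh.IsCohenMacaulayRing R]
  {𝒜 : ℤ → AddSubgroup R} [GradedRing 𝒜]

theorem bassNum_eq_finrank_quot_add (hB : Base k 𝒜) {m : HomogeneousIdeal 𝒜}
    (hloc : _root_.GrLC.IsStarLocal 𝒜 m) (hm0 : ∀ i : ℤ, 0 < i → ∀ x ∈ 𝒜 i, x ∈ m.toIdeal)
    {r : ℕ} (hr : ringKrullDim R = r) (I : _root_.GrLC.StarInjRes 𝒜 𝒜)
    [Module k (I.H m r)] [IsScalarTower k R (I.H m r)] [DirectSum.Decomposition (I.Hgr m r)]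
    [SetLike.GradedSMul 𝒜 (I.Hgr m r)] {C : Type u} [AddCommGroup C] [Module R C] [Module k C]
    [IsScalarTower k R C] {𝒞 : ℤ → AddSubgroup C} [DirectSum.Decomposition 𝒞] [SetLike.GradedSMul 𝒜 𝒞]
    [Module.Finite R C] {β : C →ₗ[k] I.H m r →ₗ[k] k} (hβ : _root_.GrSeg.IsGDual R (I.Hgr m r) 𝒞 β)
    [m.toIdeal.IsMaximal] :
    _root_.GrLC.bassNum m.toIdeal R r =
      (Module.finrank k (C ⧸ (m.toIdeal • (⊤ : Submodule R C))) : ℕ∞) := by
  refine (Groth.Agent.GrDual.bassNum_self hB hloc hm0 hr I hβ).trans ?_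
  haveI : Module.Free (R ⧸ m.toIdeal) ((R ⧸ m.toIdeal) ⊗[R] C) := by
    letI := Ideal.Quotient.field m.toIdeal
    infer_instance
  have h1 := Module.finrank_mul_finrank k (R ⧸ m.toIdeal) ((R ⧸ m.toIdeal) ⊗[R] C)
  rw [show Module.finrank k (R ⧸ m.toIdeal) = 1 from Groth.Agent.GrDual.finrank_quot_self hB hloc hm0,
    one_mul, ((TensorProduct.quotTensorEquivQuotSMul C m.toIdeal).restrictScalars k).finrank_eq] at h1
  exact congrArg Nat.cast h1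

end Add

section Ring

variable {R : Type u} [CommRing R] [Algebra k R] {𝒜 : ℤ → Submodule k R} [GradedAlgebra 𝒜]

/-- the type is the number of generators of a module dual to the top local cohomology -/
theorem bassNum_eq_finrank_quot [Nontrivial R] [LocCoh.IsCohenMacaulayRing R]
    (hpos : ∀ n : ℤ, n < 0 → 𝒜 n = ⊥) (h0 : 𝒜 0 = Submodule.span k {(1 : R)})
    (m : HomogeneousIdeal 𝒜) (hm : m.toIdeal = irrI 𝒜) [m.toIdeal.IsMaximal]
    (I : _root_.GrLC.StarInjRes 𝒜 𝒜) {r : ℕ} (hr : ringKrullDim R = r)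
    [DirectSum.Decomposition (I.Hgr m r)] (C : _root_.GrLC.GMod.{u} 𝒜) [Module.Finite R C.carrier]
    {β : C.carrier →ₗ[k] I.H m r →ₗ[k] k} (hβ : _root_.GrSeg.IsGDual R (I.Hgr m r) C.gr β) :
    _root_.GrLC.bassNum m.toIdeal R r =
      (Module.finrank k (C.carrier ⧸ (m.toIdeal • (⊤ : Submodule R C.carrier))) : ℕ∞) := by
  have hB' := base_addGr (base_of_span hpos h0)
  have hloc := isStarLocal_addGr hpos h0 m hm
  have hm0 : ∀ i : ℤ, 0 < i → ∀ x ∈ addGr 𝒜 i, x ∈ m.toIdeal := fun i hi x hx =>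
    (hm ▸ irr_irrI 𝒜 i hi x hx : x ∈ m.toIdeal)
  letI : DirectSum.Decomposition ((upRes I).Hgr (addIdeal 𝒜 m) r) :=
    ‹DirectSum.Decomposition (I.Hgr m r)›
  haveI : (addIdeal 𝒜 m).toIdeal.IsMaximal := ‹m.toIdeal.IsMaximal›
  have htower : IsScalarTower k R (I.H m r) := inferInstance
  have hgs : SetLike.GradedSMul (addGr 𝒜) C.gr := ⟨fun _ _ _ _ hr hm => C.gsmul.smul_mem hr hm⟩
  exact @bassNum_eq_finrank_quot_add k _ R _ _ _ _ (addGr 𝒜) _ hB' (addIdeal 𝒜 m) hloc hm0 r hr (upRes I)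
    _ htower _ (Hgr_gradedSMul (upRes I) (addIdeal 𝒜 m) r) C.carrier _ _ _ _ C.gr _ hgs _ β hβ _

end Ring

section Segre

variable {R S : Type u} [CommRing R] [CommRing S] [Algebra k R] [Algebra k S]
  {𝒜 : ℤ → Submodule k R} [GradedAlgebra 𝒜] {ℬ : ℤ → Submodule k S} [GradedAlgebra ℬ]
  {T : Type u} [CommRing T] [Algebra k T] {𝒯 : ℤ → Submodule k T} [GradedAlgebra 𝒯]
  {ψ : T →ₐ[k] R ⊗[k] S} [Nontrivial R] [Nontrivial S] [Algebra.FiniteType k R] [Algebra.FiniteType k S]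

/-- `R(-g) # S(-g')` is dual to the top local cohomology of `R # S` -/
theorem exists_canon_segre [LocCoh.IsGorensteinRing R] [LocCoh.IsGorensteinRing S]
    (hT : _root_.GrSeg.IsSegreRing 𝒜 ℬ 𝒯 ψ) [IsNoetherianRing T] [IsNoetherianRing (R ⊗[k] S)]
    (hposR : ∀ n : ℤ, n < 0 → 𝒜 n = ⊥) (h0R : 𝒜 0 = Submodule.span k {(1 : R)})
    (hposS : ∀ n : ℤ, n < 0 → ℬ n = ⊥) (h0S : ℬ 0 = Submodule.span k {(1 : S)})
    (mR : HomogeneousIdeal 𝒜) (hmR : mR.toIdeal = irrI 𝒜) (I : _root_.GrLC.StarInjRes 𝒜 𝒜)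
    (mS : HomogeneousIdeal ℬ) (hmS : mS.toIdeal = irrI ℬ) (J : _root_.GrLC.StarInjRes ℬ ℬ)
    (mT : HomogeneousIdeal 𝒯) (hmT : mT.toIdeal = irrI 𝒯) (IT : _root_.GrLC.StarInjRes 𝒯 𝒯)
    {a b : ℕ} (hr : ringKrullDim R = (a + 2 : ℕ)) (hs : ringKrullDim S = (b + 2 : ℕ))
    [DirectSum.Decomposition (IT.Hgr mT (a + b + 3))] :
    ∃ (g g' : ℤ),
      _root_.GrLC.endDeg (I.Hgr mR (a + 2)) = (((-g : ℤ) : WithTop ℤ) : WithBot (WithTop ℤ)) ∧
      _root_.GrLC.endDeg (J.Hgr mS (b + 2)) = (((-g' : ℤ) : WithTop ℤ) : WithBot (WithTop ℤ)) ∧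
      ∃ (C : _root_.GrLC.GMod.{u} 𝒯) (φC : C.carrier →ₗ[k] R ⊗[k] S)
        (β : C.carrier →ₗ[k] IT.H mT (a + b + 3) →ₗ[k] k),
        _root_.GrSeg.IsSegreMod ψ (shA (addGr 𝒜) g) (shA (addGr ℬ) g') C.gr φC ∧
        Module.Finite T C.carrier ∧ _root_.GrSeg.IsGDual T (IT.Hgr mT (a + b + 3)) C.gr β := by
  haveI := Algebra.FiniteType.isNoetherianRing k R
  haveI := Algebra.FiniteType.isNoetherianRing k S
  letI := Hdec I mR (a + 2)
  letI := Hdec J mS (b + 2)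
  haveI := Hgr_gradedSMul I mR (a + 2)
  haveI := Hgr_gradedSMul J mS (b + 2)
  obtain ⟨g, βR, hβR, haR⟩ := exists_shiftDual_ring hposR h0R mR hmR I hr
  obtain ⟨g', βS, hβS, haS⟩ := exists_shiftDual_ring hposS h0S mS hmS J hs
  obtain ⟨C, φC, hC⟩ := exists_segre 𝒜 ℬ (shA (addGr 𝒜) g) (shA (addGr ℬ) g') hT
  obtain ⟨φ', hφ'⟩ := exists_segreMod_H_top hT (isSegreMod_self 𝒜 ℬ 𝒯 ψ hT) mR hmR mS hmS mT hmT I J IT a b
    (fun q d hq => hgr_eq_bot_above mR I hr.le hq d) (fun q d hq => hgr_eq_bot_above mS J hs.le hq d)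
  obtain ⟨β, hβ⟩ := exists_gdual_segre 𝒜 ℬ hβR hβS hC hφ'
    (finite_shA (base_of_span hposR h0R) g) (finite_shA (base_of_span hposS h0S) g')
  haveI := isNoetherian_segre 𝒜 ℬ (shA (addGr 𝒜) g) (shA (addGr ℬ) g') hT hC
  exact ⟨g, g', haR, haS, C, φC, β, hC, inferInstance, hβ⟩

end Segre

end Groth.Agent.GrSegre
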