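import Groth.Agent.GrSegre.Kunneth

/-!
# The top local cohomology of a Segre product is the Segre product of the top local cohomologies
-/

set_option autoImplicit false
set_option linter.unusedSectionVars false
set_option linter.style.haveILetI false
universe u

open DirectSum TensorProduct
open Groth.Agent.GrLC

noncomputable section

namespace Groth.Agent.GrSegre

variable {k : Type u} [Field k]

theorem Pair.exists_cycle_lift (P : Pair k) (a : ℕ) (z : LinearMap.ker (P.A.d (a + 2))) :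
    ∃ w : P.C.X (a + 1), P.C.d (a + 1) w = z.1.1 :=
  P.C.subsingleton_H_iff.1 (P.hex (a + 1)) z.1.1 (congrArg Subtype.val z.2)

theorem Pair.exists_top_cycle (P P' : Pair k) {a b : ℕ} (w : P.C.X (a + 1)) (w' : P'.C.X (b + 1))
    (hw : P.C.d (a + 1) w ∈ P.S (a + 2)) (hw' : P'.C.d (b + 1) w' ∈ P'.S (b + 2)) :
    ∃ Z : LinearMap.ker ((P.tens P').A.d (a + b + 3)),
      P.C.tD P'.C (a + b + 2)
        (Pi.single (⟨(a + 1, b + 1), by omega⟩ : Cx.Idx (a + b + 2)) (w ⊗ₜ[k] w')) = Z.1.1 := by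
  let p₀ : Cx.Idx (a + b + 2) := ⟨(a + 1, b + 1), by omega⟩
  let V : P.C.T P'.C (a + b + 2) := Pi.single p₀ (w ⊗ₜ[k] w')
  have hS : P.C.tD P'.C (a + b + 2) V ∈ (P.tens P').S (a + b + 3) := by
    refine LinearMap.mem_ker.2 ((P.tq_tD P' _ V).trans ?_)
    refine P.Q.tD_eq_zero P'.Q _ (fun p => ?_) (fun p => ?_) <;> rw [Pair.tq_apply] <;>
      by_cases hp : p = p₀
    · subst hp
      simp only [V, Pi.single_eq_same, TensorProduct.map_tmul]
      rw [show P.Q.d (a + 1) ((P.S (a + 1)).mkQ w) = 0 from (Submodule.Quotient.mk_eq_zero _).2 hw,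
        TensorProduct.zero_tmul]
    · simp only [V, Pi.single_eq_of_ne hp, map_zero]
    · subst hp
      simp only [V, Pi.single_eq_same, TensorProduct.map_tmul]
      rw [show P'.Q.d (b + 1) ((P'.S (b + 1)).mkQ w') = 0 from (Submodule.Quotient.mk_eq_zero _).2 hw',
        TensorProduct.tmul_zero]
    · simp only [V, Pi.single_eq_of_ne hp, map_zero]
  exact ⟨⟨⟨_, hS⟩, Subtype.ext (P.C.tD_tD P'.C _ V)⟩, rfl⟩

theorem Cx.tmap_single {C C' D D' : Cx k} (f : ∀ n, C.X n →ₗ[k] C'.X n) (g : ∀ n, D.X n →ₗ[k] D'.X n)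
    {n : ℕ} (p : Cx.Idx n) (x : (C.X p.1.1) ⊗[k] (D.X p.1.2)) :
    Cx.tmap f g n (Pi.single p x) = Pi.single p (TensorProduct.map (f p.1.1) (g p.1.2) x) := by
  funext q
  rw [Cx.tmap_apply]
  by_cases h : q = p
  · subst h; rw [Pi.single_eq_same, Pi.single_eq_same]
  · rw [Pi.single_eq_of_ne h, Pi.single_eq_of_ne h, map_zero]

section ClassMap

variable {R : Type u} [CommRing R] [Algebra k R] {𝒜 : ℤ → Submodule k R} [GradedAlgebra 𝒜]
variable {M : Type u} [AddCommGroup M] [Module R M] [Module k M] [IsScalarTower k R M]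
  {τ : Type u} [SetLike τ M] [AddSubgroupClass τ M] {ℳ : ℤ → τ} [DirectSum.Decomposition ℳ]
  [SetLike.GradedSMul 𝒜 ℳ]

theorem exists_classMap_res' (E : _root_.GrLC.StarInjRes 𝒜 ℳ) (m : HomogeneousIdeal 𝒜) {I : Ideal R}
    (hI : m.toIdeal = I) (n : ℕ) (d : ℤ) :
    ∃ Λ : (pairAt ℳ (resGr E) I d).A.H n →ₗ[k] E.H m n, Function.Injective Λ ∧
      (∀ x, Λ x ∈ E.Hgr m n d) ∧ (∀ y ∈ E.Hgr m n d, ∃ x, Λ x = y) ∧
      ∀ z : LinearMap.ker ((pairAt ℳ (resGr E) I d).A.d n), ∃ w : E.cocyc m n,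
        w.1 = z.1.1.1 ∧ Λ ((pairAt ℳ (resGr E) I d).A.cls n z) = E.toH m n w := by
  subst hI
  obtain ⟨Λ, h1, h2, h3, h4⟩ := exists_classMap_res E m n d
  exact ⟨Λ, h1, h2, h3, fun z => ⟨⟨z.1.1.1, z.1.2, congrArg Subtype.val (congrArg Subtype.val z.2)⟩, rfl, h4 z _ rfl⟩⟩

end ClassMap

section Top

variable {R S : Type u} [CommRing R] [CommRing S] [Algebra k R] [Algebra k S]
  {𝒜 : ℤ → Submodule k R} [GradedAlgebra 𝒜] {ℬ : ℤ → Submodule k S} [GradedAlgebra ℬ]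
  {T : Type u} [CommRing T] [Algebra k T] {𝒯 : ℤ → Submodule k T} [GradedAlgebra 𝒯]
  {ψ : T →ₐ[k] R ⊗[k] S} [Nontrivial R] [Nontrivial S] [IsNoetherianRing R] [IsNoetherianRing S] [IsNoetherianRing T]
  [IsNoetherianRing (R ⊗[k] S)] (hT : _root_.GrSeg.IsSegreRing 𝒜 ℬ 𝒯 ψ)
variable {M N : Type u} [AddCommGroup M] [Module R M] [Module k M] [IsScalarTower k R M]
  [AddCommGroup N] [Module S N] [Module k N] [IsScalarTower k S N]
  {τ τ' : Type u} [SetLike τ M] [AddSubgroupClass τ M] [SetLike τ' N] [AddSubgroupClass τ' N]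
  {ℳ : ℤ → τ} [DirectSum.Decomposition ℳ] [SetLike.GradedSMul 𝒜 ℳ]
  {𝒩 : ℤ → τ'} [DirectSum.Decomposition 𝒩] [SetLike.GradedSMul ℬ 𝒩]
variable {P : Type u} [AddCommGroup P] [Module T P] [Module k P] [IsScalarTower k T P]
  {τQ : Type u} [SetLike τQ P] [AddSubgroupClass τQ P] {𝒬 : ℤ → τQ} [DirectSum.Decomposition 𝒬]
  [SetLike.GradedSMul 𝒯 𝒬] {φ : P →ₗ[k] M ⊗[k] N}
  (hP : _root_.GrSeg.IsSegreMod ψ ℳ 𝒩 𝒬 φ)
variable (mR : HomogeneousIdeal 𝒜) (hmR : mR.toIdeal = irrI 𝒜)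
  (mS : HomogeneousIdeal ℬ) (hmS : mS.toIdeal = irrI ℬ)
  (mT : HomogeneousIdeal 𝒯) (hmT : mT.toIdeal = irrI 𝒯)
  (EM : _root_.GrLC.StarInjRes 𝒜 ℳ) (EN : _root_.GrLC.StarInjRes ℬ 𝒩)
  (EP : _root_.GrLC.StarInjRes 𝒯 𝒬)

set_option maxHeartbeats 4000000 in
include hT hP hmR hmS hmT in
/-- `H^{r+s-1}(M # N) = H^r(M) # H^s(N)` at the top -/
theorem exists_segreMod_H_top (a b : ℕ)
    (hM : ∀ (i : ℕ) (g : ℤ), a + 2 < i → EM.Hgr mR i g = ⊥)
    (hN : ∀ (i : ℕ) (g : ℤ), b + 2 < i → EN.Hgr mS i g = ⊥)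
    [DirectSum.Decomposition (EP.Hgr mT (a + b + 3))] :
    ∃ φ' : EP.H mT (a + b + 3) →ₗ[k] EM.H mR (a + 2) ⊗[k] EN.H mS (b + 2),
      _root_.GrSeg.IsSegreMod ψ (EM.Hgr mR (a + 2)) (EN.Hgr mS (b + 2)) (EP.Hgr mT (a + b + 3)) φ' := by
  classical
  letI := Hdec EM mR (a + 2)
  letI := Hdec EN mS (b + 2)
  haveI := Hgr_gradedSMul EM mR (a + 2)
  haveI := Hgr_gradedSMul EN mS (b + 2)
  haveI := Hgr_gradedSMul EP mT (a + b + 3)
  have hG := isTame_res EM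
  have hG' := isTame_res EN
  obtain ⟨κ, -, hker, hgr, honto⟩ := (totRes hT (resGr EM) (resGr EN) hP).exists_comparison mT
    (totRes_acyclic hT (resGr EM) (resGr EN) mT hmT hG hG' hP) EP (a + b + 3)
  choose ΛR hRi hRm hRo hRc using exists_classMap_res' EM mR hmR (a + 2)
  choose ΛS hSi hSm hSo hSc using exists_classMap_res' EN mS hmS (b + 2)
  have hTL : ∀ d, ∃ Λ : ((pairAt ℳ (resGr EM) (irrI 𝒜) d).tens (pairAt 𝒩 (resGr EN) (irrI ℬ) d)).A.H
      (a + b + 3) →ₗ[k] EP.H mT (a + b + 3), Function.Injective Λ ∧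
      (∀ x, Λ x ∈ EP.Hgr mT (a + b + 3) d) ∧ (∀ y ∈ EP.Hgr mT (a + b + 3) d, ∃ x, Λ x = y) ∧
      ∀ z, ∃ w : (totRes hT (resGr EM) (resGr EN) hP).cocyc mT (a + b + 3),
        w.1 = totLA hT (resGr EM) (resGr EN) d hP _ z.1 ∧
        Λ (((pairAt ℳ (resGr EM) (irrI 𝒜) d).tens (pairAt 𝒩 (resGr EN) (irrI ℬ) d)).A.cls _ z) = κ w := by
    intro d
    obtain ⟨h1, h2, h3, h4, h5⟩ := totLA_props hT (resGr EM) (resGr EN) d mT hmT hG hG' hP
    obtain ⟨Λ, i1, i2, i3, i4⟩ := GrRes.exists_classMap 𝒬 (totRes hT (resGr EM) (resGr EN) hP) mT EP κ hker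
      hgr honto d (totLA hT (resGr EM) (resGr EN) d hP) h1 h2 h3 h4 h5
    exact ⟨Λ, i1, i2, i3, fun z => ⟨⟨_, h3 _ z.1, (h5 _ z.1).symm.trans
      ((congrArg _ z.2).trans (map_zero _))⟩, rfl, i4 z _ rfl⟩⟩
  choose ΛT hTi hTm hTo hTc using hTL
  have hsub : ∀ (d : ℤ) (i : ℕ), a + 2 < i →
      Subsingleton ((pairAt ℳ (resGr EM) (irrI 𝒜) d).A.H i) := fun d i hi =>
    hmR ▸ subsingleton_pairA EM mR i d (hM i d hi)
  have hsub' : ∀ (d : ℤ) (i : ℕ), b + 2 < i →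
      Subsingleton ((pairAt 𝒩 (resGr EN) (irrI ℬ) d).A.H i) := fun d i hi =>
    hmS ▸ subsingleton_pairA EN mS i d (hN i d hi)
  choose e he using fun d => (pairAt ℳ (resGr EM) (irrI 𝒜) d).exists_top
    (pairAt 𝒩 (resGr EN) (irrI ℬ) d) a b (hsub d) (hsub' d)
  let g := fun d => (ΛT d).comp (e d).toLinearMap
  let f := fun d => TensorProduct.map (ΛR d) (ΛS d)
  have hgi : ∀ d, Function.Injective (g d) := fun d => (hTi d).comp (e d).injective
  have hgo : ∀ d, ∀ y ∈ EP.Hgr mT (a + b + 3) d, ∃ v, g d v = y := fun d y hy => by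
    obtain ⟨x, rfl⟩ := hTo d y hy
    exact ⟨(e d).symm x, congrArg (ΛT d) ((e d).apply_symm_apply x)⟩
  have hfi : ∀ d, Function.Injective (f d) := fun d =>
    TensorProduct.map_injective_of_flat_flat _ _ (hRi d) (hSi d)
  have hfm : ∀ d v, f d v ∈
      _root_.GrSeg.segrePiece k (EM.Hgr mR (a + 2)) (EN.Hgr mS (b + 2)) d := fun d v => by
    induction v using TensorProduct.induction_on with
    | zero => rw [map_zero]; exact zero_mem _
    | add x y hx hy => rw [map_add]; exact add_mem hx hy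
    | tmul x y => exact Submodule.subset_span ⟨_, hRm d x, _, hSm d y, rfl⟩
  have hfo : ∀ d, _root_.GrSeg.segrePiece k (EM.Hgr mR (a + 2)) (EN.Hgr mS (b + 2)) d ≤
      LinearMap.range (f d) := fun d => Submodule.span_le.2 <| by
    rintro _ ⟨x, hx, y, hy, rfl⟩
    obtain ⟨x, rfl⟩ := hRo d x hx
    obtain ⟨y, rfl⟩ := hSo d y hy
    exact ⟨x ⊗ₜ y, rfl⟩
  have hh : ∀ d, ∃ h : EP.H mT (a + b + 3) →ₗ[k] EM.H mR (a + 2) ⊗[k] EN.H mS (b + 2),
      ∀ v, h (g d v) = f d v := fun d => by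
    obtain ⟨l, hl⟩ := (g d).exists_leftInverse_of_injective (LinearMap.ker_eq_bot.2 (hgi d))
    exact ⟨(f d).comp l, fun v => congrArg (f d) (LinearMap.congr_fun hl v)⟩
  choose h hh using hh
  have hfin : ∀ y : EP.H mT (a + b + 3),
      (Function.support fun d => h d (cpt (EP.Hgr mT (a + b + 3)) d y)).Finite := fun y =>
    (finite_cpt (EP.Hgr mT (a + b + 3)) y).subset fun d hd h0 => hd (by simp only at h0 ⊢; rw [h0, map_zero])
  obtain ⟨φ', hφ⟩ : ∃ φ' : EP.H mT (a + b + 3) →ₗ[k] EM.H mR (a + 2) ⊗[k] EN.H mS (b + 2),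
      ∀ y, φ' y = ∑ᶠ d, h d (cpt (EP.Hgr mT (a + b + 3)) d y) :=
    ⟨{ toFun := fun y => ∑ᶠ d, h d (cpt (EP.Hgr mT (a + b + 3)) d y)
       map_add' := fun x y => by
        rw [← finsum_add_distrib (hfin x) (hfin y)]
        simp [map_add]
       map_smul' := fun c x => by
        rw [RingHom.id_apply, smul_finsum' c (hfin x)]
        simp [cpt_ksmul 𝒯] }, fun _ => rfl⟩
  have hgm : ∀ d v, g d v ∈ EP.Hgr mT (a + b + 3) d := fun d v => hTm d _
  have hφg : ∀ d v, φ' (g d v) = f d v := fun d v => by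
    rw [hφ, finsum_eq_single _ d fun i hi => by
      rw [cpt_of_mem_ne (EP.Hgr mT (a + b + 3)) (hgm d v) hi.symm, map_zero],
      cpt_of_mem (EP.Hgr mT (a + b + 3)) (hgm d v), hh]
  refine ⟨φ', fun x y hxy => ?_, fun d => ?_, ?_⟩
  · rw [← sub_eq_zero]
    refine eq_zero_of_cpt (EP.Hgr mT (a + b + 3)) fun d => ?_
    obtain ⟨v, hv⟩ := hgo d _ (cpt_mem (EP.Hgr mT (a + b + 3)) d (x - y))
    let π := TensorProduct.map (cptₗ 𝒜 (EM.Hgr mR (a + 2)) d) (cptₗ ℬ (EN.Hgr mS (b + 2)) d)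
    have hπ : ∀ i w, π (f i w) = if i = d then f i w else 0 := fun i w => by
      induction w using TensorProduct.induction_on with
      | zero => simp
      | add p q hp hq => simp only [map_add, hp, hq]; split_ifs <;> simp
      | tmul p q =>
        simp only [π, f, TensorProduct.map_tmul, cptₗ_apply]
        split_ifs with hid
        · subst hid
          rw [cpt_of_mem _ (hRm i p), cpt_of_mem _ (hSm i q)]
        · rw [cpt_of_mem_ne _ (hRm i p) hid, TensorProduct.zero_tmul]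
    have h0 : π (φ' (x - y)) = f d v := by
      rw [hφ]
      change π.toAddMonoidHom _ = _
      rw [AddMonoidHom.map_finsum _ (hfin (x - y)), finsum_eq_single _ d fun i hi => by
        obtain ⟨w, hw⟩ := hgo i _ (cpt_mem (EP.Hgr mT (a + b + 3)) i (x - y))
        change π (h i _) = 0
        rw [← hw, hh, hπ, if_neg hi]]
      change π (h d _) = _
      rw [← hv, hh, hπ, if_pos rfl]
    rw [map_sub, hxy, sub_self, map_zero] at h0
    rw [← hv, show v = 0 from hfi d (h0.symm.trans (map_zero _).symm), map_zero]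
  · refine Set.Subset.antisymm ?_ fun u hu => ?_
    · rintro _ ⟨y, hy, rfl⟩
      obtain ⟨v, rfl⟩ := hgo d y hy
      rw [hφg]
      exact hfm d v
    · obtain ⟨v, rfl⟩ := hfo d hu
      exact ⟨g d v, hTm d _, hφg d v⟩
  have key : ∀ (j : ℤ), ∀ α ∈ 𝒜 j, ∀ β ∈ ℬ j, ∀ t : T, ψ t = α ⊗ₜ[k] β → ∀ (d : ℤ) v,
      φ' (t • g d v) = _root_.GrSeg.act k R S _ _ (ψ t) (f d v) := by
    intro j α hα β hβ t ht d v
    induction v using TensorProduct.induction_on with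
    | zero => simp
    | add x y hx hy => simp only [map_add, smul_add, hx, hy]
    | tmul x y =>
      obtain ⟨z, rfl⟩ := Cx.cls_surjective _ _ x
      obtain ⟨z', rfl⟩ := Cx.cls_surjective _ _ y
      obtain ⟨W, hW⟩ := Pair.exists_cycle_lift _ a z
      obtain ⟨W', hW'⟩ := Pair.exists_cycle_lift _ b z'
      obtain ⟨Z, hZ⟩ := Pair.exists_top_cycle (pairAt ℳ (resGr EM) (irrI 𝒜) d)
        (pairAt 𝒩 (resGr EN) (irrI ℬ) d) W W' (hW ▸ z.1.2) (hW' ▸ z'.1.2)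
      let W₂ : (pairAt ℳ (resGr EM) (irrI 𝒜) (j + d)).C.X (a + 1) :=
        ⟨α • W.1, smul_mem_gr (ℳ := (EM.X (a + 1)).gr) hα W.2⟩
      let W₂' : (pairAt 𝒩 (resGr EN) (irrI ℬ) (j + d)).C.X (b + 1) :=
        ⟨β • W'.1, smul_mem_gr (ℳ := (EN.X (b + 1)).gr) hβ W'.2⟩
      have hdW : EM.d (a + 1) W.1 = z.1.1.1 := congrArg Subtype.val hW
      have hdW' : EN.d (b + 1) W'.1 = z'.1.1.1 := congrArg Subtype.val hW'
      have hmem : (pairAt ℳ (resGr EM) (irrI 𝒜) (j + d)).C.d (a + 1) W₂ ∈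
          (pairAt ℳ (resGr EM) (irrI 𝒜) (j + d)).S (a + 2) := by
        change EM.d (a + 1) (α • W.1) ∈ _root_.GrLC.gam (irrI 𝒜) (EM.X (a + 2)).carrier
        rw [map_smul, hdW]
        exact Submodule.smul_mem _ α z.1.2
      have hmem' : (pairAt 𝒩 (resGr EN) (irrI ℬ) (j + d)).C.d (b + 1) W₂' ∈
          (pairAt 𝒩 (resGr EN) (irrI ℬ) (j + d)).S (b + 2) := by
        change EN.d (b + 1) (β • W'.1) ∈ _root_.GrLC.gam (irrI ℬ) (EN.X (b + 2)).carrier
        rw [map_smul, hdW']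
        exact Submodule.smul_mem _ β z'.1.2
      let z₂ : LinearMap.ker ((pairAt ℳ (resGr EM) (irrI 𝒜) (j + d)).A.d (a + 2)) :=
        ⟨⟨_, hmem⟩, Subtype.ext ((pairAt ℳ (resGr EM) (irrI 𝒜) (j + d)).C.dd _ W₂)⟩
      let z₂' : LinearMap.ker ((pairAt 𝒩 (resGr EN) (irrI ℬ) (j + d)).A.d (b + 2)) :=
        ⟨⟨_, hmem'⟩, Subtype.ext ((pairAt 𝒩 (resGr EN) (irrI ℬ) (j + d)).C.dd _ W₂')⟩
      have hW₂ : (pairAt ℳ (resGr EM) (irrI 𝒜) (j + d)).C.d (a + 1) W₂ = z₂.1.1 := rfl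
      have hW₂' : (pairAt 𝒩 (resGr EN) (irrI ℬ) (j + d)).C.d (b + 1) W₂' = z₂'.1.1 := rfl
      have hzval : z₂.1.1.1 = α • z.1.1.1 := (map_smul (EM.d (a + 1)) α W.1).trans (congrArg (α • ·) hdW)
      have hzval' : z₂'.1.1.1 = β • z'.1.1.1 :=
        (map_smul (EN.d (b + 1)) β W'.1).trans (congrArg (β • ·) hdW')
      obtain ⟨Z₂, hZ₂⟩ := Pair.exists_top_cycle (pairAt ℳ (resGr EM) (irrI 𝒜) (j + d))
        (pairAt 𝒩 (resGr EN) (irrI ℬ) (j + d)) W₂ W₂' hmem hmem'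
      obtain ⟨w, hw, hwe⟩ := hTc d Z
      obtain ⟨w₂, hw₂, hwe₂⟩ := hTc (j + d) Z₂
      have hV : t • totL hT (resGr EM) (resGr EN) d (a + b + 2)
            (Pi.single (⟨(a + 1, b + 1), by omega⟩ : Cx.Idx (a + b + 2)) (W ⊗ₜ[k] W')) =
          totL hT (resGr EM) (resGr EN) (j + d) (a + b + 2)
            (Pi.single (⟨(a + 1, b + 1), by omega⟩ : Cx.Idx (a + b + 2)) (W₂ ⊗ₜ[k] W₂')) := by
        refine totPhi_injective hT _ _ _ ?_
        have hidx : (a + 1) + (b + 1) = a + b + 2 := by omega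
        have e1 : totPhi hT (resGr EM) (resGr EN) (a + b + 2) (totL hT (resGr EM) (resGr EN) d (a + b + 2)
              (Pi.single (⟨(a + 1, b + 1), hidx⟩ : Cx.Idx (a + b + 2)) (W ⊗ₜ[k] W'))) =
            Pi.single (M := fun p : Cx.Idx (a + b + 2) =>
                (EM.X p.1.1).carrier ⊗[k] (EN.X p.1.2).carrier)
              ⟨(a + 1, b + 1), hidx⟩ (W.1 ⊗ₜ[k] W'.1) :=
          (totPhi_totL hT _ _ d _ _).trans (Cx.tmap_single _ _ _ _)
        have e2 : totPhi hT (resGr EM) (resGr EN) (a + b + 2) (totL hT (resGr EM) (resGr EN) (j + d) (a + b + 2)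
              (Pi.single (⟨(a + 1, b + 1), hidx⟩ : Cx.Idx (a + b + 2)) (W₂ ⊗ₜ[k] W₂'))) =
            Pi.single (M := fun p : Cx.Idx (a + b + 2) =>
                (EM.X p.1.1).carrier ⊗[k] (EN.X p.1.2).carrier)
              ⟨(a + 1, b + 1), hidx⟩ ((α • W.1) ⊗ₜ[k] (β • W'.1)) :=
          (totPhi_totL hT _ _ (j + d) _ _).trans (Cx.tmap_single _ _ _ _)
        refine Eq.trans ?_ e2.symm
        funext p
        refine ((segPhi_spec hT _ _).map_smul t _).trans ?_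
        refine (congrArg (_root_.GrSeg.act k R S _ _ (ψ t)) (congrFun e1 p)).trans ?_
        refine (Pi.apply_single
          (fun p : Cx.Idx (a + b + 2) => fun x : (EM.X p.1.1).carrier ⊗[k] (EN.X p.1.2).carrier =>
            _root_.GrSeg.act k R S _ _ (ψ t) x) (fun p => map_zero _) _ _ p).trans ?_
        rw [ht, _root_.GrSeg.act_tmul]
      have hwT : t • w = w₂ := Subtype.ext (by
        change t • w.1 = w₂.1
        rw [hw, hw₂]
        change t • totL hT _ _ d _ Z.1.1 = totL hT _ _ (j + d) _ Z₂.1.1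
        rw [← hZ, ← hZ₂]
        refine (congrArg (t • ·) (totL_tD hT _ _ d _ _)).trans ?_
        refine Eq.trans ?_ (totL_tD hT _ _ (j + d) _ _).symm
        exact (map_smul (totD hT _ _ _) t _).symm.trans (congrArg _ hV))
      have hgv : t • g d ((pairAt ℳ (resGr EM) (irrI 𝒜) d).A.cls _ z ⊗ₜ
            (pairAt 𝒩 (resGr EN) (irrI ℬ) d).A.cls _ z') =
          g (j + d) ((pairAt ℳ (resGr EM) (irrI 𝒜) (j + d)).A.cls _ z₂ ⊗ₜ
            (pairAt 𝒩 (resGr EN) (irrI ℬ) (j + d)).A.cls _ z₂') := by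
        change t • ΛT d (e d _) = ΛT (j + d) (e (j + d) _)
        rw [he d z z' W W' Z hW hW' hZ, he (j + d) z₂ z₂' W₂ W₂' Z₂ hW₂ hW₂' hZ₂, hwe, hwe₂,
          ← map_smul, hwT]
      rw [hgv, hφg, ht]
      simp only [f, TensorProduct.map_tmul, _root_.GrSeg.act_tmul]
      obtain ⟨u, hu, hue⟩ := hRc d z
      obtain ⟨u₂, hu₂, hue₂⟩ := hRc (j + d) z₂
      obtain ⟨v, hv, hve⟩ := hSc d z'
      obtain ⟨v₂, hv₂, hve₂⟩ := hSc (j + d) z₂'
      rw [hue, hue₂, hve, hve₂, ← map_smul, ← map_smul,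
        show α • u = u₂ from Subtype.ext (((congrArg (α • ·) hu).trans hzval.symm).trans hu₂.symm),
        show β • v = v₂ from Subtype.ext (((congrArg (β • ·) hv).trans hzval'.symm).trans hv₂.symm)]
  have key' : ∀ (j : ℤ), ∀ u ∈ _root_.GrSeg.segrePiece k 𝒜 ℬ j, ∀ t : T, ψ t = u → ∀ (d : ℤ) v,
      φ' (t • g d v) = _root_.GrSeg.act k R S _ _ (ψ t) (f d v) := by
    intro j u hu
    induction hu using Submodule.span_induction with
    | mem u hu =>
      obtain ⟨α, hα, β, hβ, rfl⟩ := hu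
      exact key j α hα β hβ
    | zero =>
      intro t ht d v
      rw [hT.1 (ht.trans (map_zero ψ).symm)]
      simp
    | add u₁ u₂ h₁ h₂ ih₁ ih₂ =>
      intro t ht d v
      obtain ⟨t₁, -, ht₁⟩ := (hT.2 j).ge h₁
      obtain ⟨t₂, -, ht₂⟩ := (hT.2 j).ge h₂
      change ψ t₁ = u₁ at ht₁
      change ψ t₂ = u₂ at ht₂
      obtain rfl : t = t₁ + t₂ := hT.1 (by rw [ht, map_add, ht₁, ht₂])
      simp only [map_add, add_smul, LinearMap.add_apply, ih₁ t₁ ht₁ d v, ih₂ t₂ ht₂ d v]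
    | smul c u h₁ ih =>
      intro t ht d v
      obtain ⟨t₁, -, ht₁⟩ := (hT.2 j).ge h₁
      change ψ t₁ = u at ht₁
      obtain rfl : t = c • t₁ := hT.1 (by rw [ht, map_smul, ht₁])
      simp only [map_smul, smul_assoc, LinearMap.smul_apply, ih t₁ ht₁ d v]
  intro t p
  induction p using homogeneous_induction (EP.Hgr mT (a + b + 3)) with
  | zero => simp
  | add p q hp hq => simp only [smul_add, map_add, hp, hq]
  | hom d p hp =>
    obtain ⟨v, rfl⟩ := hgo d p hp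
    rw [hφg]
    induction t using homogeneous_induction 𝒯 with
    | zero => simp
    | add s s' hs hs' => simp only [add_smul, map_add, LinearMap.add_apply, hs, hs']
    | hom j t ht => exact key' j _ ((hT.2 j).le ⟨t, ht, rfl⟩) t rfl d v

end Top

end Groth.Agent.GrSegre
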