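import Groth.Agent.GrSegre.Cx
import Groth.Agent.GrSegre.SegMap
import Groth.Agent.GrSegre.AcycRes

/-!
# The total resolution of a Segre product and its torsion subcomplex degree by degree
-/

set_option autoImplicit false
set_option linter.unusedSectionVars false
set_option linter.style.haveILetI false
set_option linter.unusedVariables false
universe u

open DirectSum TensorProduct
open Groth.Agent.GrLC

noncomputable section

namespace Groth.Agent.GrSegre

variable {k : Type u} [Field k]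

section Generic

variable {R : Type u} [CommRing R] [Algebra k R] {𝒜 : ℤ → Submodule k R} [GradedAlgebra 𝒜]

/-- the `k`-structure of a graded module -/
scoped instance gmodK (X : _root_.GrLC.GMod.{u} 𝒜) : Module k X.carrier :=
  Module.compHom X.carrier (algebraMap k R)

scoped instance gmodTower (X : _root_.GrLC.GMod.{u} 𝒜) : IsScalarTower k R X.carrier :=
  IsScalarTower.of_algebraMap_smul fun _ _ => rfl

variable {M : Type u} [AddCommGroup M] [Module R M] [Module k M] [IsScalarTower k R M]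
  {τ : Type u} [SetLike τ M] [AddSubgroupClass τ M] (ℳ : ℤ → τ) [DirectSum.Decomposition ℳ]
  [SetLike.GradedSMul 𝒜 ℳ]

variable (𝒜) in
/-- a piece as a subspace -/
def kPc (d : ℤ) : Submodule k M where
  carrier := (ℳ d : Set M)
  add_mem' := add_mem
  zero_mem' := zero_mem _
  smul_mem' c _ hx := ksmul_mem (𝒜 := 𝒜) ℳ c hx

variable (𝒜) in
/-- the component as a map to the piece -/
def kPr (d : ℤ) : M →ₗ[k] kPc 𝒜 ℳ d := (cptₗ 𝒜 ℳ d).codRestrict _ fun x => cpt_mem ℳ d x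

theorem kPr_comp (d : ℤ) : (kPr 𝒜 ℳ d).comp (kPc 𝒜 ℳ d).subtype = LinearMap.id :=
  LinearMap.ext fun x => Subtype.ext (cpt_of_mem ℳ x.2)

/-- finite products of graded modules -/
def piGMod {κ : Type} [Fintype κ] [DecidableEq κ] (W : κ → _root_.GrLC.GMod.{u} 𝒜) :
    _root_.GrLC.GMod.{u} 𝒜 :=
  { carrier := (p : κ) → (W p).carrier
    gr := fun g => AddSubgroup.pi Set.univ fun p => (W p).gr g
    dec := (isInternal_of_proj (fun g => AddSubgroup.pi Set.univ fun p => (W p).gr g)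
      (fun g => AddMonoidHom.mk' (fun x p => cpt (W p).gr g (x p))
        fun x y => funext fun p => map_add _ _ _)
      (fun _ _ hx => funext fun p => cpt_of_mem _ (hx p (Set.mem_univ p)))
      (fun _ _ _ hx hne => funext fun p => cpt_of_mem_ne _ (hx p (Set.mem_univ p)) hne)
      (fun x => by
        rw [← Finset.univ_sum_single x]
        refine sum_mem fun p _ => ?_
        induction x p using homogeneous_induction (W p).gr with
        | zero => rw [Pi.single_zero]; exact zero_mem _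
        | add a b ha hb => rw [Pi.single_add]; exact add_mem ha hb
        | hom g m hm =>
          refine AddSubgroup.mem_iSup_of_mem g fun q _ => ?_
          by_cases h : q = p
          · subst h; rw [Pi.single_eq_same]; exact hm
          · rw [Pi.single_eq_of_ne h]; exact zero_mem ((W q).gr g))).chooseDecomposition
    gsmul := ⟨fun _ _ _ _ hr hx p _ => smul_mem_gr (ℳ := (W p).gr) hr (hx p (Set.mem_univ p))⟩ }

theorem mem_gam_pi {κ : Type} [Fintype κ] [DecidableEq κ] (W : κ → _root_.GrLC.GMod.{u} 𝒜)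
    (I : Ideal R) (z : (piGMod W).carrier) :
    z ∈ _root_.GrLC.gam I (piGMod W).carrier ↔ ∀ p, z p ∈ _root_.GrLC.gam I (W p).carrier := by
  refine ⟨fun ⟨n, hn⟩ p => ⟨n, fun r hr => congrFun (hn r hr) p⟩, fun h => ?_⟩
  choose n hn using h
  exact ⟨Finset.univ.sup n, fun r hr => funext fun p =>
    hn p r (Ideal.pow_le_pow_right (Finset.le_sup (Finset.mem_univ p)) hr)⟩

theorem subsingleton_H_pi [IsNoetherianRing R] {κ : Type} [Fintype κ] [DecidableEq κ]
    (W : κ → _root_.GrLC.GMod.{u} 𝒜) (I : Ideal R) (q : ℕ)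
    (h : ∀ p, Subsingleton (LocCoh.H I q (W p).carrier)) :
    Subsingleton (LocCoh.H I q (piGMod W).carrier) := by
  refine subsingleton_of_forall_eq 0 fun x => ?_
  let pr : ∀ p, (piGMod W).carrier →ₗ[R] (W p).carrier := fun p => LinearMap.proj p
  let si : ∀ p, (W p).carrier →ₗ[R] (piGMod W).carrier := fun p =>
    LinearMap.single R (fun p => (W p).carrier) p
  have hid : (LinearMap.id : (piGMod W).carrier →ₗ[R] _) = ∑ p, si p ∘ₗ pr p :=
    LinearMap.ext fun z => by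
      rw [LinearMap.sum_apply]
      exact (Finset.univ_sum_single (M := fun p => (W p).carrier) z).symm
  rw [← LocCohElt.map_id I q x, hid, H_map_sum]
  refine Finset.sum_eq_zero fun p _ => ?_
  rw [← LocCohElt.map_comp, (h p).elim (LocCohElt.map I q (pr p) x) 0, map_zero]

variable {G : GrRes 𝒜 ℳ}

/-- a resolution restricted to a degree, with its torsion subcomplex -/
abbrev pcx (G : GrRes 𝒜 ℳ) (d : ℤ) : Cx k where
  X n := ModuleCat.of k (kPc 𝒜 (G.X n).gr d)
  d n := (((G.d n).restrictScalars k).comp (kPc 𝒜 (G.X n).gr d).subtype).codRestrict _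
    fun x => G.d_grHom n d x.1 x.2
  dd n x := Subtype.ext (show G.d (n + 1) (G.d n x.1) = 0 by
    rw [← LinearMap.mem_ker, G.exact_succ]; exact ⟨x.1, rfl⟩)

/-- the pair (piece, torsion of the piece) -/
def pairAt (G : GrRes 𝒜 ℳ) (I : Ideal R) (d : ℤ) : Pair k where
  C := pcx ℳ G d
  S n := ((_root_.GrLC.gam I (G.X n).carrier).restrictScalars k).comap (kPc 𝒜 (G.X n).gr d).subtype
  hS n x hx := by
    obtain ⟨m, hm⟩ := hx
    exact ⟨m, fun r hr => by
      change r • G.d n x.1 = 0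
      rw [← map_smul]
      exact (congrArg (G.d n) (hm r hr)).trans (map_zero _)⟩
  M := ModuleCat.of k (kPc 𝒜 ℳ d)
  ε := ((G.ε.restrictScalars k).comp (kPc 𝒜 ℳ d).subtype).codRestrict _ fun x => G.ε_grHom d x.1 x.2
  hε x y h := Subtype.ext (G.ε_injective (congrArg Subtype.val h))
  h0 := by
    refine le_antisymm (fun x hx => ?_) ?_
    · obtain ⟨p, hp⟩ := G.exact_zero.le (show x.1 ∈ LinearMap.ker (G.d 0) from congrArg Subtype.val hx)
      refine ⟨⟨cpt ℳ d p, cpt_mem ℳ d p⟩, Subtype.ext ?_⟩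
      change G.ε (cpt ℳ d p) = x.1
      rw [map_cpt G.ε_grHom, hp]
      exact cpt_of_mem _ x.2
    · rintro _ ⟨p, rfl⟩
      exact Subtype.ext (G.exact_zero.ge ⟨p.1, rfl⟩)
  hex n := (pcx ℳ G d).subsingleton_H_iff.2 fun x hx => by
    obtain ⟨y, hy⟩ := (G.exact_succ n).le (show x.1 ∈ LinearMap.ker (G.d (n + 1)) from congrArg Subtype.val hx)
    refine ⟨⟨cpt (G.X n).gr d y, cpt_mem (G.X n).gr d y⟩, Subtype.ext ?_⟩
    change G.d n (cpt (G.X n).gr d y) = x.1
    rw [map_cpt (G.d_grHom n), hy]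
    exact cpt_of_mem _ x.2

/-- classes in local cohomology from a complex presenting the torsion of a degree -/
theorem GrRes.exists_classMap (G : GrRes 𝒜 ℳ) (a : HomogeneousIdeal 𝒜)
    (E : _root_.GrLC.StarInjRes 𝒜 ℳ) {n : ℕ}
    (κ : G.cocyc a n →ₗ[R] E.H a n) (hker : ∀ z, κ z = 0 ↔ z.1 ∈ G.cobdy a n)
    (hgr : ∀ (g : ℤ) (z : G.cocyc a n), z.1 ∈ (G.X n).gr g → κ z ∈ E.Hgr a n g)
    (honto : ∀ (g : ℤ), ∀ x ∈ E.Hgr a n g, ∃ z : G.cocyc a n, z.1 ∈ (G.X n).gr g ∧ κ z = x)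
    {A : Cx k} (g : ℤ) (L : ∀ j, A.X j →ₗ[k] (G.X j).carrier)
    (hinj : ∀ j, Function.Injective (L j)) (hmem : ∀ j x, L j x ∈ (G.X j).gr g)
    (htor : ∀ j x, L j x ∈ _root_.GrLC.gam a.toIdeal (G.X j).carrier)
    (hL : ∀ j, ∀ z ∈ (G.X j).gr g, z ∈ _root_.GrLC.gam a.toIdeal (G.X j).carrier → ∃ x, L j x = z)
    (hcomm : ∀ j x, L (j + 1) (A.d j x) = G.d j (L j x)) :
    ∃ Λ : A.H n →ₗ[k] E.H a n, Function.Injective Λ ∧ (∀ x, Λ x ∈ E.Hgr a n g) ∧
      (∀ y ∈ E.Hgr a n g, ∃ x, Λ x = y) ∧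
      ∀ (z : LinearMap.ker (A.d n)) (w : G.cocyc a n), w.1 = L n z.1 → Λ (A.cls n z) = κ w := by
  have hcoc : ∀ z : LinearMap.ker (A.d n), L n z.1 ∈ G.cocyc a n := fun z => ⟨htor n z.1, by
    change G.d n (L n z.1) = 0
    rw [← hcomm, show A.d n z.1 = 0 from z.2, map_zero]⟩
  let f : LinearMap.ker (A.d n) →ₗ[k] E.H a n :=
    { toFun := fun z => κ ⟨L n z.1, hcoc z⟩
      map_add' := fun x y => by rw [← map_add κ]; exact congrArg κ (Subtype.ext (map_add (L n) _ _))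
      map_smul' := fun c x => by
        rw [RingHom.id_apply, ← algebraMap_smul R c (κ ⟨L n x.1, hcoc x⟩), ← map_smul κ]
        exact congrArg κ (Subtype.ext ((map_smul (L n) c x.1).trans (algebraMap_smul R c _).symm)) }
  have hB : ∀ z : LinearMap.ker (A.d n), f z = 0 ↔ z.1 ∈ A.B n := by
    intro z
    refine (hker _).trans ?_
    rcases n with - | n
    · exact ⟨fun h => (Submodule.mem_bot k).2 (hinj 0 (h.trans (map_zero (L 0)).symm)),
        fun h => by
          change L 0 z.1 = 0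
          rw [show z.1 = 0 from (Submodule.mem_bot k).1 h, map_zero]⟩
    · refine ⟨fun ⟨y, hy, hyz⟩ => ?_, fun ⟨x, hx⟩ => ⟨L n x, htor n x, by rw [← hcomm, hx]⟩⟩
      obtain ⟨x, hx⟩ := hL n (cpt (G.X n).gr g y) (cpt_mem _ g y) (isHomogeneous_gam a g hy)
      refine ⟨x, hinj (n + 1) ?_⟩
      rw [hcomm, hx, map_cpt (G.d_grHom n), hyz]
      exact cpt_of_mem _ (hmem (n + 1) z.1)
  refine ⟨Submodule.liftQ _ f (fun z hz => (hB z).2 hz), ?_, fun x => ?_, fun y hy => ?_, fun z w hw => ?_⟩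
  · refine (injective_iff_map_eq_zero _).2 fun x hx => ?_
    obtain ⟨z, rfl⟩ := A.cls_surjective n x
    exact (A.cls_eq_zero_iff z).2 ((hB z).1 hx)
  · obtain ⟨z, rfl⟩ := A.cls_surjective n x
    exact hgr g _ (hmem n z.1)
  · obtain ⟨w, hw, rfl⟩ := honto g y hy
    obtain ⟨x, hx⟩ := hL n w.1 hw w.2.1
    have hxd : A.d n x = 0 := hinj (n + 1) (by
      rw [hcomm, hx, map_zero]
      exact w.2.2)
    exact ⟨A.cls n ⟨x, hxd⟩, congrArg κ (Subtype.ext hx)⟩
  · exact congrArg κ (Subtype.ext hw.symm)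

end Generic

namespace Cx

variable {C C' D D' : Cx k} (f : ∀ n, C.X n →ₗ[k] C'.X n) (g : ∀ n, D.X n →ₗ[k] D'.X n)

/-- tensor of chain maps -/
def tmap (n : ℕ) : C.T D n →ₗ[k] C'.T D' n :=
  LinearMap.pi fun p => (TensorProduct.map (f p.1.1) (g p.1.2)).comp (LinearMap.proj p)

theorem map_square {A A' B B' C₁ C₁' E₁ E₁' : Type u} [AddCommGroup A] [Module k A] [AddCommGroup A']
    [Module k A'] [AddCommGroup B] [Module k B] [AddCommGroup B'] [Module k B'] [AddCommGroup C₁]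
    [Module k C₁] [AddCommGroup C₁'] [Module k C₁'] [AddCommGroup E₁] [Module k E₁] [AddCommGroup E₁']
    [Module k E₁'] (g : A →ₗ[k] B) (g' : A' →ₗ[k] B') (f : B →ₗ[k] E₁) (f' : B' →ₗ[k] E₁')
    (e : A →ₗ[k] C₁) (e' : A' →ₗ[k] C₁') (h : C₁ →ₗ[k] E₁) (h' : C₁' →ₗ[k] E₁')
    (hs : f.comp g = h.comp e) (hs' : f'.comp g' = h'.comp e') (u : A ⊗[k] A') :
    TensorProduct.map f f' (TensorProduct.map g g' u) =
      TensorProduct.map h h' (TensorProduct.map e e' u) := by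
  rw [map_map', map_map', hs, hs']

theorem tmap_apply (n : ℕ) (z : C.T D n) (p : Idx n) :
    tmap f g n z p = TensorProduct.map (f p.1.1) (g p.1.2) (z p) := rfl

theorem tmap_tD (hf : ∀ n, (f (n + 1)).comp (C.d n) = (C'.d n).comp (f n))
    (hg : ∀ n, (g (n + 1)).comp (D.d n) = (D'.d n).comp (g n)) (n : ℕ) (z : C.T D n) :
    tmap f g (n + 1) (C.tD D n z) = C'.tD D' n (tmap f g n z) := by
  funext p
  obtain ⟨⟨a, b⟩, h⟩ := p
  rw [tmap_apply, tD_apply, tD_apply, map_add]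
  congr 1
  · rcases a with - | a
    · simp [hpart]
    · simp [hpart, tmap_apply, map_map', hf]
  · rcases b with - | b
    · simp [vpart]
    · simp [vpart, tmap_apply, map_map', hg]

end Cx

section Segre

variable {R S : Type u} [CommRing R] [CommRing S] [Algebra k R] [Algebra k S]
  {𝒜 : ℤ → Submodule k R} [GradedAlgebra 𝒜] {ℬ : ℤ → Submodule k S} [GradedAlgebra ℬ]
  {T : Type u} [CommRing T] [Algebra k T] {𝒯 : ℤ → Submodule k T} [GradedAlgebra 𝒯]
  {ψ : T →ₐ[k] R ⊗[k] S} [IsNoetherianRing T] [IsNoetherianRing (R ⊗[k] S)]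
  (hT : _root_.GrSeg.IsSegreRing 𝒜 ℬ 𝒯 ψ)
variable {M N : Type u} [AddCommGroup M] [Module R M] [Module k M] [IsScalarTower k R M]
  [AddCommGroup N] [Module S N] [Module k N] [IsScalarTower k S N]
  {τ τ' : Type u} [SetLike τ M] [AddSubgroupClass τ M] [SetLike τ' N] [AddSubgroupClass τ' N]
  {ℳ : ℤ → τ} [DirectSum.Decomposition ℳ] [SetLike.GradedSMul 𝒜 ℳ]
  {𝒩 : ℤ → τ'} [DirectSum.Decomposition 𝒩] [SetLike.GradedSMul ℬ 𝒩]
variable {P : Type u} [AddCommGroup P] [Module T P] [Module k P] [IsScalarTower k T P]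
  {τQ : Type u} [SetLike τQ P] [AddSubgroupClass τQ P] {𝒬 : ℤ → τQ} [DirectSum.Decomposition 𝒬]
  [SetLike.GradedSMul 𝒯 𝒬] {φ : P →ₗ[k] M ⊗[k] N}

variable (𝒜 ℬ) in
theorem range_map_kPc (ℳ : ℤ → τ) [DirectSum.Decomposition ℳ] [SetLike.GradedSMul 𝒜 ℳ]
    (𝒩 : ℤ → τ') [DirectSum.Decomposition 𝒩] [SetLike.GradedSMul ℬ 𝒩] (d : ℤ) :
    LinearMap.range (TensorProduct.map (kPc 𝒜 ℳ d).subtype (kPc ℬ 𝒩 d).subtype) =
      _root_.GrSeg.segrePiece k ℳ 𝒩 d := by
  refine le_antisymm ?_ (Submodule.span_le.2 ?_)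
  · rintro _ ⟨u, rfl⟩
    induction u using TensorProduct.induction_on with
    | zero => rw [map_zero]; exact zero_mem _
    | add x y hx hy => rw [map_add]; exact add_mem hx hy
    | tmul x y => exact Submodule.subset_span ⟨x.1, x.2, y.1, y.2, rfl⟩
  · rintro _ ⟨a, ha, b, hb, rfl⟩
    exact ⟨(⟨a, ha⟩ : kPc 𝒜 ℳ d) ⊗ₜ[k] (⟨b, hb⟩ : kPc ℬ 𝒩 d), rfl⟩

/-- the chosen Segre product of two graded modules -/
def segQ (X : _root_.GrLC.GMod.{u} 𝒜) (Y : _root_.GrLC.GMod.{u} ℬ) : _root_.GrLC.GMod.{u} 𝒯 :=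
  (exists_segre 𝒜 ℬ X.gr Y.gr hT).choose

/-- its embedding -/
def segPhi (X : _root_.GrLC.GMod.{u} 𝒜) (Y : _root_.GrLC.GMod.{u} ℬ) :
    (segQ hT X Y).carrier →ₗ[k] X.carrier ⊗[k] Y.carrier :=
  (exists_segre 𝒜 ℬ X.gr Y.gr hT).choose_spec.choose

theorem segPhi_spec (X : _root_.GrLC.GMod.{u} 𝒜) (Y : _root_.GrLC.GMod.{u} ℬ) :
    _root_.GrSeg.IsSegreMod ψ X.gr Y.gr (segQ hT X Y).gr (segPhi hT X Y) :=
  (exists_segre 𝒜 ℬ X.gr Y.gr hT).choose_spec.choose_spec

variable (G : GrRes 𝒜 ℳ) (G' : GrRes ℬ 𝒩)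

/-- terms of the total resolution -/
abbrev totW (n : ℕ) (p : Cx.Idx n) : _root_.GrLC.GMod.{u} 𝒯 := segQ hT (G.X p.1.1) (G'.X p.1.2)

/-- the total resolution -/
abbrev totX (n : ℕ) : _root_.GrLC.GMod.{u} 𝒯 := piGMod (totW hT G G' n)

omit [IsNoetherianRing T] [IsNoetherianRing (R ⊗[k] S)] in
theorem deg_zero {X X' : Type u} [AddCommGroup X] [Module R X] [AddCommGroup X'] [Module R X']
    {σ₁ σ₂ : Type u} [SetLike σ₁ X] [SetLike σ₂ X'] {𝒳 : ℤ → σ₁} {𝒳' : ℤ → σ₂} {f : X →ₗ[R] X'}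
    (hf : _root_.GrLC.IsGrHom 𝒳 𝒳' f) : _root_.GrLC.IsGrHomDeg 𝒳 𝒳' f 0 :=
  fun j x hx => by rw [add_zero]; exact hf j x hx

theorem exists_dh (a b : ℕ) : ∃ h : (segQ hT (G.X a) (G'.X b)).carrier →ₗ[T]
    (segQ hT (G.X (a + 1)) (G'.X b)).carrier,
    (∀ q, segPhi hT (G.X (a + 1)) (G'.X b) (h q) = TensorProduct.map ((G.d a).restrictScalars k)
      LinearMap.id (segPhi hT (G.X a) (G'.X b) q)) ∧
    _root_.GrLC.IsGrHomDeg (segQ hT (G.X a) (G'.X b)).gr (segQ hT (G.X (a + 1)) (G'.X b)).gr h 0 :=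
  exists_segMap _ _ _ _ (segPhi_spec hT _ _) (segPhi_spec hT _ _) (deg_zero (G.d_grHom a))
    (g := LinearMap.id) (fun j x hx => by rw [add_zero]; exact hx)

theorem exists_dv (a b : ℕ) : ∃ h : (segQ hT (G.X a) (G'.X b)).carrier →ₗ[T]
    (segQ hT (G.X a) (G'.X (b + 1))).carrier,
    (∀ q, segPhi hT (G.X a) (G'.X (b + 1)) (h q) = TensorProduct.map LinearMap.id
      ((G'.d b).restrictScalars k) (segPhi hT (G.X a) (G'.X b) q)) ∧
    _root_.GrLC.IsGrHomDeg (segQ hT (G.X a) (G'.X b)).gr (segQ hT (G.X a) (G'.X (b + 1))).gr h 0 :=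
  exists_segMap _ _ _ _ (segPhi_spec hT _ _) (segPhi_spec hT _ _)
    (f := LinearMap.id) (fun j x hx => by rw [add_zero]; exact hx)
    (fun j x hx => by rw [add_zero]; exact G'.d_grHom b j x hx)

/-- horizontal differential -/
def totH (n : ℕ) : ∀ p : Cx.Idx (n + 1), (totX hT G G' n).carrier →ₗ[T] (totW hT G G' (n + 1) p).carrier
  | ⟨(0, _), _⟩ => 0
  | ⟨(a + 1, b), h⟩ => (exists_dh hT G G' a b).choose.comp
      (LinearMap.proj (φ := fun p => (totW hT G G' n p).carrier) (⟨(a, b), by omega⟩ : Cx.Idx n))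

/-- vertical differential -/
def totV (n : ℕ) : ∀ p : Cx.Idx (n + 1), (totX hT G G' n).carrier →ₗ[T] (totW hT G G' (n + 1) p).carrier
  | ⟨(_, 0), _⟩ => 0
  | ⟨(a, b + 1), h⟩ => (-1 : T) ^ a • (exists_dv hT G G' a b).choose.comp
      (LinearMap.proj (φ := fun p => (totW hT G G' n p).carrier) (⟨(a, b), by omega⟩ : Cx.Idx n))

/-- differential -/
def totD (n : ℕ) : (totX hT G G' n).carrier →ₗ[T] (totX hT G G' (n + 1)).carrier :=
  LinearMap.pi fun p => totH hT G G' n p + totV hT G G' n p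

theorem totD_grHom (n : ℕ) :
    _root_.GrLC.IsGrHom (totX hT G G' n).gr (totX hT G G' (n + 1)).gr (totD hT G G' n) := by
  intro g z hz p _
  obtain ⟨⟨a, b⟩, h⟩ := p
  change totH hT G G' n ⟨(a, b), h⟩ z + totV hT G G' n ⟨(a, b), h⟩ z ∈
    (totW hT G G' (n + 1) ⟨(a, b), h⟩).gr g
  refine add_mem ?_ ?_
  · rcases a with - | a
    · exact zero_mem _
    · have := (exists_dh hT G G' a b).choose_spec.2 g _
        (hz (⟨(a, b), by dsimp only at h; omega⟩ : Cx.Idx n) (Set.mem_univ _))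
      rw [add_zero] at this
      exact this
  · rcases b with - | b
    · exact zero_mem _
    · have := (exists_dv hT G G' a b).choose_spec.2 g _
        (hz (⟨(a, b), by dsimp only at h; omega⟩ : Cx.Idx n) (Set.mem_univ _))
      rw [add_zero] at this
      have h1 : (-1 : T) ^ a ∈ 𝒯 0 := by
        have := SetLike.pow_mem_graded a (neg_mem (SetLike.GradedOne.one_mem (A := 𝒯)))
        rwa [smul_zero] at this
      have := smul_mem_gr (ℳ := (totW hT G G' (n + 1) ⟨(a, b + 1), h⟩).gr) h1 this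
      rw [zero_add] at this
      exact this

/-- full terms of a resolution over `k` -/
abbrev fullCx {R : Type u} [CommRing R] [Algebra k R] {𝒜 : ℤ → Submodule k R} [GradedAlgebra 𝒜]
    {M : Type u} [AddCommGroup M] [Module R M] {τ : Type u} [SetLike τ M] [AddSubgroupClass τ M]
    {ℳ : ℤ → τ} (G : GrRes 𝒜 ℳ) : Cx k where
  X n := ModuleCat.of k (G.X n).carrier
  d n := (G.d n).restrictScalars k
  dd n x := show G.d (n + 1) (G.d n x) = 0 by rw [← LinearMap.mem_ker, G.exact_succ]; exact ⟨x, rfl⟩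

/-- the embedding of the total resolution into the full tensor products -/
def totPhi (n : ℕ) : (totX hT G G' n).carrier →ₗ[k] (fullCx G).T (fullCx G') n :=
  { toFun := fun z p => segPhi hT _ _ (z p)
    map_add' := fun x y => funext fun p => map_add (segPhi hT _ _) _ _
    map_smul' := fun c x => funext fun p => map_smul (segPhi hT _ _) c (x p) }

theorem totPhi_injective (n : ℕ) : Function.Injective (totPhi hT G G' n) := fun _ _ h =>
  funext fun p => (segPhi_spec hT _ _).injective (congrFun h p)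

theorem totPhi_totD (n : ℕ) (z : (totX hT G G' n).carrier) :
    totPhi hT G G' (n + 1) (totD hT G G' n z) = (fullCx G).tD (fullCx G') n (totPhi hT G G' n z) := by
  funext p
  obtain ⟨⟨a, b⟩, h⟩ := p
  rw [Cx.tD_apply]
  change segPhi hT _ _ (totH hT G G' n ⟨(a, b), h⟩ z + totV hT G G' n ⟨(a, b), h⟩ z) = _
  rw [map_add]
  congr 1
  · rcases a with - | a
    · simp [totH, Cx.hpart]
    · exact (exists_dh hT G G' a b).choose_spec.1 _
  · rcases b with - | b
    · simp [totV, Cx.vpart]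
    · change segPhi hT (G.X a) (G'.X (b + 1)) ((-1 : T) ^ a • (exists_dv hT G G' a b).choose _) =
        (-1 : k) ^ a • TensorProduct.map LinearMap.id ((G'.d b).restrictScalars k) _
      rw [show (-1 : T) ^ a = algebraMap k T ((-1) ^ a) by rw [map_pow, map_neg, map_one],
        algebraMap_smul, map_smul, (exists_dv hT G G' a b).choose_spec.1]
      rfl

theorem totD_totD (n : ℕ) (z : (totX hT G G' n).carrier) :
    totD hT G G' (n + 1) (totD hT G G' n z) = 0 :=
  totPhi_injective hT G G' (n + 2) (by rw [totPhi_totD, totPhi_totD, Cx.tD_tD, map_zero])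

variable (d : ℤ)

/-- inclusion of the degree-`d` tensor complex -/
def totJ (n : ℕ) : (pcx ℳ G d).T (pcx 𝒩 G' d) n →ₗ[k] (fullCx G).T (fullCx G') n :=
  Cx.tmap (C := pcx ℳ G d) (C' := fullCx G) (D := pcx 𝒩 G' d) (D' := fullCx G')
    (fun i => (kPc 𝒜 (G.X i).gr d).subtype) (fun i => (kPc ℬ (G'.X i).gr d).subtype) n

theorem totJ_injective (n : ℕ) : Function.Injective (totJ G G' d n) := fun _ _ h => funext fun p =>
  TensorProduct.map_injective_of_flat_flat _ _ (Submodule.injective_subtype _)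
    (Submodule.injective_subtype _) (congrFun h p)

theorem totJ_tD (n : ℕ) (y : (pcx ℳ G d).T (pcx 𝒩 G' d) n) :
    totJ G G' d (n + 1) ((pcx ℳ G d).tD (pcx 𝒩 G' d) n y) =
      (fullCx G).tD (fullCx G') n (totJ G G' d n y) :=
  Cx.tmap_tD _ _ (fun _ => rfl) (fun _ => rfl) n y

theorem exists_totL (n : ℕ) :
    ∃ L : (pcx ℳ G d).T (pcx 𝒩 G' d) n →ₗ[k] (totX hT G G' n).carrier,
      (∀ y, totPhi hT G G' n (L y) = totJ G G' d n y) ∧ (∀ y, L y ∈ (totX hT G G' n).gr d) ∧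
      ∀ z ∈ (totX hT G G' n).gr d, ∃ y, L y = z := by
  have h1 : ∀ y p, ∃ q ∈ (totW hT G G' n p).gr d, segPhi hT _ _ q = totJ G G' d n y p := fun y p =>
    exists_mem_eq _ _ (segPhi_spec hT _ _) ((range_map_kPc 𝒜 ℬ (G.X p.1.1).gr (G'.X p.1.2).gr d).le
      ⟨y p, rfl⟩)
  choose q hq hq' using h1
  have hΦ : ∀ y, totPhi hT G G' n (fun p => q y p) = totJ G G' d n y := fun y => funext (hq' y)
  refine ⟨{ toFun := fun y p => q y p
            map_add' := fun x y => totPhi_injective hT G G' n ((hΦ (x + y)).trans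
              (((map_add (totJ G G' d n) x y).trans (congrArg₂ (· + ·) (hΦ x).symm (hΦ y).symm)).trans
                (map_add (totPhi hT G G' n) (fun p => q x p) (fun p => q y p)).symm))
            map_smul' := fun c y => totPhi_injective hT G G' n ((hΦ (c • y)).trans
              (((map_smul (totJ G G' d n) c y).trans (congrArg (c • ·) (hΦ y).symm)).trans
                (map_smul (totPhi hT G G' n) c (fun p => q y p)).symm)) },
    hΦ, fun y p _ => hq y p, fun z hz => ?_⟩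
  have h2 : ∀ p, ∃ u, TensorProduct.map (kPc 𝒜 (G.X p.1.1).gr d).subtype
      (kPc ℬ (G'.X p.1.2).gr d).subtype u = segPhi hT _ _ (z p) := fun p =>
    (range_map_kPc 𝒜 ℬ (G.X p.1.1).gr (G'.X p.1.2).gr d).ge
      (mem_segrePiece_of_mem _ _ (segPhi_spec hT _ _) (hz p (Set.mem_univ p)))
  choose u hu using h2
  exact ⟨u, totPhi_injective hT G G' n ((hΦ u).trans (funext hu))⟩

/-- the degree-`d` tensor complex inside the total resolution -/
def totL (n : ℕ) : (pcx ℳ G d).T (pcx 𝒩 G' d) n →ₗ[k] (totX hT G G' n).carrier :=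
  (exists_totL hT G G' d n).choose

theorem totPhi_totL (n : ℕ) (y : (pcx ℳ G d).T (pcx 𝒩 G' d) n) :
    totPhi hT G G' n (totL hT G G' d n y) = totJ G G' d n y :=
  (exists_totL hT G G' d n).choose_spec.1 y

theorem totL_mem (n : ℕ) (y : (pcx ℳ G d).T (pcx 𝒩 G' d) n) :
    totL hT G G' d n y ∈ (totX hT G G' n).gr d := (exists_totL hT G G' d n).choose_spec.2.1 y

theorem exists_totL_eq (n : ℕ) {z : (totX hT G G' n).carrier} (hz : z ∈ (totX hT G G' n).gr d) :
    ∃ y, totL hT G G' d n y = z := (exists_totL hT G G' d n).choose_spec.2.2 z hz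

theorem totL_injective (n : ℕ) : Function.Injective (totL hT G G' d n) := fun x y h =>
  totJ_injective G G' d n (by rw [← totPhi_totL hT, h, totPhi_totL])

theorem totL_tD (n : ℕ) (y : (pcx ℳ G d).T (pcx 𝒩 G' d) n) :
    totL hT G G' d (n + 1) ((pcx ℳ G d).tD (pcx 𝒩 G' d) n y) = totD hT G G' n (totL hT G G' d n y) :=
  totPhi_injective hT G G' (n + 1) (by rw [totPhi_totL, totJ_tD, totPhi_totD, totPhi_totL])

variable (mT : HomogeneousIdeal 𝒯) (hmT : mT.toIdeal = irrI 𝒯)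
  (hG : ∀ n, IsTame 𝒜 (G.X n).gr (irrI 𝒜)) (hG' : ∀ n, IsTame ℬ (G'.X n).gr (irrI ℬ))

include hmT hG hG' in
theorem totL_mem_gam_iff (n : ℕ) (y : (pcx ℳ G d).T (pcx 𝒩 G' d) n) :
    totL hT G G' d n y ∈ _root_.GrLC.gam mT.toIdeal (totX hT G G' n).carrier ↔
      y ∈ ((pairAt ℳ G (irrI 𝒜) d).tens (pairAt 𝒩 G' (irrI ℬ) d)).S n := by
  rw [mem_gam_pi]
  refine Iff.trans ?_ ((pairAt ℳ G (irrI 𝒜) d).mem_ker_tq_iff (pairAt 𝒩 G' (irrI ℬ) d) n y).symm
  refine forall_congr' fun p => ?_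
  rw [mem_gam_segre_iff 𝒜 ℬ _ _ hT (segPhi_spec hT _ _) mT hmT (hG p.1.1) (hG' p.1.2),
    show segPhi hT _ _ (totL hT G G' d n y p) = totJ G G' d n y p from congrFun (totPhi_totL hT G G' d n y) p]
  change TensorProduct.map _ _ (y p) ∈ gamTens k R S _ _ (irrI 𝒜) (irrI ℬ) ↔ _
  constructor
  · intro h
    have hy : y p = TensorProduct.map (kPr 𝒜 (G.X p.1.1).gr d) (kPr ℬ (G'.X p.1.2).gr d)
        (TensorProduct.map (kPc 𝒜 (G.X p.1.1).gr d).subtype (kPc ℬ (G'.X p.1.2).gr d).subtype (y p)) := by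
      rw [Cx.map_map', kPr_comp, kPr_comp, TensorProduct.map_id]
      rfl
    rw [hy]
    obtain ⟨_, ⟨u, rfl⟩, _, ⟨v, rfl⟩, huv⟩ := Submodule.mem_sup.1 h
    rw [← huv, map_add]
    clear huv h hy
    refine add_mem (Submodule.mem_sup_left ?_) (Submodule.mem_sup_right ?_)
    · induction u using TensorProduct.induction_on with
      | zero => rw [map_zero, map_zero]; exact zero_mem _
      | add a b ha hb => rw [map_add, map_add]; exact add_mem ha hb
      | tmul a b =>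
        exact ⟨kPr 𝒜 (G.X p.1.1).gr d a ⊗ₜ[k]
          (⟨kPr ℬ (G'.X p.1.2).gr d b.1, isHomogeneous_gam (ℳ := (G'.X p.1.2).gr)
            ⟨irrI ℬ, Ideal.homogeneous_span _ _ fun x hx => by
              obtain ⟨j, -, hj⟩ := Set.mem_iUnion₂.1 hx
              exact ⟨j, hj⟩⟩ d b.2⟩ : (pairAt 𝒩 G' (irrI ℬ) d).S p.1.2), rfl⟩
    · induction v using TensorProduct.induction_on with
      | zero => rw [map_zero, map_zero]; exact zero_mem _
      | add a b ha hb => rw [map_add, map_add]; exact add_mem ha hb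
      | tmul a b =>
        exact ⟨(⟨kPr 𝒜 (G.X p.1.1).gr d a.1, isHomogeneous_gam (ℳ := (G.X p.1.1).gr)
            ⟨irrI 𝒜, Ideal.homogeneous_span _ _ fun x hx => by
              obtain ⟨j, -, hj⟩ := Set.mem_iUnion₂.1 hx
              exact ⟨j, hj⟩⟩ d a.2⟩ : (pairAt ℳ G (irrI 𝒜) d).S p.1.1) ⊗ₜ[k]
          kPr ℬ (G'.X p.1.2).gr d b, rfl⟩
  · intro h
    obtain ⟨_, ⟨u, rfl⟩, _, ⟨v, rfl⟩, huv⟩ := Submodule.mem_sup.1 h
    rw [← huv]
    erw [map_add]
    clear huv h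
    refine add_mem (Submodule.mem_sup_left ?_) (Submodule.mem_sup_right ?_)
    · induction u using TensorProduct.induction_on with
      | zero => erw [map_zero]; exact zero_mem _
      | add a b ha hb => erw [map_add, map_add]; exact add_mem ha hb
      | tmul a b =>
        exact ⟨a.1 ⊗ₜ[k] (⟨b.1.1, b.2⟩ : (_root_.GrLC.gam (irrI ℬ) (G'.X p.1.2).carrier).restrictScalars k),
          rfl⟩
    · induction v using TensorProduct.induction_on with
      | zero => erw [map_zero]; exact zero_mem _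
      | add a b ha hb => erw [map_add, map_add]; exact add_mem ha hb
      | tmul a b =>
        exact ⟨(⟨a.1.1, a.2⟩ : (_root_.GrLC.gam (irrI 𝒜) (G.X p.1.1).carrier).restrictScalars k) ⊗ₜ[k] b.1,
          rfl⟩

variable (hP : _root_.GrSeg.IsSegreMod ψ ℳ 𝒩 𝒬 φ)

include hP in
theorem exists_totEps : ∃ e : P →ₗ[T] (totX hT G G' 0).carrier,
    _root_.GrLC.IsGrHom 𝒬 (totX hT G G' 0).gr e ∧
    ∀ p, totPhi hT G G' 0 (e p) Pair.i00 =
      TensorProduct.map (G.ε.restrictScalars k) (G'.ε.restrictScalars k) (φ p) := by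
  obtain ⟨h, hh, hhd⟩ := exists_segMap ℳ 𝒩 (G.X 0).gr (G'.X 0).gr hP (segPhi_spec hT _ _)
    (f := G.ε) (g := G'.ε) (c := 0) (fun j x hx => by rw [add_zero]; exact G.ε_grHom j x hx)
    (fun j x hx => by rw [add_zero]; exact G'.ε_grHom j x hx)
  refine ⟨LinearMap.pi fun p => match p with
    | ⟨(0, 0), _⟩ => h
    | ⟨(_ + 1, _), _⟩ => 0
    | ⟨(0, _ + 1), _⟩ => 0, fun g x hx p _ => ?_, hh⟩
  obtain ⟨⟨a, b⟩, hab⟩ := p
  obtain ⟨rfl, rfl⟩ : a = 0 ∧ b = 0 := by dsimp only at hab; omega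
  have := hhd g x hx
  rw [add_zero] at this
  exact this

include hP in
theorem totD_exact_succ (n : ℕ) :
    LinearMap.ker (totD hT G G' (n + 1)) = LinearMap.range (totD hT G G' n) := by
  refine le_antisymm (fun z hz => ?_) (by rintro _ ⟨x, rfl⟩; exact totD_totD hT G G' n x)
  rw [← sum_cpt (totX hT G G' (n + 1)).gr z]
  refine sum_mem fun g _ => ?_
  obtain ⟨y, hy⟩ := exists_totL_eq hT G G' g (n + 1) (cpt_mem (totX hT G G' (n + 1)).gr g z)
  have hd : (pcx ℳ G g).tD (pcx 𝒩 G' g) (n + 1) y = 0 := totL_injective hT G G' g (n + 2) (by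
    rw [totL_tD, hy, map_cpt (totD_grHom hT G G' (n + 1)), LinearMap.mem_ker.1 hz, map_zero, map_zero])
  obtain ⟨x, hx⟩ := ((pairAt ℳ G ⊥ g).tens (pairAt 𝒩 G' ⊥ g)).C.subsingleton_H_iff.1
    (((pairAt ℳ G ⊥ g).tens (pairAt 𝒩 G' ⊥ g)).hex n) y hd
  refine ⟨totL hT G G' g n x, ?_⟩
  exact ((totL_tD hT G G' g n x).symm.trans (congrArg _ hx)).trans hy

include hP in
theorem exists_totRes : ∃ e : P →ₗ[T] (totX hT G G' 0).carrier,
    (∀ p, totPhi hT G G' 0 (e p) Pair.i00 =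
      TensorProduct.map (G.ε.restrictScalars k) (G'.ε.restrictScalars k) (φ p)) ∧
    _root_.GrLC.IsGrHom 𝒬 (totX hT G G' 0).gr e ∧ Function.Injective e ∧
    LinearMap.ker (totD hT G G' 0) = LinearMap.range e := by
  obtain ⟨e, hegr, he⟩ := exists_totEps hT G G' hP
  have hflat : Function.Injective (TensorProduct.map (G.ε.restrictScalars k) (G'.ε.restrictScalars k)) :=
    TensorProduct.map_injective_of_flat_flat _ _ G.ε_injective G'.ε_injective
  refine ⟨e, he, hegr, fun x y h => hP.injective (hflat ?_), le_antisymm (fun z hz => ?_) ?_⟩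
  · rw [← he, ← he, h]
  · rw [← sum_cpt (totX hT G G' 0).gr z]
    refine sum_mem fun g _ => ?_
    obtain ⟨y, hy⟩ := exists_totL_eq hT G G' g 0 (cpt_mem (totX hT G G' 0).gr g z)
    have hd : (pcx ℳ G g).tD (pcx 𝒩 G' g) 0 y = 0 := totL_injective hT G G' g 1 (by
      rw [totL_tD, hy, map_cpt (totD_grHom hT G G' 0), LinearMap.mem_ker.1 hz, map_zero, map_zero])
    obtain ⟨u, hu⟩ := ((pairAt ℳ G ⊥ g).tens (pairAt 𝒩 G' ⊥ g)).h0.le hd
    obtain ⟨p, hp, hpu⟩ := exists_mem_eq ℳ 𝒩 hP ((range_map_kPc 𝒜 ℬ ℳ 𝒩 g).le ⟨u, rfl⟩)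
    refine ⟨p, ?_⟩
    rw [← hy, ← show (pairAt ℳ G ⊥ g).tε (pairAt 𝒩 G' ⊥ g) u = y from hu]
    refine totPhi_injective hT G G' 0 ?_
    refine Eq.trans ?_ (totPhi_totL hT G G' g 0 _).symm
    funext q
    obtain ⟨⟨a, b⟩, hab⟩ := q
    obtain ⟨rfl, rfl⟩ : a = 0 ∧ b = 0 := by dsimp only at hab; omega
    refine (he p).trans ?_
    change _ = TensorProduct.map _ _ (TensorProduct.map _ _ u)
    rw [hpu]
    exact Cx.map_square (kPc 𝒜 ℳ g).subtype (kPc ℬ 𝒩 g).subtype (G.ε.restrictScalars k)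
      (G'.ε.restrictScalars k) (pairAt ℳ G ⊥ g).ε (pairAt 𝒩 G' ⊥ g).ε (kPc 𝒜 (G.X 0).gr g).subtype
      (kPc ℬ (G'.X 0).gr g).subtype rfl rfl u
  · rintro _ ⟨p, rfl⟩
    refine totPhi_injective hT G G' 1 ?_
    rw [totPhi_totD, map_zero]
    have hc : ∀ q : Cx.Idx 0, totPhi hT G G' 0 (e p) q = totPhi hT G G' 0 (e p) q := fun _ => rfl
    refine Cx.tD_eq_zero _ _ _ (fun q => ?_) (fun q => ?_) <;> obtain ⟨⟨a, b⟩, hab⟩ := q <;>
      obtain ⟨rfl, rfl⟩ : a = 0 ∧ b = 0 := (by dsimp only at hab; omega) <;>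
      change TensorProduct.map _ _ (totPhi hT G G' 0 (e p) Pair.i00) = 0 <;>
      rw [he] <;> refine (Cx.map_map' _ _ _ _ (φ p)).trans ?_
    · change TensorProduct.map (((fullCx G).d 0).comp (G.ε.restrictScalars k)) _ (φ p) = 0
      rw [show ((fullCx G).d 0).comp (G.ε.restrictScalars k) = 0 from
        LinearMap.ext fun m => G.exact_zero.ge ⟨m, rfl⟩, TensorProduct.map_zero_left]
      rfl
    · change TensorProduct.map _ (((fullCx G').d 0).comp (G'.ε.restrictScalars k)) (φ p) = 0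
      rw [show ((fullCx G').d 0).comp (G'.ε.restrictScalars k) = 0 from
        LinearMap.ext fun m => G'.exact_zero.ge ⟨m, rfl⟩, TensorProduct.map_zero_right]
      rfl

/-- the total resolution of `M # N` -/
def totRes : GrRes 𝒯 𝒬 where
  X := totX hT G G'
  d := totD hT G G'
  ε := (exists_totRes hT G G' hP).choose
  d_grHom := totD_grHom hT G G'
  ε_grHom := (exists_totRes hT G G' hP).choose_spec.2.1
  ε_injective := (exists_totRes hT G G' hP).choose_spec.2.2.1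
  exact_zero := (exists_totRes hT G G' hP).choose_spec.2.2.2
  exact_succ := totD_exact_succ hT G G' hP

include hmT hG hG' hP in
theorem totRes_acyclic (n q : ℕ) :
    Subsingleton (LocCoh.H mT.toIdeal (q + 1) ((totRes hT G G' hP).X n).carrier) :=
  subsingleton_H_pi _ _ _ fun p =>
    subsingleton_H_segre 𝒜 ℬ _ _ hT (segPhi_spec hT _ _) mT hmT (hG p.1.1) (hG' p.1.2) q

/-- the torsion part of the degree-`d` tensor complex inside the total resolution -/
def totLA (n : ℕ) : (((pairAt ℳ G (irrI 𝒜) d).tens (pairAt 𝒩 G' (irrI ℬ) d)).A).X n →ₗ[k]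
    ((totRes hT G G' hP).X n).carrier :=
  (totL hT G G' d n).comp (Submodule.subtype _)

include hmT hG hG' in
theorem totLA_props :
    (∀ j, Function.Injective (totLA hT G G' d hP j)) ∧
    (∀ j x, totLA hT G G' d hP j x ∈ ((totRes hT G G' hP).X j).gr d) ∧
    (∀ j x, totLA hT G G' d hP j x ∈ _root_.GrLC.gam mT.toIdeal ((totRes hT G G' hP).X j).carrier) ∧
    (∀ j, ∀ z ∈ ((totRes hT G G' hP).X j).gr d,
      z ∈ _root_.GrLC.gam mT.toIdeal ((totRes hT G G' hP).X j).carrier →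
      ∃ x, totLA hT G G' d hP j x = z) ∧
    ∀ j x, totLA hT G G' d hP (j + 1) ((((pairAt ℳ G (irrI 𝒜) d).tens (pairAt 𝒩 G' (irrI ℬ) d)).A).d j x) =
      (totRes hT G G' hP).d j (totLA hT G G' d hP j x) := by
  refine ⟨fun j x y h => Subtype.ext (totL_injective hT G G' d j h), fun j x => totL_mem hT G G' d j x.1,
    fun j x => (totL_mem_gam_iff hT G G' d mT hmT hG hG' j x.1).2 x.2, fun j z hz htz => ?_,
    fun j x => totL_tD hT G G' d j x.1⟩
  obtain ⟨y, rfl⟩ := exists_totL_eq hT G G' d j hz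
  exact ⟨⟨y, (totL_mem_gam_iff hT G G' d mT hmT hG hG' j y).1 htz⟩, rfl⟩

end Segre

end Groth.Agent.GrSegre
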